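import Cfsg.Agent.CG26.OW.Frame

/-!
# Ostrom-Wagner: coordinatisation
-/

set_option autoImplicit false
set_option linter.unusedSectionVars false

namespace Cfsg.Agent.CG26.OW

open Configuration

section Dot

variable {F : Type} [Field F]

/-- The functional with coefficients `w`. -/
def dot3 (w : Fin 3 → F) : (Fin 3 → F) →ₗ[F] F where
  toFun v := w 0 * v 0 + w 1 * v 1 + w 2 * v 2
  map_add' u v := by simp only [Pi.add_apply]; ring
  map_smul' c v := by simp only [Pi.smul_apply, smul_eq_mul, RingHom.id_apply]; ring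

theorem finrank_ker_dot3 {w : Fin 3 → F} (hw : w ≠ 0) :
    Module.finrank F (LinearMap.ker (dot3 w)) = 2 := by
  classical
  have hsurj : LinearMap.range (dot3 w) = ⊤ := by
    rw [LinearMap.range_eq_top]
    obtain ⟨i, hi⟩ := Function.ne_iff.1 hw
    intro c
    refine ⟨Pi.single i (c / w i), ?_⟩
    have hi' : w i ≠ 0 := hi
    fin_cases i <;> simp_all [dot3] <;> field_simp
  have h := LinearMap.finrank_range_add_finrank_ker (dot3 w)
  rw [hsurj, finrank_top, Module.finrank_self, Module.finrank_fin_fun] at h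
  omega

end Dot

variable {G P L : Type*} [Membership P L] [ProjectivePlane P L] [Group G] [Finite G]
  [MulAction G P] [MulAction G L] [PlaneAction G P L] [Finite P] [Finite L] [FaithfulSMul G P]

/-- Lines correspond to coordinate planes. -/
theorem coordinates_of_frame (hE : AllElations G P L) {N : Type*} [AddCommGroup N] [Finite N]
    [Nontrivial N] {a : L} {O X Y : P} (Fr : Frame G a O X Y N) (h1 : 1 ∈ Fr.slopes)
    (h1' : 1 ∈ Fr.swap.slopes) :
    ∃ (F : Type) (_ : Field F) (_ : Fintype F) (φ : P ≃ Projectivization F (Fin 3 → F)),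
      (∀ l : L, ∃ W : Submodule F (Fin 3 → F), Module.finrank F W = 2 ∧
          ∀ p : P, p ∈ l ↔ (φ p).submodule ≤ W) ∧
      (∀ W : Submodule F (Fin 3 → F), Module.finrank F W = 2 →
          ∃ l : L, ∀ p : P, p ∈ l ↔ (φ p).submodule ≤ W) := by
  classical
  obtain ⟨S₀, hS₀, hJ⟩ := Fr.jordanSet hE h1 h1'
  let Sr : Subring (AddMonoid.End N) :=
    { S₀ with
      one_mem' := hJ.one_mem
      mul_mem' := fun ha hb => (hJ.comm_closed ha hb).1 }
  have : Nontrivial Sr := ⟨⟨0, 1, fun h => end_one_ne_zero (congrArg Subtype.val h).symm⟩⟩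
  let _ : CommRing Sr :=
    { (inferInstance : Ring Sr) with
      mul_comm := fun x y => Subtype.ext (hJ.comm_closed x.2 y.2).2 }
  have : NoZeroDivisors Sr := ⟨fun {x y} h => by
    by_cases hx : x.1 = 0
    · exact Or.inl (Subtype.ext hx)
    · refine Or.inr (Subtype.ext (AddMonoidHom.ext fun n => hJ.inj _ x.2 hx ?_))
      exact (DFunLike.congr_fun (congrArg Subtype.val h) n).trans (map_zero _).symm⟩
  have : IsDomain Sr := NoZeroDivisors.to_isDomain Sr
  let _ : Field Sr := (Finite.isField_of_domain Sr).toField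
  obtain ⟨F, _, _, ⟨re⟩⟩ : ∃ (F : Type) (_ : Field F) (_ : Fintype F), Nonempty (F ≃+* Sr) :=
    ⟨Shrink.{0} Sr, inferInstance, Fintype.ofFinite _, ⟨(equivShrink.{0} Sr).symm.ringEquiv⟩⟩
  have : Nontrivial (AddMonoid.End N) := ⟨⟨1, 0, end_one_ne_zero⟩⟩
  let κ : F →+* AddMonoid.End N := Sr.subtype.comp re.toRingHom
  have hκ : ∀ M ∈ Fr.slopes, ∃ m : F, κ m = M := by
    intro M hM
    have hM' : M ∈ Sr := hS₀.ge hM
    exact ⟨re.symm ⟨M, hM'⟩,
      congrArg Subtype.val (re.apply_symm_apply _)⟩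
  have hκmem : ∀ m : F, κ m ∈ Fr.slopes := fun m => hS₀.le (re m).2
  obtain ⟨e, he⟩ := exists_ne (0 : N)
  let ρ : F →+ N :=
    { toFun := fun m => κ m e
      map_zero' := by rw [_root_.map_zero]; rfl
      map_add' := fun x y => by rw [_root_.map_add]; rfl }
  have ρinj : Function.Injective ρ := by
    refine (injective_iff_map_eq_zero ρ).2 fun x hx => ?_
    by_contra hne
    exact he (apply_coe_inj (ι := κ) hne hx)
  have ρsurj : Function.Surjective ρ := by
    intro y
    have hmem := Fr.mem (e, y)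
    obtain ⟨W, hW, htW⟩ := hmem.2
    have hWY : W ≠ Y := fun h => he ((Fr.snd (e, y)).1 (mem_dirGp.2 ⟨hmem, h ▸ htW⟩))
    obtain ⟨M, hM⟩ := Fr.exists_slope hE hW hWY
    obtain ⟨m, hm⟩ := hκ M ⟨W, hM⟩
    refine ⟨m, ?_⟩
    show κ m e = y
    rw [hm]
    exact ((hM.2.2 (e, y)).1 (mem_dirGp.2 ⟨hmem, htW⟩)).symm
  have ρmul : ∀ m x : F, ρ (m * x) = κ m (ρ x) := fun m x => by
    show κ (m * x) e = _
    rw [_root_.map_mul]
    rfl
  -- affine points
  let pt : F × F → P := fun v => Fr.toT (ρ v.1, ρ v.2) • O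
  have ptoff : ∀ v, pt v ∉ a := fun v => elA_smul_off (Fr.mem _) Fr.hO
  have ptinj : Function.Injective pt := by
    intro u v h
    have := Fr.inj (elA_eq_of_smul Fr.hO (Fr.mem _) (Fr.mem _) h)
    exact Prod.ext (ρinj (congrArg Prod.fst this)) (ρinj (congrArg Prod.snd this))
  have ptsurj : ∀ p : P, p ∉ a → ∃ v, pt v = p := by
    intro p hp
    obtain ⟨t, ht, htp⟩ := exists_translation hE Fr.hO hp
    obtain ⟨w, hw⟩ := Fr.surj t ht
    obtain ⟨x, hx⟩ := ρsurj w.1
    obtain ⟨y, hy⟩ := ρsurj w.2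
    exact ⟨(x, y), by simp only [pt, hx, hy]; rw [← htp, ← hw]⟩
  choose co hco using ptsurj
  have coeq : ∀ v, co (pt v) (ptoff v) = v := fun v => ptinj (hco _ _)
  -- points at infinity
  have hinf : ∀ W : P, W ∈ a → W ≠ Y → ∃ m : F, Fr.IsSlope W (κ m) := by
    intro W hW hWY
    obtain ⟨M, hM⟩ := Fr.exists_slope hE hW hWY
    obtain ⟨m, hm⟩ := hκ M ⟨W, hM⟩
    exact ⟨m, hm ▸ hM⟩
  choose sl hsl using hinf
  have κinj : Function.Injective κ := κ.injective
  let vec : P → (Fin 3 → F) := fun p =>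
    if hp : p ∈ a then (if hY : p = Y then ![0, 0, 1] else ![0, 1, sl p hp hY])
    else ![1, (co p hp).1, (co p hp).2]
  have vec_aff : ∀ v, vec (pt v) = ![1, v.1, v.2] := fun v => by
    simp only [vec, dif_neg (ptoff v), coeq]
  have vec_Y : vec Y = ![0, 0, 1] := by simp [vec, Fr.hY]
  have vec_inf : ∀ (W : P) (h1 : W ∈ a) (h2 : W ≠ Y), vec W = ![0, 1, sl W h1 h2] := fun W h1 h2 => by
    simp [vec, h1, h2]
  have trichotomy : ∀ p : P, (∃ v, pt v = p) ∨ (∃ (h1 : p ∈ a) (h2 : p ≠ Y), True) ∨ p = Y := by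
    intro p
    by_cases hp : p ∈ a
    · by_cases hY : p = Y
      · exact Or.inr (Or.inr hY)
      · exact Or.inr (Or.inl ⟨hp, hY, trivial⟩)
    · exact Or.inl ⟨co p hp, hco p hp⟩
  have vec_ne : ∀ p, vec p ≠ 0 := by
    intro p h
    rcases trichotomy p with ⟨v, rfl⟩ | ⟨h1, h2, -⟩ | rfl
    · rw [vec_aff] at h; simpa using congrFun h 0
    · rw [vec_inf p h1 h2] at h; simpa using congrFun h 1
    · rw [vec_Y] at h; simpa using congrFun h 2
  let ψ : P → Projectivization F (Fin 3 → F) := fun p => Projectivization.mk F (vec p) (vec_ne p)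
  have ψsurj : Function.Surjective ψ := by
    intro x
    set v := x.rep with hv
    have hv0 : v ≠ 0 := x.rep_nonzero
    have hx : x = Projectivization.mk F v hv0 := (Projectivization.mk_rep x).symm
    by_cases h0 : v 0 = 0
    · by_cases h1 : v 1 = 0
      · refine ⟨Y, ?_⟩
        rw [hx]
        refine (Projectivization.mk_eq_mk_iff' F _ _ _ _).2 ⟨(v 2)⁻¹, ?_⟩
        have h2 : v 2 ≠ 0 := fun h => hv0 (by funext i; fin_cases i <;> assumption)
        rw [vec_Y]
        funext i
        fin_cases i <;> simp [h0, h1, inv_mul_cancel₀ h2]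
      · obtain ⟨W, hW⟩ := hκmem (v 2 / v 1)
        refine ⟨W, ?_⟩
        rw [hx]
        refine (Projectivization.mk_eq_mk_iff' F _ _ _ _).2 ⟨(v 1)⁻¹, ?_⟩
        have hs : sl W hW.1 hW.2.1 = v 2 / v 1 := κinj (Fr.slope_unique (hsl W hW.1 hW.2.1) hW)
        rw [vec_inf W hW.1 hW.2.1, hs]
        funext i
        fin_cases i <;> simp [h0, h1, div_eq_inv_mul]
    · refine ⟨pt (v 1 / v 0, v 2 / v 0), ?_⟩
      rw [hx]
      refine (Projectivization.mk_eq_mk_iff' F _ _ _ _).2 ⟨(v 0)⁻¹, ?_⟩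
      rw [vec_aff]
      funext i
      fin_cases i <;> simp [h0, div_eq_inv_mul]
  have ψinj : Function.Injective ψ := by
    intro p q h
    obtain ⟨c, hc⟩ := (Projectivization.mk_eq_mk_iff' F _ _ _ _).1 h
    rcases trichotomy p with ⟨u, rfl⟩ | ⟨p1, p2, -⟩ | rfl <;>
      rcases trichotomy q with ⟨v, rfl⟩ | ⟨q1, q2, -⟩ | rfl
    · rw [vec_aff, vec_aff] at hc
      have e0 : c = 1 := by simpa using congrFun hc 0
      subst e0
      rw [one_smul] at hc
      exact congrArg pt (Prod.ext (congrFun hc 1).symm (congrFun hc 2).symm)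
    · rw [vec_aff, vec_inf q q1 q2] at hc; simpa using congrFun hc 0
    · rw [vec_aff, vec_Y] at hc; simpa using congrFun hc 0
    · rw [vec_aff, vec_inf p p1 p2] at hc
      have e0 : c = 0 := by simpa using congrFun hc 0
      subst e0
      simpa using congrFun hc 1
    · rw [vec_inf p p1 p2, vec_inf q q1 q2] at hc
      have e1 : c = 1 := by simpa using congrFun hc 1
      subst e1
      rw [one_smul] at hc
      have e2 : sl q q1 q2 = sl p p1 p2 := congrFun hc 2
      exact Fr.point_unique_of_slope (e2 ▸ hsl p p1 p2) (hsl q q1 q2)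
    · rw [vec_inf p p1 p2, vec_Y] at hc; simpa using congrFun hc 1
    · rw [vec_aff, vec_Y] at hc
      have e0 : c = 0 := by simpa using congrFun hc 0
      subst e0
      simpa using congrFun hc 2
    · rw [vec_inf q q1 q2, vec_Y] at hc
      have e0 : c = 0 := by simpa using congrFun hc 1
      subst e0
      simpa using congrFun hc 2
    · rfl
  let φ : P ≃ Projectivization F (Fin 3 → F) := Equiv.ofBijective ψ ⟨ψinj, ψsurj⟩
  have hφ : ∀ (p : P) (W : Submodule F (Fin 3 → F)), (φ p).submodule ≤ W ↔ vec p ∈ W := fun p W => by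
    show (Projectivization.mk F (vec p) (vec_ne p)).submodule ≤ W ↔ _
    rw [Projectivization.submodule_mk, Submodule.span_singleton_le_iff_mem]
  have hlines : ∀ l : L, ∃ w : Fin 3 → F, w ≠ 0 ∧ ∀ p : P, p ∈ l ↔ dot3 w (vec p) = 0 := by
    intro l
    by_cases hla : l = a
    · subst hla
      refine ⟨![1, 0, 0], fun h => by simpa using congrFun h 0, fun p => ?_⟩
      rcases trichotomy p with ⟨v, rfl⟩ | ⟨h1, h2, -⟩ | rfl
      · simp [dot3, vec_aff, ptoff v]
      · simp [dot3, vec_inf p h1 h2, h1]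
      · simp [dot3, vec_Y, Fr.hY]
    obtain ⟨W, hWl, hWa⟩ := exists_meet P l a
    obtain ⟨q, hql, hqW⟩ := exists_mem_ne P l W
    have hqa : q ∉ a := fun h => hqW (point_eq hla hql h hWl hWa)
    obtain ⟨u, hu⟩ : ∃ u, pt u = q := ⟨co q hqa, hco q hqa⟩
    obtain ⟨m₀, hOm, hWm⟩ := exists_join L O W
    set t := Fr.toT (ρ u.1, ρ u.2) with ht
    have htW : t • W = W := (Fr.mem _).1 W hWa
    have hlm : t • m₀ = l :=
      line_eq hqW (hu ▸ smul_mem t hOm) (mem_smul_of_fixed htW hWm) hql hWl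
    have haff : ∀ v : F × F, pt v ∈ l ↔ Fr.toT (ρ (v.1 - u.1), ρ (v.2 - u.2)) ∈ dirGp G a W := by
      intro v
      rw [← hlm, mem_smul_iff, mem_dirGp_iff_mem_line Fr.hO hWa hOm hWm (Fr.mem _)]
      simp only [pt, ← mul_smul, ht]
      rw [← Fr.map_neg, ← Fr.map_add]
      simp [neg_add_eq_sub]
    have hlinf : ∀ p : P, p ∈ a → (p ∈ l ↔ p = W) := fun p hp =>
      ⟨fun h => point_eq hla h hp hWl hWa, fun h => h ▸ hWl⟩
    by_cases hWY : W = Y
    · subst hWY
      refine ⟨![u.1, -1, 0], fun h => by simpa using congrFun h 1, fun p => ?_⟩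
      rcases trichotomy p with ⟨v, rfl⟩ | ⟨h1, h2, -⟩ | rfl
      · rw [haff, Fr.snd, map_eq_zero_iff ρ ρinj, vec_aff, sub_eq_zero]
        simp [dot3]
        constructor <;> intro h <;> linear_combination -h
      · simp [dot3, vec_inf p h1 h2, hlinf p h1, h2]
      · simp [dot3, vec_Y, hWl]
    · set m := sl W hWa hWY with hm
      have hsW := hsl W hWa hWY
      refine ⟨![u.2 - m * u.1, m, -1], fun h => by simpa using congrFun h 2, fun p => ?_⟩
      rcases trichotomy p with ⟨v, rfl⟩ | ⟨h1, h2, -⟩ | rfl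
      · rw [haff, hsW.2.2, vec_aff]
        show ρ (v.2 - u.2) = κ m (ρ (v.1 - u.1)) ↔ _
        rw [← ρmul, ρinj.eq_iff]
        simp [dot3]
        constructor <;> intro h <;> linear_combination -h
      · rw [hlinf p h1]
        simp only [dot3, vec_inf p h1 h2]
        simp [add_neg_eq_zero]
        constructor
        · rintro rfl; rw [hm]
        · intro h
          have : κ m = κ (sl p h1 h2) := by rw [h]
          exact Fr.point_unique_of_slope (hsl p h1 h2) (this ▸ hsW)
      · simp [dot3, vec_Y, hlinf p Fr.hY, Ne.symm hWY]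
  have hplane : ∀ l : L, ∃ W : Submodule F (Fin 3 → F), Module.finrank F W = 2 ∧
      ∀ p : P, p ∈ l ↔ (φ p).submodule ≤ W := by
    intro l
    obtain ⟨w, hw, h⟩ := hlines l
    exact ⟨LinearMap.ker (dot3 w), finrank_ker_dot3 hw, fun p => by rw [hφ, LinearMap.mem_ker, h]⟩
  refine ⟨F, inferInstance, inferInstance, φ, hplane, fun W hW => ?_⟩
  obtain ⟨x, hx, hx0⟩ := W.exists_mem_ne_zero_of_ne_bot (fun h => by rw [h, finrank_bot] at hW; omega)
  obtain ⟨y, hy, hyx⟩ : ∃ y ∈ W, y ∉ (F ∙ x : Submodule F (Fin 3 → F)) := by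
    by_contra hc
    push_neg at hc
    have := Submodule.finrank_mono (hc : W ≤ F ∙ x)
    rw [hW, finrank_span_singleton hx0] at this
    omega
  have hy0 : y ≠ 0 := fun h => hyx (h ▸ zero_mem _)
  set p := φ.symm (Projectivization.mk F x hx0) with hp
  set q := φ.symm (Projectivization.mk F y hy0) with hq
  obtain ⟨l, hpl, hql⟩ := exists_join L p q
  obtain ⟨W', hW', hl⟩ := hplane l
  have hxW' : x ∈ W' := by
    have := (hl p).1 hpl
    rwa [hp, Equiv.apply_symm_apply, Projectivization.submodule_mk,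
      Submodule.span_singleton_le_iff_mem] at this
  have hyW' : y ∈ W' := by
    have := (hl q).1 hql
    rwa [hq, Equiv.apply_symm_apply, Projectivization.submodule_mk,
      Submodule.span_singleton_le_iff_mem] at this
  have key : ∀ V : Submodule F (Fin 3 → F), Module.finrank F V = 2 → x ∈ V → y ∈ V →
      (F ∙ x) ⊔ (F ∙ y) = V := by
    intro V hV h1 h2
    refine Submodule.eq_of_le_of_finrank_le (sup_le ?_ ?_) ?_
    · exact (Submodule.span_singleton_le_iff_mem _ _).2 h1
    · exact (Submodule.span_singleton_le_iff_mem _ _).2 h2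
    · rw [hV]
      have hlt : (F ∙ x) < (F ∙ x) ⊔ (F ∙ y) :=
        lt_of_le_of_ne le_sup_left fun h => hyx (by
          rw [h]; exact Submodule.mem_sup_right (Submodule.mem_span_singleton_self y))
      have := Submodule.finrank_lt_finrank_of_lt hlt
      rw [finrank_span_singleton hx0] at this
      omega
  have hWW : W = W' := (key W hW hx hy).symm.trans (key W' hW' hxW' hyW')
  exact ⟨l, fun r => hWW ▸ hl r⟩

/-- A plane with all elations is Desarguesian. -/
theorem exists_coordinates (hE : AllElations G P L) :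
    ∃ (F : Type) (_ : Field F) (_ : Fintype F) (φ : P ≃ Projectivization F (Fin 3 → F)),
      (∀ l : L, ∃ W : Submodule F (Fin 3 → F), Module.finrank F W = 2 ∧
          ∀ p : P, p ∈ l ↔ (φ p).submodule ≤ W) ∧
      (∀ W : Submodule F (Fin 3 → F), Module.finrank F W = 2 →
          ∃ l : L, ∀ p : P, p ∈ l ↔ (φ p).submodule ≤ W) := by
  obtain ⟨a, O, X, Y, H, instN, Fr, hnt, h1, h1'⟩ := exists_frame hE
  exact @coordinates_of_frame _ _ _ _ _ _ _ _ _ _ _ _ _ hE _ instN inferInstance hnt _ _ _ _ Fr h1 h1'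

end Cfsg.Agent.CG26.OW
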