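import Mathlib

/-!
# Ostrom-Wagner: basic facts on finite projective planes with a group of collineations
-/

set_option autoImplicit false
set_option linter.unusedSectionVars false

namespace Cfsg.Agent.CG26.OW

open Configuration

section Plane

variable {P L : Type*} [Membership P L] [ProjectivePlane P L]

theorem line_eq {p q : P} {l m : L} (hpq : p ≠ q) (hpl : p ∈ l) (hql : q ∈ l) (hpm : p ∈ m)
    (hqm : q ∈ m) : l = m :=
  (Nondegenerate.eq_or_eq hpl hql hpm hqm).resolve_left hpq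

theorem point_eq {p q : P} {l m : L} (hlm : l ≠ m) (hpl : p ∈ l) (hpm : p ∈ m) (hql : q ∈ l)
    (hqm : q ∈ m) : p = q :=
  (Nondegenerate.eq_or_eq hpl hql hpm hqm).resolve_right hlm

variable (L) in
theorem exists_join (p q : P) : ∃ l : L, p ∈ l ∧ q ∈ l := by
  by_cases h : p = q
  · subst h
    by_contra hne
    push_neg at hne
    obtain ⟨a, b, c, la, -⟩ := @ProjectivePlane.exists_config P L _ _
    by_cases hp : p = a
    · subst hp
      by_cases hb : p = b
      · subst hb
        obtain ⟨p₁, p₂, p₃, l₁, l₂, l₃, h₁, -, -, h₄, -⟩ := @ProjectivePlane.exists_config P L _ _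
        by_cases hp₁ : p = p₂
        · subst hp₁; exact hne l₂ h₄ h₄
        · exact hne _ (HasLines.mkLine_ax (L := L) hp₁).1 (HasLines.mkLine_ax (L := L) hp₁).1
      · exact hne _ (HasLines.mkLine_ax (L := L) hb).1 (HasLines.mkLine_ax (L := L) hb).1
    · exact hne _ (HasLines.mkLine_ax (L := L) hp).1 (HasLines.mkLine_ax (L := L) hp).1
  · exact ⟨HasLines.mkLine h, HasLines.mkLine_ax h⟩

variable (P) in
theorem exists_meet (l m : L) : ∃ p : P, p ∈ l ∧ p ∈ m :=
  exists_join (P := Dual L) (Dual P) l m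

variable [Finite P] [Finite L]

variable (P L) in
theorem two_le_order : 2 ≤ ProjectivePlane.order P L := ProjectivePlane.one_lt_order P L

theorem ncard_line (l : L) : {p : P | p ∈ l}.ncard = ProjectivePlane.order P L + 1 := by
  rw [← Nat.card_coe_set_eq]
  exact ProjectivePlane.pointCount_eq P l

theorem ncard_pencil (p : P) : {l : L | p ∈ l}.ncard = ProjectivePlane.order P L + 1 := by
  rw [← Nat.card_coe_set_eq]
  exact ProjectivePlane.lineCount_eq L p

variable (P L) in
theorem natCard_points :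
    Nat.card P = ProjectivePlane.order P L ^ 2 + ProjectivePlane.order P L + 1 := by
  cases nonempty_fintype P
  rw [Nat.card_eq_fintype_card]
  exact ProjectivePlane.card_points P L

variable (P L) in
theorem natCard_lines :
    Nat.card L = ProjectivePlane.order P L ^ 2 + ProjectivePlane.order P L + 1 := by
  cases nonempty_fintype L
  rw [Nat.card_eq_fintype_card]
  exact ProjectivePlane.card_lines P L

variable (P) in
theorem ncard_off (l : L) : {p : P | p ∉ l}.ncard = ProjectivePlane.order P L ^ 2 := by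
  have h1 := ncard_line (P := P) l
  have h2 := natCard_points P L
  have h3 := Set.ncard_compl ({p : P | p ∈ l}) (Set.toFinite _)
  have h4 : {p : P | p ∉ l} = {p : P | p ∈ l}ᶜ := rfl
  rw [h4, h3, h1, h2]
  omega

variable (L) in
theorem ncard_lines_off (p : P) :
    {l : L | p ∉ l}.ncard = ProjectivePlane.order P L ^ 2 := by
  have h := ncard_off (Dual L) (L := Dual P) p
  rw [ProjectivePlane.Dual.order] at h
  exact h

variable (P) in
theorem exists_mem_ne₂ (l : L) (p q : P) : ∃ r : P, r ∈ l ∧ r ≠ p ∧ r ≠ q := by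
  by_contra h
  push_neg at h
  have hsub : {r : P | r ∈ l} ⊆ {p, q} := by
    intro r hr
    by_cases hrp : r = p
    · exact Or.inl hrp
    · exact Or.inr (h r hr hrp)
  have h1 := Set.ncard_le_ncard hsub (Set.toFinite _)
  have h2 : ({p, q} : Set P).ncard ≤ 2 := by
    refine (Set.ncard_insert_le _ _).trans ?_
    simp
  have := ncard_line (P := P) l
  have := two_le_order P L
  omega

variable (P) in
theorem exists_mem_ne (l : L) (p : P) : ∃ r : P, r ∈ l ∧ r ≠ p := by
  obtain ⟨r, h1, h2, -⟩ := exists_mem_ne₂ P l p p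
  exact ⟨r, h1, h2⟩

variable (L) in
theorem exists_line_ne₂ (p : P) (l m : L) : ∃ k : L, p ∈ k ∧ k ≠ l ∧ k ≠ m :=
  exists_mem_ne₂ (Dual L) (L := Dual P) p l m

variable (L) in
theorem exists_line_ne (p : P) (l : L) : ∃ k : L, p ∈ k ∧ k ≠ l :=
  exists_mem_ne (Dual L) (L := Dual P) p l

variable (P) in
theorem exists_not_mem (l : L) : ∃ p : P, p ∉ l := Nondegenerate.exists_point l

/-- There is a point on neither of two given lines. -/
theorem exists_not_mem₂ (l m : L) : ∃ p : P, p ∉ l ∧ p ∉ m := by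
  obtain ⟨X, hXl, hXm⟩ := exists_meet P l m
  by_cases h : l = m
  · subst h
    obtain ⟨p, hp⟩ := exists_not_mem P l
    exact ⟨p, hp, hp⟩
  obtain ⟨a, ha, haX⟩ := exists_mem_ne P l X
  obtain ⟨b, hb, hbX⟩ := exists_mem_ne P m X
  have ham : a ∉ m := fun ham => haX (point_eq h ha ham hXl hXm)
  have hbl : b ∉ l := fun hbl => hbX (point_eq h hbl hb hXl hXm)
  obtain ⟨k, hak, hbk⟩ := exists_join L a b
  obtain ⟨r, hr, hra, hrb⟩ := exists_mem_ne₂ P k a b
  refine ⟨r, fun hrl => hra (point_eq (fun hkl : k = l => hbl (hkl ▸ hbk)) hr hrl hak ha), ?_⟩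
  exact fun hrm => hrb (point_eq (fun hkm : k = m => ham (hkm ▸ hak)) hr hrm hbk hb)

end Plane

section Quad

variable {P : Type*} (L : Type*) [Membership P L]

/-- Four points, no three of which are collinear. -/
def IsQuad (A B C D : P) : Prop :=
  ∀ l : L, ¬(A ∈ l ∧ B ∈ l ∧ C ∈ l) ∧ ¬(A ∈ l ∧ B ∈ l ∧ D ∈ l) ∧
    ¬(A ∈ l ∧ C ∈ l ∧ D ∈ l) ∧ ¬(B ∈ l ∧ C ∈ l ∧ D ∈ l)

/-- The set contains a quadrangle. -/
def HasQuad (s : Set P) : Prop :=
  ∃ A ∈ s, ∃ B ∈ s, ∃ C ∈ s, ∃ D ∈ s, IsQuad L A B C D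

variable {L}

theorem HasQuad.mono {s t : Set P} (h : HasQuad L s) (hst : s ⊆ t) : HasQuad L t := by
  obtain ⟨A, hA, B, hB, C, hC, D, hD, hq⟩ := h
  exact ⟨A, hst hA, B, hst hB, C, hst hC, D, hst hD, hq⟩

variable [ProjectivePlane P L] {A B C D : P}

theorem IsQuad.ne₁₂ (h : IsQuad L A B C D) : A ≠ B := by
  rintro rfl
  obtain ⟨l, h1, h2⟩ := exists_join L A C
  exact (h l).1 ⟨h1, h1, h2⟩

theorem IsQuad.ne₁₃ (h : IsQuad L A B C D) : A ≠ C := by
  rintro rfl
  obtain ⟨l, h1, h2⟩ := exists_join L A B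
  exact (h l).1 ⟨h1, h2, h1⟩

theorem IsQuad.ne₁₄ (h : IsQuad L A B C D) : A ≠ D := by
  rintro rfl
  obtain ⟨l, h1, h2⟩ := exists_join L A B
  exact (h l).2.1 ⟨h1, h2, h1⟩

theorem IsQuad.ne₂₃ (h : IsQuad L A B C D) : B ≠ C := by
  rintro rfl
  obtain ⟨l, h1, h2⟩ := exists_join L A B
  exact (h l).1 ⟨h1, h2, h2⟩

theorem IsQuad.ne₂₄ (h : IsQuad L A B C D) : B ≠ D := by
  rintro rfl
  obtain ⟨l, h1, h2⟩ := exists_join L A B
  exact (h l).2.1 ⟨h1, h2, h2⟩

theorem IsQuad.ne₃₄ (h : IsQuad L A B C D) : C ≠ D := by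
  rintro rfl
  obtain ⟨l, h1, h2⟩ := exists_join L A C
  exact (h l).2.2.1 ⟨h1, h2, h2⟩

/-- A quadrangle gives a quadrilateral. -/
theorem IsQuad.dual (h : IsQuad L A B C D) {ab bc cd da : L} (h1 : A ∈ ab) (h2 : B ∈ ab)
    (h3 : B ∈ bc) (h4 : C ∈ bc) (h5 : C ∈ cd) (h6 : D ∈ cd) (h7 : D ∈ da) (h8 : A ∈ da) :
    IsQuad (P := Dual L) (Dual P) ab bc cd da := by
  have n1 : ab ≠ bc := fun e => (h ab).1 ⟨h1, h2, e ▸ h4⟩
  have n2 : cd ≠ da := fun e => (h cd).2.2.1 ⟨e ▸ h8, h5, h6⟩
  intro p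
  refine ⟨?_, ?_, ?_, ?_⟩
  · rintro ⟨i, j, k⟩
    have hp : p = B := point_eq (P := P) n1 i j h2 h3
    subst hp
    exact (h cd).2.2.2 ⟨k, h5, h6⟩
  · rintro ⟨i, j, k⟩
    have hp : p = B := point_eq (P := P) n1 i j h2 h3
    subst hp
    exact (h da).2.1 ⟨h8, k, h7⟩
  · rintro ⟨i, j, k⟩
    have hp : p = D := point_eq (P := P) n2 j k h6 h7
    subst hp
    exact (h ab).2.1 ⟨h1, h2, i⟩
  · rintro ⟨i, j, k⟩
    have hp : p = D := point_eq (P := P) n2 j k h6 h7
    subst hp
    exact (h bc).2.2.2 ⟨h3, h4, i⟩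

/-- A set of points without quadrangle lies on a line with at most one exception. -/
theorem exists_line_of_not_hasQuad [Finite P] [Finite L] {s : Set P} (hs : ¬ HasQuad L s) :
    ∃ (l : L) (Q : P), ∀ p ∈ s, p ∈ l ∨ p = Q := by
  classical
  by_cases h3 : ∃ (l : L) (A B C : P), A ∈ s ∧ B ∈ s ∧ C ∈ s ∧ A ≠ B ∧ A ≠ C ∧ B ≠ C ∧
      A ∈ l ∧ B ∈ l ∧ C ∈ l
  · obtain ⟨l, A, B, C, hA, hB, hC, nAB, nAC, nBC, lA, lB, lC⟩ := h3
    by_cases hQ : ∃ Q ∈ s, Q ∉ l
    · obtain ⟨Q, hQs, hQl⟩ := hQ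
      refine ⟨l, Q, fun R hR => ?_⟩
      by_contra hcon
      push_neg at hcon
      obtain ⟨hRl, hRQ⟩ := hcon
      obtain ⟨m, hmQ, hmR⟩ := exists_join L Q R
      have hml : m ≠ l := fun e => hQl (e ▸ hmQ)
      -- two of `A`, `B`, `C` are off `m`
      have key : ∀ X Y : P, X ∈ s → Y ∈ s → X ≠ Y → X ∈ l → Y ∈ l → X ∉ m → Y ∉ m → False := by
        intro X Y hX hY hXY lX lY mX mY
        refine hs ⟨X, hX, Y, hY, Q, hQs, R, hR, fun k => ⟨?_, ?_, ?_, ?_⟩⟩
        · rintro ⟨a, b, c⟩; exact hQl (line_eq hXY a b lX lY ▸ c)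
        · rintro ⟨a, b, c⟩; exact hRl (line_eq hXY a b lX lY ▸ c)
        · rintro ⟨a, b, c⟩; exact mX (line_eq (Ne.symm hRQ) b c hmQ hmR ▸ a)
        · rintro ⟨a, b, c⟩; exact mY (line_eq (Ne.symm hRQ) b c hmQ hmR ▸ a)
      by_cases mA : A ∈ m
      · refine key B C hB hC nBC lB lC ?_ ?_
        · exact fun mB => nAB (point_eq hml mA lA mB lB)
        · exact fun mC => nAC (point_eq hml mA lA mC lC)
      · by_cases mB : B ∈ m
        · exact key A C hA hC nAC lA lC mA fun mC => nBC (point_eq hml mB lB mC lC)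
        · exact key A B hA hB nAB lA lB mA mB
    · push_neg at hQ
      exact ⟨l, A, fun p hp => Or.inl (hQ p hp)⟩
  · push_neg at h3
    -- no three collinear: at most three points
    have hsmall : ∀ A B C D : P, A ∈ s → B ∈ s → C ∈ s → D ∈ s → A ≠ B → A ≠ C → B ≠ C →
        D = A ∨ D = B ∨ D = C := by
      intro A B C D hA hB hC hD nAB nAC nBC
      by_contra hcon
      push_neg at hcon
      obtain ⟨dA, dB, dC⟩ := hcon
      refine hs ⟨A, hA, B, hB, C, hC, D, hD, fun k => ⟨?_, ?_, ?_, ?_⟩⟩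
      · rintro ⟨a, b, c⟩; exact h3 k A B C hA hB hC nAB nAC nBC a b c
      · rintro ⟨a, b, c⟩; exact h3 k A B D hA hB hD nAB dA.symm dB.symm a b c
      · rintro ⟨a, b, c⟩; exact h3 k A C D hA hC hD nAC dA.symm dC.symm a b c
      · rintro ⟨a, b, c⟩; exact h3 k B C D hB hC hD nBC dB.symm dC.symm a b c
    by_cases hA : ∃ A, A ∈ s
    · obtain ⟨A, hA⟩ := hA
      by_cases hB : ∃ B ∈ s, B ≠ A
      · obtain ⟨B, hB, hBA⟩ := hB
        obtain ⟨l, lA, lB⟩ := exists_join L A B
        by_cases hC : ∃ C ∈ s, C ≠ A ∧ C ≠ B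
        · obtain ⟨C, hC, hCA, hCB⟩ := hC
          refine ⟨l, C, fun p hp => ?_⟩
          rcases hsmall A B C p hA hB hC hp hBA.symm hCA.symm hCB.symm with rfl | rfl | rfl
          · exact Or.inl lA
          · exact Or.inl lB
          · exact Or.inr rfl
        · push_neg at hC
          refine ⟨l, A, fun p hp => ?_⟩
          by_cases hpA : p = A
          · exact Or.inr hpA
          · exact Or.inl (hC p hp hpA ▸ lB)
      · push_neg at hB
        obtain ⟨l, -, -⟩ := exists_join L A A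
        exact ⟨l, A, fun p hp => Or.inr (hB p hp)⟩
    · push_neg at hA
      obtain ⟨a, -, -, l, -⟩ := @ProjectivePlane.exists_config P L _ _
      exact ⟨l, a, fun p hp => absurd hp (hA p)⟩

end Quad

section Act

/-- A group acting on points and lines preserving incidence. -/
class PlaneAction (G P L : Type*) [Membership P L] [Group G] [MulAction G P] [MulAction G L] :
    Prop where
  smul_mem_smul : ∀ (g : G) (p : P) (l : L), g • p ∈ g • l ↔ p ∈ l

instance dualMulAction {G X : Type*} [Group G] [i : MulAction G X] :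
    MulAction G (Configuration.Dual X) := i

variable {G P L : Type*} [Membership P L] [Group G] [MulAction G P] [MulAction G L]
  [PlaneAction G P L]

instance dualPlaneAction : PlaneAction G (Dual L) (Dual P) :=
  ⟨fun g p l => PlaneAction.smul_mem_smul (P := P) (L := L) g l p⟩

theorem smul_mem (g : G) {p : P} {l : L} (h : p ∈ l) : g • p ∈ g • l :=
  (PlaneAction.smul_mem_smul g p l).2 h

theorem smul_mem_iff (g : G) {p : P} {l : L} : g • p ∈ l ↔ p ∈ g⁻¹ • l := by
  conv_lhs => rw [← smul_inv_smul g l]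
  exact PlaneAction.smul_mem_smul g p (g⁻¹ • l)

theorem mem_smul_iff (g : G) {p : P} {l : L} : p ∈ g • l ↔ g⁻¹ • p ∈ l := by
  conv_lhs => rw [← smul_inv_smul g p]
  exact PlaneAction.smul_mem_smul g (g⁻¹ • p) l

theorem mem_of_fixed {g : G} {p : P} {l : L} (hl : g • l = l) (h : p ∈ l) : g • p ∈ l :=
  hl ▸ smul_mem g h

theorem mem_smul_of_fixed {g : G} {p : P} {l : L} (hp : g • p = p) (h : p ∈ l) : p ∈ g • l := by
  have := smul_mem g h
  rwa [hp] at this

variable [ProjectivePlane P L]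

theorem fix_line {g : G} {p q : P} {l : L} (hpq : p ≠ q) (hpl : p ∈ l) (hql : q ∈ l)
    (hp : g • p = p) (hq : g • q = q) : g • l = l :=
  line_eq hpq (mem_smul_of_fixed hp hpl) (mem_smul_of_fixed hq hql) hpl hql

theorem fix_point {g : G} {p : P} {l m : L} (hlm : l ≠ m) (hpl : p ∈ l) (hpm : p ∈ m)
    (hl : g • l = l) (hm : g • m = m) : g • p = p :=
  point_eq hlm (mem_of_fixed hl hpl) (mem_of_fixed hm hpm) hpl hpm

theorem fix_all_lines [Finite P] [Finite L] {g : G} (h : ∀ p : P, g • p = p) (l : L) :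
    g • l = l := by
  obtain ⟨p, hp, -⟩ := exists_mem_ne₂ P l (Classical.choose (exists_not_mem P l))
    (Classical.choose (exists_not_mem P l))
  obtain ⟨q, hq, hqp⟩ := exists_mem_ne P l p
  exact fix_line hqp hq hp (h q) (h p)

theorem fix_all_points [Finite P] [Finite L] {g : G} (h : ∀ l : L, g • l = l) (p : P) :
    g • p = p :=
  fix_all_lines (P := Dual L) (L := Dual P) h p

theorem faithful_lines [Finite P] [Finite L] [FaithfulSMul G P] : FaithfulSMul G L :=
  ⟨fun {g₁ g₂} h => by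
    have h1 : ∀ l : L, (g₂⁻¹ * g₁) • l = l := fun l => by rw [mul_smul, h l, inv_smul_smul]
    have h2 : g₂⁻¹ * g₁ = 1 := eq_of_smul_eq_smul (α := P) fun p => by
      rw [fix_all_points h1 p, one_smul]
    exact (inv_mul_eq_one.1 h2).symm⟩

instance dualFaithful [Finite P] [Finite L] [FaithfulSMul G P] : FaithfulSMul G (Dual L) :=
  faithful_lines (P := P) (L := L)

theorem eq_one_of_fix [FaithfulSMul G P] {g : G} (h : ∀ p : P, g • p = p) : g = 1 :=
  eq_of_smul_eq_smul (α := P) fun p => by rw [h p, one_smul]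

/-- A collineation fixes as many points as lines. -/
theorem natCard_fixed_points_eq [Finite P] [Finite L] (g : G) :
    Nat.card {p : P // g • p = p} = Nat.card {l : L // g • l = l} := by
  classical
  cases nonempty_fintype P
  cases nonempty_fintype L
  set n : ℕ := ProjectivePlane.order P L with hn
  let N : Matrix P L ℚ := Matrix.of fun p l => if p ∈ l then 1 else 0
  let A : Matrix P P ℚ := Matrix.of fun p q => if g • p = q then 1 else 0
  let B : Matrix L L ℚ := Matrix.of fun l m => if g • l = m then 1 else 0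
  let J : Matrix P P ℚ := Matrix.of fun _ _ => 1
  have hNN : N * N.transpose = (n : ℚ) • (1 : Matrix P P ℚ) + J := by
    ext p q
    have hsum : (N * N.transpose) p q = (({l : L | p ∈ l ∧ q ∈ l}).ncard : ℚ) := by
      rw [Matrix.mul_apply, Set.ncard_eq_toFinset_card', Set.toFinset_setOf]
      simp only [N, Matrix.transpose_apply, Matrix.of_apply, ite_mul, one_mul, zero_mul, ← ite_and]
      rw [Finset.sum_boole]
    rw [hsum, Matrix.add_apply, Matrix.smul_apply, Matrix.one_apply]
    by_cases h : p = q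
    · subst h
      simp only [and_self, if_true, J, Matrix.of_apply, smul_eq_mul, mul_one]
      rw [ncard_pencil p]
      push_cast
      ring
    · rw [if_neg h]
      simp only [J, Matrix.of_apply, smul_zero, zero_add]
      have : {l : L | p ∈ l ∧ q ∈ l} = {HasLines.mkLine h} := by
        ext l
        refine ⟨fun hl => line_eq h hl.1 hl.2 (HasLines.mkLine_ax h).1 (HasLines.mkLine_ax h).2, ?_⟩
        rintro rfl
        exact HasLines.mkLine_ax h
      rw [this, Set.ncard_singleton]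
      simp
  set v : ℚ := (Fintype.card P : ℚ) with hv
  have hJJ : J * J = v • J := by
    ext p q
    simp [Matrix.mul_apply, J, v]
  have hn0 : (n : ℚ) ≠ 0 := by
    have := two_le_order P L
    exact_mod_cast (by omega : n ≠ 0)
  have hnv : (n : ℚ) + v ≠ 0 := by positivity
  let M : Matrix P P ℚ := (n : ℚ)⁻¹ • ((1 : Matrix P P ℚ) - ((n : ℚ) + v)⁻¹ • J)
  have hM : N * N.transpose * M = 1 := by
    rw [hNN]
    simp only [M, Matrix.mul_smul, Matrix.add_mul, Matrix.smul_mul, Matrix.mul_sub, Matrix.one_mul,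
      Matrix.mul_one, hJJ]
    ext p q
    simp only [Matrix.smul_apply, Matrix.add_apply, Matrix.sub_apply, J, Matrix.of_apply, smul_eq_mul]
    field_simp
    ring
  have hcard : Fintype.card P = Fintype.card L := ProjectivePlane.card_points_eq_card_lines P L
  have hM' : N.transpose * M * N = 1 := by
    refine (Matrix.mul_eq_one_comm_of_card_eq _ _ _ hcard).1 ?_
    rw [← Matrix.mul_assoc]; exact hM
  have hAN : A * N = N * B := by
    ext p l
    rw [Matrix.mul_apply, Matrix.mul_apply, Finset.sum_eq_single (g • p),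
      Finset.sum_eq_single (g⁻¹ • l)]
    · simp only [A, B, N, Matrix.of_apply, smul_inv_smul, if_true, one_mul, mul_one]
      exact if_congr (smul_mem_iff g) rfl rfl
    · intro m _ hm
      simp only [B, Matrix.of_apply]
      rw [if_neg (fun e : g • m = l => hm (by rw [← e, inv_smul_smul])), mul_zero]
    · simp
    · intro q _ hq
      simp only [A, Matrix.of_apply]
      rw [if_neg (Ne.symm hq), zero_mul]
    · simp
  have htr : A.trace = B.trace := by
    calc A.trace = (A * (N * N.transpose * M)).trace := by rw [hM, Matrix.mul_one]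
      _ = (A * N * (N.transpose * M)).trace := by simp only [Matrix.mul_assoc]
      _ = (N * (B * (N.transpose * M))).trace := by rw [hAN, Matrix.mul_assoc]
      _ = (B * (N.transpose * M) * N).trace := Matrix.trace_mul_comm _ _
      _ = B.trace := by rw [Matrix.mul_assoc, hM', Matrix.mul_one]
  have hA : A.trace = (Nat.card {p : P // g • p = p} : ℚ) := by
    rw [Nat.card_eq_fintype_card, Fintype.card_subtype]
    simp only [Matrix.trace, Matrix.diag, A, Matrix.of_apply, Finset.sum_boole]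
  have hB : B.trace = (Nat.card {l : L // g • l = l} : ℚ) := by
    rw [Nat.card_eq_fintype_card, Fintype.card_subtype]
    simp only [Matrix.trace, Matrix.diag, B, Matrix.of_apply, Finset.sum_boole]
  rw [hA, hB] at htr
  exact_mod_cast htr

theorem ncard_fixed_eq [Finite P] [Finite L] (g : G) :
    {p : P | g • p = p}.ncard = {l : L | g • l = l}.ncard := by
  rw [← Nat.card_coe_set_eq, ← Nat.card_coe_set_eq]
  exact natCard_fixed_points_eq g

end Act

end Cfsg.Agent.CG26.OW
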