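import Cfsg.Agent.CG26.OW.Subplane

/-!
# Ostrom-Wagner: central collineations
-/

set_option autoImplicit false
set_option linter.unusedSectionVars false

namespace Cfsg.Agent.CG26.OW

open Configuration

section Defs

variable {G : Type*} (P : Type*) {L : Type*} [Membership P L] [Group G] [MulAction G P]
  [MulAction G L]

/-- `g` fixes every point of `a`. -/
def IsAxis (g : G) (a : L) : Prop := ∀ p : P, p ∈ a → g • p = p

variable {P} (L)

/-- `g` fixes every line through `C`. -/
def IsCentre (g : G) (C : P) : Prop := ∀ l : L, C ∈ l → g • l = l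

variable {L}

theorem isCentre_iff_dual {g : G} {C : P} :
    IsCentre L g C ↔ IsAxis (Dual L) (L := Dual P) g C := Iff.rfl

theorem isAxis_one (a : L) : IsAxis P (1 : G) a := fun p _ => one_smul G p

theorem IsAxis.mul {g h : G} {a : L} (hg : IsAxis P g a) (hh : IsAxis P h a) :
    IsAxis P (g * h) a := fun p hp => by rw [mul_smul, hh p hp, hg p hp]

theorem IsAxis.inv {g : G} {a : L} (hg : IsAxis P g a) : IsAxis P g⁻¹ a := fun p hp => by
  rw [inv_smul_eq_iff, hg p hp]

theorem isCentre_one (C : P) : IsCentre L (1 : G) C := fun l _ => one_smul G l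

theorem IsCentre.mul {g h : G} {C : P} (hg : IsCentre L g C) (hh : IsCentre L h C) :
    IsCentre L (g * h) C := fun l hl => by rw [mul_smul, hh l hl, hg l hl]

theorem IsCentre.inv {g : G} {C : P} (hg : IsCentre L g C) : IsCentre L g⁻¹ C := fun l hl => by
  rw [inv_smul_eq_iff, hg l hl]

theorem IsAxis.pow {g : G} {a : L} (hg : IsAxis P g a) : ∀ k : ℕ, IsAxis P (g ^ k) a
  | 0 => by rw [pow_zero]; exact isAxis_one a
  | k + 1 => by rw [pow_succ]; exact (hg.pow k).mul hg

theorem IsCentre.pow {g : G} {C : P} (hg : IsCentre L g C) : ∀ k : ℕ, IsCentre L (g ^ k) C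
  | 0 => by rw [pow_zero]; exact isCentre_one C
  | k + 1 => by rw [pow_succ]; exact (hg.pow k).mul hg

variable [PlaneAction G P L]

theorem IsAxis.conj {g : G} {a : L} (hg : IsAxis P g a) (h : G) :
    IsAxis P (h * g * h⁻¹) (h • a) := fun p hp => by
  rw [mul_smul, mul_smul, hg _ ((mem_smul_iff h).1 hp), smul_inv_smul]

theorem IsCentre.conj {g : G} {C : P} (hg : IsCentre L g C) (h : G) :
    IsCentre L (h * g * h⁻¹) (h • C) := fun l hl => by
  have h1 : C ∈ h⁻¹ • l := (smul_mem_iff h).1 hl
  rw [mul_smul, mul_smul, hg _ h1, smul_inv_smul]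

end Defs

section Facts

variable {G P L : Type*} [Membership P L] [ProjectivePlane P L] [Group G] [MulAction G P]
  [MulAction G L] [PlaneAction G P L] [Finite P] [Finite L]

theorem IsAxis.fix_line {g : G} {a : L} (hg : IsAxis P g a) : g • a = a := by
  obtain ⟨p, hp, -⟩ := exists_mem_ne P a (Classical.choose (exists_not_mem P a))
  obtain ⟨q, hq, hqp⟩ := exists_mem_ne P a p
  exact OW.fix_line hqp hq hp (hg q hq) (hg p hp)

theorem IsCentre.fix_point {g : G} {C : P} (hg : IsCentre L g C) : g • C = C :=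
  IsAxis.fix_line (P := Dual L) (L := Dual P) hg

/-- A fixed point off the axis is a centre. -/
theorem IsAxis.centre_of_fixed {g : G} {a : L} (hg : IsAxis P g a) {R : P} (hR : R ∉ a)
    (hgR : g • R = R) : IsCentre L g R := by
  intro l hl
  obtain ⟨q, hql, hqa⟩ := exists_meet P l a
  exact OW.fix_line (fun e : R = q => hR (e ▸ hqa)) hl hql hgR (hg q hqa)

/-- A fixed line not through the centre is an axis. -/
theorem IsCentre.axis_of_fixed {g : G} {C : P} (hg : IsCentre L g C) {l : L} (hl : C ∉ l)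
    (hgl : g • l = l) : IsAxis P g l :=
  IsAxis.centre_of_fixed (P := Dual L) (L := Dual P) hg hl hgl

theorem IsAxis.exists_centre {g : G} {a : L} (hg : IsAxis P g a) : ∃ C : P, IsCentre L g C := by
  by_cases hR : ∃ R : P, R ∉ a ∧ g • R = R
  · obtain ⟨R, hR, hgR⟩ := hR
    exact ⟨R, hg.centre_of_fixed hR hgR⟩
  push_neg at hR
  have hga := hg.fix_line
  have hP : {p : P | g • p = p} = {p : P | p ∈ a} := by
    ext p
    exact ⟨fun hp => by_contra fun hpa => hR p hpa hp, hg p⟩
  have hc : {l : L | g • l = l}.ncard = ProjectivePlane.order P L + 1 := by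
    rw [← ncard_fixed_eq (P := P) g, hP, ncard_line]
  -- some fixed line other than the axis
  have hex : ∃ m : L, g • m = m ∧ m ≠ a := by
    by_contra hno
    push_neg at hno
    have hsub : {l : L | g • l = l} ⊆ {a} := fun l hl => hno l hl
    have := Set.ncard_le_ncard hsub (Set.toFinite _)
    rw [hc, Set.ncard_singleton] at this
    have := two_le_order P L
    omega
  obtain ⟨m, hm, hma⟩ := hex
  obtain ⟨C, hCm, hCa⟩ := exists_meet P m a
  refine ⟨C, ?_⟩
  have hsub : {l : L | g • l = l} ⊆ {l : L | C ∈ l} := by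
    intro l hl
    by_cases hla : l = a
    · subst hla; exact hCa
    by_cases hlm : l = m
    · subst hlm; exact hCm
    obtain ⟨R, hRl, hRm⟩ := exists_meet P l m
    have hfix : g • R = R := fix_point hlm hRl hRm hl hm
    have hRa : R ∈ a := by_contra fun h => hR R h hfix
    have : R = C := point_eq hma hRm hRa hCm hCa
    exact this ▸ hRl
  have heq : {l : L | g • l = l} = {l : L | C ∈ l} :=
    Set.eq_of_subset_of_ncard_le hsub (by rw [hc, ncard_pencil]) (Set.toFinite _)
  intro l hl
  exact heq.ge hl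

theorem IsCentre.exists_axis {g : G} {C : P} (hg : IsCentre L g C) : ∃ a : L, IsAxis P g a :=
  IsAxis.exists_centre (P := Dual L) (L := Dual P) hg

theorem fix_all_of_two_axes {g : G} {a b : L} (ha : IsAxis P g a) (hb : IsAxis P g b)
    (hab : a ≠ b) (p : P) : g • p = p := by
  obtain ⟨X, hXa, hXb⟩ := exists_meet P a b
  by_cases hpa : p ∈ a
  · exact ha p hpa
  by_cases hpb : p ∈ b
  · exact hb p hpb
  have hpX : p ≠ X := fun e => hpa (e ▸ hXa)
  obtain ⟨l, hpl, hXl⟩ := exists_join L p X
  have key : ∀ m : L, p ∈ m → m ≠ l → g • m = m := by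
    intro m hpm hml
    obtain ⟨q, hqm, hqa⟩ := exists_meet P m a
    obtain ⟨r, hrm, hrb⟩ := exists_meet P m b
    refine OW.fix_line (fun e : q = r => hml ?_) hqm hrm (ha q hqa) (hb r hrb)
    subst e
    have : q = X := point_eq hab hqa hrb hXa hXb
    subst this
    exact line_eq hpX hpm hqm hpl hXl
  obtain ⟨m, hpm, hml, -⟩ := exists_line_ne₂ L p l l
  obtain ⟨k, hpk, hkl, hkm⟩ := exists_line_ne₂ L p l m
  exact fix_point hkm hpk hpm (key k hpk hkl) (key m hpm hml)

variable [FaithfulSMul G P]

theorem axis_unique {g : G} (hg : g ≠ 1) {a b : L} (ha : IsAxis P g a) (hb : IsAxis P g b) :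
    a = b :=
  by_contra fun hab => hg (eq_one_of_fix (fix_all_of_two_axes ha hb hab))

theorem centre_unique {g : G} (hg : g ≠ 1) {C D : P} (hC : IsCentre L g C)
    (hD : IsCentre L g D) : C = D := by
  have := dualFaithful (G := G) (P := P) (L := L)
  exact axis_unique (P := Dual L) (L := Dual P) hg hC hD

theorem fixed_point_cases {g : G} (hg : g ≠ 1) {a : L} (ha : IsAxis P g a) {C : P}
    (hC : IsCentre L g C) {p : P} (hp : g • p = p) : p ∈ a ∨ p = C :=
  or_iff_not_imp_left.2 fun hpa => centre_unique hg (ha.centre_of_fixed hpa hp) hC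

theorem fixed_line_cases {g : G} (hg : g ≠ 1) {a : L} (ha : IsAxis P g a) {C : P}
    (hC : IsCentre L g C) {l : L} (hl : g • l = l) : C ∈ l ∨ l = a :=
  or_iff_not_imp_left.2 fun hCl => axis_unique hg (hC.axis_of_fixed hCl hl) ha

end Facts

section Groups

variable (G : Type*) {P L : Type*} [Membership P L] [Group G] [MulAction G P] [MulAction G L]

variable (L) in
/-- All elements with centre `C`. -/
def centreGp (C : P) : Subgroup G where
  carrier := {g | IsCentre L g C}
  one_mem' := isCentre_one C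
  mul_mem' := fun ha hb => ha.mul hb
  inv_mem' := fun ha => ha.inv

variable (P) in
/-- All elements with axis `a`. -/
def axisGp (a : L) : Subgroup G where
  carrier := {g | IsAxis P g a}
  one_mem' := isAxis_one a
  mul_mem' := fun ha hb => ha.mul hb
  inv_mem' := fun ha => ha.inv

variable [ProjectivePlane P L] [PlaneAction G P L] [Finite P] [Finite L] [FaithfulSMul G P]

variable (P) in
/-- The elations with axis `a`. -/
def elA (a : L) : Subgroup G where
  carrier := {g | IsAxis P g a ∧ ∃ C : P, C ∈ a ∧ IsCentre L g C}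
  one_mem' := ⟨isAxis_one a, by
    obtain ⟨p, hp, -⟩ := exists_mem_ne P a (Classical.choose (exists_not_mem P a))
    exact ⟨p, hp, isCentre_one p⟩⟩
  inv_mem' := fun ⟨h1, C, h2, h3⟩ => ⟨h1.inv, C, h2, h3.inv⟩
  mul_mem' := fun {s t} ⟨hsa, C, hCa, hsC⟩ ⟨hta, D, hDa, htD⟩ => by
    refine ⟨hsa.mul hta, ?_⟩
    by_cases hCD : C = D
    · subst hCD; exact ⟨C, hCa, hsC.mul htD⟩
    obtain ⟨Z, hZ⟩ := (hsa.mul hta).exists_centre
    by_cases hZa : Z ∈ a
    · exact ⟨Z, hZa, hZ⟩
    by_cases ht : t = 1
    · subst ht; exact ⟨C, hCa, by rw [mul_one]; exact hsC⟩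
    obtain ⟨m, hCm, hZm⟩ := exists_join L C Z
    have h1 : (s * t) • m = m := hZ m hZm
    have hC' : t • C = C := hta C hCa
    have h2 : C ∈ t • m := mem_smul_of_fixed hC' hCm
    rw [mul_smul, hsC _ h2] at h1
    rcases fixed_line_cases ht hta htD h1 with hDm | hma
    · exact absurd (line_eq hCD hCm hDm hCa hDa ▸ hZm) hZa
    · exact absurd (hma ▸ hZm) hZa

variable (L) in
/-- The elations with centre `C`. -/
def elC (C : P) : Subgroup G := elA G (Dual L) (L := Dual P) C

variable {G}

theorem mem_elA {g : G} {a : L} :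
    g ∈ elA G P a ↔ IsAxis P g a ∧ ∃ C : P, C ∈ a ∧ IsCentre L g C := Iff.rfl

theorem mem_elC {g : G} {C : P} :
    g ∈ elC G L C ↔ IsCentre L g C ∧ ∃ a : L, C ∈ a ∧ IsAxis P g a := Iff.rfl

theorem elA_fix_point {g : G} {a : L} (hg : g ∈ elA G P a) {p : P} (hp : p ∉ a)
    (hgp : g • p = p) : g = 1 := by
  obtain ⟨hga, C, hC, hgC⟩ := hg
  by_contra h1
  rcases fixed_point_cases h1 hga hgC hgp with h | h
  · exact hp h
  · exact hp (h ▸ hC)

theorem elC_fix_line {g : G} {C : P} (hg : g ∈ elC G L C) {l : L} (hl : C ∉ l)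
    (hgl : g • l = l) : g = 1 := by
  have := dualFaithful (G := G) (P := P) (L := L)
  exact elA_fix_point (P := Dual L) (L := Dual P) hg hl hgl

theorem elA_conj {g : G} {a : L} (hg : g ∈ elA G P a) (h : G) :
    h * g * h⁻¹ ∈ elA G P (h • a) :=
  ⟨hg.1.conj h, let ⟨C, hC, hgC⟩ := hg.2; ⟨h • C, smul_mem h hC, hgC.conj h⟩⟩

theorem elC_conj {g : G} {C : P} (hg : g ∈ elC G L C) (h : G) :
    h * g * h⁻¹ ∈ elC G L (h • C) :=
  ⟨hg.1.conj h, let ⟨a, ha, hga⟩ := hg.2; ⟨h • a, smul_mem h ha, hga.conj h⟩⟩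

theorem natCard_elA_smul (a : L) (h : G) :
    Nat.card (elA G P (h • a)) = Nat.card (elA G P a) := by
  refine Nat.card_congr
    { toFun := fun g => ⟨h⁻¹ * g * h⁻¹⁻¹, ?_⟩
      invFun := fun g => ⟨h * g * h⁻¹, elA_conj g.2 h⟩
      left_inv := fun g => Subtype.ext (by group)
      right_inv := fun g => Subtype.ext (by group) }
  have := elA_conj g.2 h⁻¹
  rwa [inv_smul_smul] at this

theorem natCard_elC_smul (C : P) (h : G) :
    Nat.card (elC G L (h • C)) = Nat.card (elC G L C) := by
  have := dualFaithful (G := G) (P := P) (L := L)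
  exact natCard_elA_smul (P := Dual L) (L := Dual P) C h

end Groups

section Count

/-- Orbit counting for a subgroup acting with constant stabilisers on an invariant set. -/
theorem card_dvd_ncard_mul {G X : Type*} [Group G] [Finite G] [MulAction G X] [Finite X]
    (H K : Subgroup G) (hK : K ≤ H) (s : Set X) (hs : ∀ h ∈ H, ∀ x ∈ s, h • x ∈ s)
    (hstab : ∀ x ∈ s, ∀ h ∈ H, h • x = x ↔ h ∈ K) :
    Nat.card H ∣ s.ncard * Nat.card K := by
  classical
  let S : SubMulAction H X :=
    { carrier := s
      smul_mem' := fun h x hx => hs h h.2 x hx }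
  have : Fintype H := Fintype.ofFinite H
  have : Fintype S := Fintype.ofFinite S
  have : Fintype (Quotient (MulAction.orbitRel H S)) := Fintype.ofFinite _
  have h1 := MulAction.sum_card_fixedBy_eq_card_orbits_mul_card_group H S
  have h2 : ∀ h : H, Fintype.card (MulAction.fixedBy S h) =
      if (h : G) ∈ K then s.ncard else 0 := by
    intro h
    rw [← Nat.card_eq_fintype_card]
    split_ifs with hh
    · rw [← Nat.card_coe_set_eq]
      refine Nat.card_congr
        { toFun := fun x => ⟨(x.1 : X), x.1.2⟩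
          invFun := fun x => ⟨⟨x.1, x.2⟩, Subtype.ext ((hstab x.1 x.2 h h.2).2 hh)⟩
          left_inv := fun x => rfl
          right_inv := fun x => rfl }
    · have : IsEmpty (MulAction.fixedBy S h) :=
        ⟨fun x => hh ((hstab (x.1 : X) x.1.2 h h.2).1 (congrArg Subtype.val x.2))⟩
      exact Nat.card_of_isEmpty
  rw [Finset.sum_congr rfl fun h _ => h2 h, Finset.sum_ite, Finset.sum_const, Finset.sum_const_zero,
    add_zero, smul_eq_mul] at h1
  have h3 : (Finset.univ.filter fun h : H => (h : G) ∈ K).card = Nat.card K := by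
    rw [← Fintype.card_subtype, ← Nat.card_eq_fintype_card]
    exact Nat.card_congr
      { toFun := fun h => ⟨(h.1 : G), h.2⟩
        invFun := fun k => ⟨⟨k.1, hK k.2⟩, k.2⟩
        left_inv := fun _ => rfl
        right_inv := fun _ => rfl }
  rw [h3, ← Nat.card_eq_fintype_card (α := H)] at h1
  exact ⟨_, by rw [mul_comm s.ncard, h1, mul_comm]⟩

end Count

section Andre

variable (G : Type*) {P L : Type*} [Membership P L] [ProjectivePlane P L] [Group G] [Finite G]
  [MulAction G P] [MulAction G L] [PlaneAction G P L] [Finite P] [Finite L] [FaithfulSMul G P]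

variable (L) in
/-- The axes of the nontrivial homologies with centre `C`. -/
def homAxes (C : P) : Set L :=
  {c | C ∉ c ∧ ∃ g : G, g ≠ 1 ∧ IsCentre L g C ∧ IsAxis P g c}

variable (P) in
/-- The centres of the nontrivial homologies with axis `a`. -/
def homCentres (a : L) : Set P :=
  {C | C ∉ a ∧ ∃ g : G, g ≠ 1 ∧ IsAxis P g a ∧ IsCentre L g C}

variable {G}

theorem homAxes_iff_homCentres {C : P} {a : L} :
    a ∈ homAxes G L C ↔ C ∈ homCentres G P a :=
  ⟨fun ⟨h1, g, h2, h3, h4⟩ => ⟨h1, g, h2, h4, h3⟩,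
    fun ⟨h1, g, h2, h3, h4⟩ => ⟨h1, g, h2, h4, h3⟩⟩

theorem homAxes_smul {C : P} {c : L} (hc : c ∈ homAxes G L C) (h : G) :
    h • c ∈ homAxes G L (h • C) := by
  obtain ⟨h1, g, h2, h3, h4⟩ := hc
  refine ⟨fun hmem => h1 ((PlaneAction.smul_mem_smul h C c).1 hmem), h * g * h⁻¹, ?_,
    h3.conj h, h4.conj h⟩
  intro he
  exact h2 (conj_eq_one_iff.1 he)

/-- André: the elations with centre `C` are regular on the homology axes of `C`. -/
theorem andre {C : P} {c : L} (hc : c ∈ homAxes G L C) :
    (∀ c' ∈ homAxes G L C, ∃ e ∈ elC G L C, e • c = c') ∧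
      Nat.card (elC G L C) = (homAxes G L C).ncard := by
  classical
  set Φ := centreGp G L C with hΦ
  have : Fintype L := Fintype.ofFinite L
  have : Fintype Φ := Fintype.ofFinite Φ
  -- fixed lines off the centre
  have uniq : ∀ g : Φ, g ≠ 1 → ∀ d d' : L, C ∉ d → C ∉ d' → g • d = d → g • d' = d' → d = d' := by
    intro g hg d d' hd hd' h1 h2
    exact axis_unique (fun e => hg (Subtype.ext e)) ((g.2 : IsCentre L (g : G) C).axis_of_fixed hd h1)
      ((g.2 : IsCentre L (g : G) C).axis_of_fixed hd' h2)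
  have offC : ∀ (g : Φ) (d : L), C ∉ d → C ∉ g • d := by
    intro g d hd hmem
    refine hd ((PlaneAction.smul_mem_smul (g : G) C d).1 ?_)
    rw [(g.2 : IsCentre L (g : G) C).fix_point]
    exact hmem
  let U : L → Finset Φ := fun d =>
    ((MulAction.orbit Φ d).toFinset).biUnion fun e =>
      Finset.univ.filter fun g : Φ => g ≠ 1 ∧ g • e = e
  have cardU : ∀ d : L, C ∉ d → (U d).card + (MulAction.orbit Φ d).ncard = Nat.card Φ := by
    intro d hd
    rw [Finset.card_biUnion]
    · have hstab : ∀ e ∈ (MulAction.orbit Φ d).toFinset,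
          (Finset.univ.filter fun g : Φ => g ≠ 1 ∧ g • e = e).card + 1 =
            Nat.card (MulAction.stabilizer Φ d) := by
        intro e he
        rw [Set.mem_toFinset] at he
        have h1 : Nat.card (MulAction.stabilizer Φ e) = Nat.card (MulAction.stabilizer Φ d) :=
          Nat.card_congr (MulAction.stabilizerEquivStabilizerOfOrbitRel he).toEquiv
        rw [← h1, Nat.card_eq_fintype_card]
        have : (Finset.univ.filter fun g : Φ => g ≠ 1 ∧ g • e = e) =
            (Finset.univ.filter fun g : Φ => g • e = e).erase 1 := by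
          ext g; simp
        rw [this, Finset.card_erase_add_one (by simp), ← Fintype.card_subtype]
        exact Fintype.card_congr (Equiv.refl _)
      have hsum : ∑ e ∈ (MulAction.orbit Φ d).toFinset,
          ((Finset.univ.filter fun g : Φ => g ≠ 1 ∧ g • e = e).card + 1) = Nat.card Φ := by
        rw [Finset.sum_congr rfl hstab, Finset.sum_const, smul_eq_mul,
          ← Set.ncard_eq_toFinset_card', ← Nat.card_coe_set_eq, ← Nat.card_prod]
        exact Nat.card_congr (MulAction.orbitProdStabilizerEquivGroup Φ d)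
      rw [Finset.sum_add_distrib, Finset.sum_const, smul_eq_mul, mul_one,
        ← Set.ncard_eq_toFinset_card'] at hsum
      exact hsum
    · intro e he e' he' hne
      rw [Function.onFun, Finset.disjoint_left]
      intro g hg hg'
      rw [Finset.mem_filter] at hg hg'
      rw [Finset.mem_coe, Set.mem_toFinset] at he he'
      obtain ⟨u, rfl⟩ := he
      obtain ⟨u', rfl⟩ := he'
      exact hne (uniq g hg.2.1 _ _ (offC u d hd) (offC u' d hd) hg.2.2 hg'.2.2)
  have big : ∀ d : L, d ∈ homAxes G L C → Nat.card Φ ≤ 2 * (U d).card := by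
    intro d ⟨hd, g, hg1, hgC, hgd⟩
    have hdd : g • d = d := hgd.fix_line
    have hsub : (MulAction.orbit Φ d).toFinset.card ≤ (U d).card := by
      rw [← mul_one (MulAction.orbit Φ d).toFinset.card]
      have : (U d).card = ∑ e ∈ (MulAction.orbit Φ d).toFinset,
          (Finset.univ.filter fun g : Φ => g ≠ 1 ∧ g • e = e).card := by
        refine Finset.card_biUnion ?_
        intro e he e' he' hne
        rw [Function.onFun, Finset.disjoint_left]
        intro g hg hg'
        rw [Finset.mem_filter] at hg hg'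
        rw [Finset.mem_coe, Set.mem_toFinset] at he he'
        obtain ⟨u, rfl⟩ := he
        obtain ⟨u', rfl⟩ := he'
        exact hne (uniq g hg.2.1 _ _ (offC u d hd) (offC u' d hd) hg.2.2 hg'.2.2)
      rw [this, mul_one, Finset.card_eq_sum_ones]
      refine Finset.sum_le_sum fun e he => ?_
      rw [Set.mem_toFinset] at he
      obtain ⟨u, rfl⟩ := he
      refine Finset.card_pos.2 ⟨u * ⟨g, hgC⟩ * u⁻¹, Finset.mem_filter.2 ⟨Finset.mem_univ _, ?_, ?_⟩⟩
      · intro he
        exact hg1 (congrArg Subtype.val (conj_eq_one_iff.1 he))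
      · show (u * ⟨g, hgC⟩ * u⁻¹) • (u • d) = u • d
        rw [mul_smul, mul_smul, inv_smul_smul]
        congr 1
    rw [← Set.ncard_eq_toFinset_card'] at hsub
    have := cardU d hd
    omega
  have hU1 : ∀ d, (1 : Φ) ∉ U d := by
    intro d h
    simp [U] at h
  -- a single orbit
  have one_orbit : ∀ c' ∈ homAxes G L C, c' ∈ MulAction.orbit Φ c := by
    intro c' hc'
    by_contra hno
    have hdisj : Disjoint (U c) (U c') := by
      rw [Finset.disjoint_left]
      intro g hg hg'
      simp only [U, Finset.mem_biUnion, Set.mem_toFinset, Finset.mem_filter, Finset.mem_univ,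
        true_and] at hg hg'
      obtain ⟨e, ⟨u, rfl⟩, hg1, hge⟩ := hg
      obtain ⟨e', ⟨u', rfl⟩, -, hge'⟩ := hg'
      have he : u • c = u' • c' := uniq g hg1 _ _ (offC u c hc.1) (offC u' c' hc'.1) hge hge'
      exact hno ⟨u'⁻¹ * u, by show (u'⁻¹ * u) • c = c'; rw [mul_smul, he, inv_smul_smul]⟩
    have hsub : U c ∪ U c' ⊆ Finset.univ.erase 1 := by
      intro g hg
      refine Finset.mem_erase.2 ⟨fun e => ?_, Finset.mem_univ _⟩
      subst e
      rcases Finset.mem_union.1 hg with h | h
      · exact hU1 c h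
      · exact hU1 c' h
    have h1 := Finset.card_le_card hsub
    rw [Finset.card_union_of_disjoint hdisj, Finset.card_erase_of_mem (Finset.mem_univ _),
      Finset.card_univ, ← Nat.card_eq_fintype_card] at h1
    have := big c hc
    have := big c' hc'
    have : 0 < Nat.card Φ := Nat.card_pos
    omega
  have orbit_eq : MulAction.orbit Φ c = homAxes G L C := by
    refine Set.Subset.antisymm ?_ one_orbit
    rintro d ⟨u, rfl⟩
    have := homAxes_smul hc (u : G)
    rwa [(u.2 : IsCentre L (u : G) C).fix_point] at this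
  -- the elations are the elements outside `U c`
  have hcompl : ∀ g : Φ, g ∈ U c ↔ (g : G) ∉ elC G L C := by
    intro g
    simp only [U, Finset.mem_biUnion, Set.mem_toFinset, Finset.mem_filter, Finset.mem_univ,
      true_and]
    constructor
    · rintro ⟨e, ⟨u, rfl⟩, hg1, hge⟩ hel
      exact hg1 (Subtype.ext (elC_fix_line hel (offC u c hc.1) hge))
    · intro hel
      obtain ⟨a, ha⟩ := (g.2 : IsCentre L (g : G) C).exists_axis
      have hg1 : g ≠ 1 := fun e => hel (by rw [e]; exact one_mem _)
      have hCa : C ∉ a := fun h => hel (mem_elC.2 ⟨g.2, a, h, ha⟩)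
      refine ⟨a, ?_, hg1, ha.fix_line⟩
      rw [orbit_eq]
      exact ⟨hCa, g, fun e => hg1 (Subtype.ext e), g.2, ha⟩
  have hE : Nat.card (elC G L C) + (U c).card = Nat.card Φ := by
    have h1 : Nat.card (elC G L C) = ((U c)ᶜ).card := by
      rw [← Nat.card_eq_finsetCard]
      exact Nat.card_congr
        { toFun := fun e => ⟨⟨e.1, (mem_elC.1 e.2).1⟩,
            Finset.mem_compl.2 fun h => (hcompl _).1 h e.2⟩
          invFun := fun g => ⟨g.1.1, by_contra fun h => Finset.mem_compl.1 g.2 ((hcompl g.1).2 h)⟩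
          left_inv := fun _ => rfl
          right_inv := fun _ => rfl }
    rw [h1, Finset.card_compl, ← Nat.card_eq_fintype_card]
    have := Finset.card_le_univ (U c)
    rw [← Nat.card_eq_fintype_card] at this
    omega
  have hcard : Nat.card (elC G L C) = (homAxes G L C).ncard := by
    have := cardU c hc.1
    rw [orbit_eq] at this
    omega
  refine ⟨?_, hcard⟩
  have hmaps : (fun e : G => e • c) '' (elC G L C : Set G) ⊆ homAxes G L C := by
    rintro d ⟨e, he, rfl⟩
    have := homAxes_smul hc e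
    rwa [(mem_elC.1 he).1.fix_point] at this
  have hinj : Set.InjOn (fun e : G => e • c) (elC G L C : Set G) := by
    intro e he e' he' h
    have h1 : (e'⁻¹ * e) • c = c := by
      rw [mul_smul]; exact inv_smul_eq_iff.2 h
    exact (inv_mul_eq_one.1 (elC_fix_line (mul_mem (inv_mem he') he) hc.1 h1)).symm
  have heq := Set.eq_of_subset_of_ncard_le hmaps
    (by rw [Set.ncard_image_of_injOn hinj, ← hcard, ← Nat.card_coe_set_eq]; rfl) (Set.toFinite _)
  intro c' hc'
  rw [← heq] at hc'
  obtain ⟨e, he, rfl⟩ := hc'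
  exact ⟨e, he, rfl⟩

theorem andre_dual {a : L} {D : P} (hD : D ∈ homCentres G P a) :
    (∀ D' ∈ homCentres G P a, ∃ t ∈ elA G P a, t • D = D') ∧
      Nat.card (elA G P a) = (homCentres G P a).ncard := by
  have := dualFaithful (G := G) (P := P) (L := L)
  exact andre (G := G) (P := Dual L) (L := Dual P) hD

end Andre

section Directions

variable {G P L : Type*} [Membership P L] [ProjectivePlane P L] [Group G]
  [MulAction G P] [MulAction G L] [PlaneAction G P L] [Finite P] [Finite L] [FaithfulSMul G P]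

theorem commute_of_centres {a : L} {X Y : P} (hX : X ∈ a) (hY : Y ∈ a) (hXY : X ≠ Y) {s t : G}
    (hs : s ∈ elA G P a) (ht : t ∈ elA G P a) (hsX : IsCentre L s X) (htY : IsCentre L t Y) :
    s * t = t * s := by
  by_contra hne
  have h1 : IsCentre L (s * t * s⁻¹ * t⁻¹) Y := by
    have := htY.conj s
    rw [hs.1 Y hY] at this
    exact this.mul htY.inv
  have h2 : IsCentre L (s * t * s⁻¹ * t⁻¹) X := by
    have := hsX.inv.conj t
    rw [ht.1 X hX] at this
    have := hsX.mul this
    simpa [mul_assoc] using this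
  have hc : s * t * s⁻¹ * t⁻¹ ≠ 1 := fun e => hne (commutatorElement_eq_one_iff_mul_comm.1 e)
  exact hXY (centre_unique hc h2 h1)

/-- Nontrivial elations with two different centres and a common axis. -/
theorem elA_elementary [Finite G] {a : L} {X Y : P} (hX : X ∈ a) (hY : Y ∈ a) (hXY : X ≠ Y) {s t : G}
    (hs : s ∈ elA G P a) (ht : t ∈ elA G P a) (hsX : IsCentre L s X) (htY : IsCentre L t Y)
    (hs1 : s ≠ 1) (ht1 : t ≠ 1) :
    (∀ u ∈ elA G P a, ∀ v ∈ elA G P a, u * v = v * u) ∧
      ∃ p : ℕ, p.Prime ∧ ∀ u ∈ elA G P a, u ^ p = 1 := by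
  -- for every element there is one with another centre
  have other : ∀ Z : P, Z ∈ a → ∃ w ∈ elA G P a, w ≠ 1 ∧ ∃ Z' : P, Z' ∈ a ∧ Z' ≠ Z ∧ IsCentre L w Z' := by
    intro Z _
    by_cases hZX : X = Z
    · exact ⟨t, ht, ht1, Y, hY, fun e => hXY (hZX.trans e.symm), htY⟩
    · exact ⟨s, hs, hs1, X, hX, hZX, hsX⟩
  have comm : ∀ u ∈ elA G P a, ∀ v ∈ elA G P a, u * v = v * u := by
    intro u hu v hv
    obtain ⟨U, hU, huU⟩ := hu.2
    obtain ⟨V, hV, hvV⟩ := hv.2
    by_cases hUV : U = V
    · subst hUV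
      obtain ⟨w, hw, hw1, W, hW, hWU, hwW⟩ := other U hU
      have h1 : u * w = w * u := commute_of_centres hU hW hWU.symm hu hw huU hwW
      obtain ⟨V', hV', hvwV'⟩ := (mul_mem hv hw).2
      have hV'U : V' ≠ U := by
        intro e
        have hw' : IsCentre L w U := by
          have := hvV.inv.mul (e ▸ hvwV')
          rwa [inv_mul_cancel_left] at this
        exact hWU (centre_unique hw1 hwW hw')
      have h2 : u * (v * w) = v * w * u :=
        commute_of_centres hU hV' hV'U.symm hu (mul_mem hv hw) huU hvwV'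
      have h3 : u * v * w = v * u * w := by rw [mul_assoc, h2, mul_assoc, ← h1, ← mul_assoc]
      exact mul_right_cancel h3
    · exact commute_of_centres hU hV hUV hu hv huU hvV
  refine ⟨comm, ?_⟩
  obtain ⟨p, hp, hpdvd⟩ := Nat.exists_prime_and_dvd (mt orderOf_eq_one_iff.1 hs1)
  refine ⟨p, hp, ?_⟩
  -- `r` has order `p` and centre `X`
  set r := s ^ (orderOf s / p) with hr
  have hrp : r ^ p = 1 := by
    rw [hr, ← pow_mul, Nat.div_mul_cancel hpdvd, pow_orderOf_eq_one]
  have hr1 : r ≠ 1 := by
    intro e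
    have hdd := orderOf_dvd_of_pow_eq_one e
    have hpos := (isOfFinOrder_of_finite s).orderOf_pos
    have hle := Nat.le_of_dvd (Nat.div_pos (Nat.le_of_dvd hpos hpdvd) hp.pos) hdd
    have hlt := Nat.div_lt_self hpos hp.one_lt
    omega
  have hrA : r ∈ elA G P a := pow_mem hs _
  have hrX : IsCentre L r X := hsX.pow _
  -- centres other than the one of an order `p` element
  have step : ∀ (r : G) (R : P), r ∈ elA G P a → r ≠ 1 → r ^ p = 1 → IsCentre L r R → R ∈ a →
      ∀ u ∈ elA G P a, ∀ U : P, U ∈ a → U ≠ R → IsCentre L u U → u ^ p = 1 := by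
    intro r R hrA hr1 hrp hrR hR u hu U hU hUR huU
    by_contra hne
    obtain ⟨Z, hZ, hruZ⟩ := (mul_mem hrA hu).2
    have h1 : IsCentre L (u ^ p) Z := by
      have := hruZ.pow p
      rwa [Commute.mul_pow (comm r hrA u hu), hrp, one_mul] at this
    have hZU : Z = U := centre_unique hne h1 (huU.pow p)
    subst hZU
    have : IsCentre L r Z := by
      have := hruZ.mul huU.inv
      rwa [mul_inv_cancel_right] at this
    exact hUR (centre_unique hr1 this hrR)
  intro u hu
  obtain ⟨U, hU, huU⟩ := hu.2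
  by_cases hUX : U = X
  · subst hUX
    have htp : t ^ p = 1 := step r U hrA hr1 hrp hrX hX t ht Y hY hXY.symm htY
    exact step t Y ht ht1 htp htY hY u hu U hU hXY huU
  · exact step r X hrA hr1 hrp hrX hX u hu U hU hUX huU

end Directions

end Cfsg.Agent.CG26.OW
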