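import Cfsg.Agent.CG26.OW.FieldTools

/-!
# Ostrom-Wagner: Jordan sets of endomorphisms, semilinear components
-/

set_option autoImplicit false
set_option linter.unusedSectionVars false

namespace Cfsg.Agent.CG26.OW

open Polynomial

variable {N : Type*} [AddCommGroup N]

/-- An additive group of endomorphisms containing `1`, with nonzero elements injective, closed
under `a, b ↦ a b a`. -/
structure JordanSet (M : AddSubgroup (AddMonoid.End N)) : Prop where
  one_mem : 1 ∈ M
  inj : ∀ a ∈ M, a ≠ 0 → Function.Injective a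
  quad : ∀ a ∈ M, ∀ b ∈ M, a * b * a ∈ M

variable {M : AddSubgroup (AddMonoid.End N)}

theorem JordanSet.sq_mem (h : JordanSet M) {a : AddMonoid.End N} (ha : a ∈ M) : a * a ∈ M := by
  simpa using h.quad a ha 1 h.one_mem

theorem JordanSet.pow_mem (h : JordanSet M) {a : AddMonoid.End N} (ha : a ∈ M) :
    ∀ k : ℕ, a ^ k ∈ M
  | 0 => by rw [pow_zero]; exact h.one_mem
  | 1 => by rw [pow_one]; exact ha
  | k + 2 => by
    rw [show k + 2 = k + 1 + 1 from rfl, pow_succ, pow_succ']
    exact h.quad a ha _ (JordanSet.pow_mem h ha k)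

theorem JordanSet.anti_mem (h : JordanSet M) {a b : AddMonoid.End N} (ha : a ∈ M) (hb : b ∈ M) :
    a * b + b * a ∈ M := by
  have := M.sub_mem (M.sub_mem (h.sq_mem (M.add_mem ha hb)) (h.sq_mem ha)) (h.sq_mem hb)
  convert this using 1
  simp only [add_mul, mul_add]
  abel

section Comp

variable {K : Type*} [Field K] (ι : K →+* AddMonoid.End N)

/-- `B` is semilinear with respect to `σ`. -/
def IsComp (σ : RingAut K) (B : AddMonoid.End N) : Prop := ∀ f : K, B * ι f = ι (σ f) * B

variable {ι}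

theorem IsComp.mul {σ τ : RingAut K} {A B : AddMonoid.End N} (hA : IsComp ι σ A)
    (hB : IsComp ι τ B) : IsComp ι (σ * τ) (A * B) := fun f => by
  rw [mul_assoc, hB f, ← mul_assoc, hA, mul_assoc, RingAut.mul_apply]

theorem isComp_coe (a : K) : IsComp ι 1 (ι a) := fun f => by
  rw [← map_mul, ← map_mul, RingAut.one_apply, mul_comm]

theorem isComp_one : IsComp ι (1 : RingAut K) (1 : AddMonoid.End N) := fun f => by
  rw [one_mul, mul_one, RingAut.one_apply]

theorem isComp_zero (σ : RingAut K) : IsComp ι σ 0 := fun f => by rw [zero_mul, mul_zero]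

theorem IsComp.pow {σ : RingAut K} {A : AddMonoid.End N} (hA : IsComp ι σ A) :
    ∀ k : ℕ, IsComp ι (σ ^ k) (A ^ k)
  | 0 => by rw [pow_zero, pow_zero]; exact isComp_one
  | k + 1 => by rw [pow_succ, pow_succ]; exact (IsComp.pow hA k).mul hA

theorem IsComp.coe_mul {σ : RingAut K} {A : AddMonoid.End N} (hA : IsComp ι σ A) (a : K) :
    IsComp ι σ (ι a * A) := by
  have := (isComp_coe (ι := ι) a).mul hA
  rwa [one_mul] at this

theorem IsComp.unit_inv {σ : RingAut K} {Q : (AddMonoid.End N)ˣ}
    (hQ : IsComp ι σ (Q : AddMonoid.End N)) :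
    IsComp ι σ⁻¹ ((Q⁻¹ : (AddMonoid.End N)ˣ) : AddMonoid.End N) := fun f => by
  rw [Units.inv_mul_eq_iff_eq_mul, ← mul_assoc, hQ]
  show ι f = ι (σ (σ⁻¹ f)) * _ * _
  rw [mul_assoc, Units.mul_inv, mul_one, RingAut.inv_apply, RingEquiv.apply_symm_apply]

theorem IsComp.unit_zpow {σ : RingAut K} {Q : (AddMonoid.End N)ˣ}
    (hQ : IsComp ι σ (Q : AddMonoid.End N)) :
    ∀ i : ℤ, IsComp ι (σ ^ i) ((Q ^ i : (AddMonoid.End N)ˣ) : AddMonoid.End N)
  | Int.ofNat k => by
    rw [Int.ofNat_eq_natCast, zpow_natCast, zpow_natCast, Units.val_pow_eq_pow_val]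
    exact hQ.pow k
  | Int.negSucc k => by
    rw [zpow_negSucc, zpow_negSucc, ← inv_pow, ← inv_pow, Units.val_pow_eq_pow_val]
    exact (hQ.unit_inv).pow (k + 1)

theorem coe_mul_pow {σ : RingAut K} {T : AddMonoid.End N} (hT : IsComp ι σ T) (y : K) :
    ∀ k : ℕ, (ι y * T) ^ k = ι (∏ i ∈ Finset.range k, (σ ^ i) y) * T ^ k
  | 0 => by simp
  | k + 1 => by
    rw [pow_succ, coe_mul_pow hT y k, Finset.prod_range_succ, map_mul, mul_assoc,
      ← mul_assoc (T ^ k), (hT.pow k) y, pow_succ]
    simp only [mul_assoc]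

theorem coe_left_cancel {a : K} (ha : a ≠ 0) {B : AddMonoid.End N} (h : ι a * B = 0) : B = 0 := by
  have := congrArg (ι a⁻¹ * ·) h
  simpa [← mul_assoc, ← map_mul, inv_mul_cancel₀ ha] using this

variable [Finite K]

theorem comp_of_gen {θ : K} (hθ : ∀ y : K, y ≠ 0 → ∃ j : ℕ, θ ^ j = y) {B : AddMonoid.End N}
    {l : K} (hB : B * ι θ = ι l * B) (hB0 : B ≠ 0) :
    ∃ σ : RingAut K, σ θ = l ∧ IsComp ι σ B := by
  have hex : ∀ f : K, ∃ f' : K, B * ι f = ι f' * B := by
    intro f
    by_cases hf : f = 0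
    · exact ⟨0, by rw [hf, map_zero, mul_zero, zero_mul]⟩
    obtain ⟨j, rfl⟩ := hθ f hf
    refine ⟨l ^ j, ?_⟩
    induction j with
    | zero => simp
    | succ j IH =>
      rw [pow_succ, pow_succ, map_mul, map_mul, ← mul_assoc]
      by_cases hj : θ ^ j = 0
      · have hθ0 : θ = 0 := eq_zero_of_pow_eq_zero hj
        subst hθ0
        have : ι l * B = 0 := by rw [← hB, map_zero, mul_zero]
        rw [map_zero, mul_zero, mul_assoc (ι (l ^ j)), this, mul_zero]
      · rw [IH hj, mul_assoc, hB, ← mul_assoc]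
  choose φ hφ using hex
  have huniq : ∀ f f' : K, B * ι f = ι f' * B → φ f = f' := by
    intro f f' h
    by_contra hne
    exact hB0 (coe_left_cancel (sub_ne_zero.2 hne) (by rw [map_sub, sub_mul, ← hφ, h, sub_self]))
  let Φ : K →+* K :=
    { toFun := φ
      map_one' := huniq 1 1 (by simp)
      map_mul' := fun a b => huniq _ _ (by rw [map_mul, ← mul_assoc, hφ, mul_assoc, hφ, ← mul_assoc, ← map_mul])
      map_zero' := huniq 0 0 (by simp)
      map_add' := fun a b => huniq _ _ (by rw [map_add, mul_add, hφ, hφ, ← add_mul, ← map_add]) }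
  exact ⟨RingEquiv.ofBijective Φ (Finite.injective_iff_bijective.1 Φ.injective), huniq θ l hB, hφ⟩

variable [Fintype (RingAut K)]

/-- Every endomorphism is a sum of semilinear ones. -/
theorem exists_decomp (B : AddMonoid.End N) :
    ∃ c : RingAut K → AddMonoid.End N, (∀ σ, IsComp ι σ (c σ)) ∧ ∑ σ, c σ = B := by
  classical
  cases nonempty_fintype K
  let R := AddMonoid.End N
  let _ : Module K R := Module.compHom R ι
  obtain ⟨θ, hθ⟩ := exists_gen K
  let T : Module.End K R :=
    { toFun := fun B => B * ι θ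
      map_add' := fun a b => add_mul a b _
      map_smul' := fun k a => mul_assoc (ι k) a _ }
  have hTpow : ∀ (j : ℕ) (X : R), (T ^ j) X = X * ι (θ ^ j) := by
    intro j
    induction j with
    | zero => intro X; simp
    | succ j IH =>
      intro X
      rw [pow_succ', Module.End.mul_apply, IH]
      show X * ι (θ ^ j) * ι θ = _
      rw [pow_succ, map_mul, mul_assoc]
  have hkill : aeval T (∏ c : K, (X - C c)) = 0 := by
    rw [prod_X_sub_C_eq, map_sub, map_pow, aeval_X]
    refine LinearMap.ext fun Y => ?_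
    rw [LinearMap.sub_apply, hTpow, FiniteField.pow_card]
    exact sub_self _
  let e : K → R := fun l => aeval T (Lagrange.basis Finset.univ id l) B
  have he : ∀ l, e l * ι θ = ι l * e l := by
    intro l
    have hdiv : (∏ c : K, (X - C c)) ∣ (X - C l) * Lagrange.basis Finset.univ id l := by
      rw [Lagrange.basis, ← Finset.mul_prod_erase _ _ (Finset.mem_univ l)]
      refine mul_dvd_mul_left _ (Finset.prod_dvd_prod_of_dvd _ _ fun c _ => ?_)
      exact Dvd.intro_left _ rfl
    obtain ⟨S, hS⟩ := hdiv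
    have h0 : aeval T ((X - C l) * Lagrange.basis Finset.univ id l) B = 0 := by
      rw [hS, map_mul, hkill, zero_mul, LinearMap.zero_apply]
    rw [map_mul, Module.End.mul_apply, map_sub, aeval_X, aeval_C, LinearMap.sub_apply,
      Module.algebraMap_end_apply] at h0
    exact sub_eq_zero.1 h0
  have hsum : ∑ l, e l = B := by
    show ∑ l, aeval T (Lagrange.basis Finset.univ id l) B = B
    rw [← LinearMap.sum_apply, ← map_sum,
      Lagrange.sum_basis Function.injective_id.injOn Finset.univ_nonempty, map_one,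
      Module.End.one_apply]
  refine ⟨fun σ => e (σ θ), fun σ => ?_, ?_⟩
  · by_cases h0 : e (σ θ) = 0
    · show IsComp ι σ (e (σ θ))
      rw [h0]; exact isComp_zero σ
    · obtain ⟨τ, h1, h2⟩ := comp_of_gen hθ (he _) h0
      rw [eq_of_gen hθ h1] at h2
      exact h2
  · have hinj : Set.InjOn (fun σ : RingAut K => σ θ) (Finset.univ : Finset (RingAut K)) :=
      fun a _ b _ h => eq_of_gen hθ h
    conv_rhs => rw [← hsum]
    rw [← Finset.sum_image hinj]
    refine Finset.sum_subset (Finset.subset_univ _) fun l _ hl => ?_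
    by_contra h0
    obtain ⟨τ, h1, -⟩ := comp_of_gen hθ (he l) h0
    exact hl (Finset.mem_image.2 ⟨τ, Finset.mem_univ _, h1⟩)

/-- The decomposition is unique. -/
theorem comp_indep {c : RingAut K → AddMonoid.End N} (hc : ∀ σ, IsComp ι σ (c σ))
    (h : ∑ σ, c σ = 0) : ∀ σ, c σ = 0 := by
  let _ : Module K (AddMonoid.End N) := Module.compHom _ ι
  intro σ
  refine aut_indep (K := K) Finset.univ id Function.injective_id.injOn c (fun f => ?_) σ
    (Finset.mem_univ σ)
  show ∑ τ, ι (τ f) * c τ = 0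
  rw [Finset.sum_congr rfl fun τ _ => (hc τ f).symm, ← Finset.sum_mul, h, zero_mul]

/-- A sum of components for two different automorphisms. -/
theorem comp_indep₂ {σ τ : RingAut K} (hστ : σ ≠ τ) {A B : AddMonoid.End N} (hA : IsComp ι σ A)
    (hB : IsComp ι τ B) (h : A + B = 0) : A = 0 ∧ B = 0 := by
  classical
  have hsum : ∑ ρ : RingAut K, (if ρ = σ then A else 0) + ∑ ρ : RingAut K, (if ρ = τ then B else 0) = 0 := by
    simp [h]
  rw [← Finset.sum_add_distrib] at hsum
  have := comp_indep (ι := ι) (fun ρ => by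
    by_cases h1 : ρ = σ
    · subst h1; simpa [hστ] using hA
    · by_cases h2 : ρ = τ
      · subst h2; simpa [h1] using hB
      · simpa [h1, h2] using isComp_zero (ι := ι) ρ) hsum
  exact ⟨by simpa [hστ] using this σ, by simpa [Ne.symm hστ] using this τ⟩

end Comp

end Cfsg.Agent.CG26.OW
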