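import Cfsg.Agent.CG26.OW.Central

/-!
# Ostrom-Wagner: groups of elations with a common axis
-/

set_option autoImplicit false
set_option linter.unusedSectionVars false

namespace Cfsg.Agent.CG26.OW

open Configuration

section

variable (G : Type*) {P L : Type*} [Membership P L] [ProjectivePlane P L] [Group G] [Finite G]
  [MulAction G P] [MulAction G L] [PlaneAction G P L] [Finite P] [Finite L] [FaithfulSMul G P]

/-- The elations with axis `a` and centre `X`. -/
def dirGp (a : L) (X : P) : Subgroup G := elA G P a ⊓ centreGp G L X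

variable {G}

theorem mem_dirGp {g : G} {a : L} {X : P} :
    g ∈ dirGp G a X ↔ g ∈ elA G P a ∧ IsCentre L g X := Iff.rfl

/-- The nontrivial elations with axis `a` are partitioned by their centres. -/
theorem elA_partition (a : L) [Fintype P] [DecidablePred fun p : P => p ∈ a] :
    Nat.card (elA G P a) + (ProjectivePlane.order P L + 1) =
      (∑ X ∈ Finset.univ.filter (fun p : P => p ∈ a), Nat.card (dirGp G a X)) + 1 := by
  classical
  have : Fintype G := Fintype.ofFinite G
  let D : P → Finset G := fun X =>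
    Finset.univ.filter fun g : G => g ≠ 1 ∧ g ∈ elA G P a ∧ IsCentre L g X
  have hD : ∀ X : P, (D X).card + 1 = Nat.card (dirGp G a X) := by
    intro X
    rw [Nat.card_eq_fintype_card, Fintype.card_subtype]
    have : D X = (Finset.univ.filter fun g : G => g ∈ dirGp G a X).erase 1 := by
      ext g; simp [D, mem_dirGp]
    rw [this, Finset.card_erase_add_one (by simp [one_mem])]
  have hU : (Finset.univ.filter fun g : G => g ∈ elA G P a).erase 1 =
      (Finset.univ.filter fun p : P => p ∈ a).biUnion D := by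
    ext g
    simp only [Finset.mem_erase, Finset.mem_filter, Finset.mem_univ, true_and, Finset.mem_biUnion, D]
    constructor
    · rintro ⟨h1, h2⟩
      obtain ⟨C, hC, hgC⟩ := h2.2
      exact ⟨C, hC, h1, h2, hgC⟩
    · rintro ⟨C, -, h1, h2, -⟩
      exact ⟨h1, h2⟩
  have hcard : ((Finset.univ.filter fun g : G => g ∈ elA G P a).erase 1).card + 1 =
      Nat.card (elA G P a) := by
    rw [Finset.card_erase_add_one (by simp [one_mem]), Nat.card_eq_fintype_card,
      Fintype.card_subtype]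
  rw [hU, Finset.card_biUnion] at hcard
  · have hl : (Finset.univ.filter fun p : P => p ∈ a).card = ProjectivePlane.order P L + 1 := by
      rw [← ncard_line (P := P) a, Set.ncard_eq_toFinset_card', Set.toFinset_ofPred]
    rw [← hcard, ← hl, ← Finset.sum_congr rfl fun X _ => hD X, Finset.sum_add_distrib,
      Finset.sum_const, smul_eq_mul, mul_one]
    omega
  · intro X _ Y _ hXY
    rw [Function.onFun, Finset.disjoint_left]
    intro g hg hg'
    simp only [D, Finset.mem_filter] at hg hg'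
    exact hXY (centre_unique hg.2.1 hg.2.2.2 hg'.2.2.2)

theorem ncard_line_diff {X : P} {m : L} (hX : X ∈ m) :
    {p : P | p ∈ m ∧ p ≠ X}.ncard = ProjectivePlane.order P L := by
  have h : {p : P | p ∈ m ∧ p ≠ X} = {p : P | p ∈ m} \ {X} := rfl
  rw [h, Set.ncard_diff_singleton_of_mem (by exact hX), ncard_line]
  rfl

theorem ncard_pencil_diff {X : P} {a : L} (hX : X ∈ a) :
    {l : L | X ∈ l ∧ l ≠ a}.ncard = ProjectivePlane.order P L := by
  have h := ncard_line_diff (P := Dual L) (L := Dual P) (X := a) (m := X) hX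
  rw [ProjectivePlane.Dual.order] at h
  exact h

theorem card_dirGp_dvd {a : L} {X : P} (hX : X ∈ a) :
    Nat.card (dirGp G a X) ∣ ProjectivePlane.order P L := by
  obtain ⟨m, hXm, hma⟩ := exists_line_ne L X a
  have := card_dvd_ncard_mul (dirGp G a X) ⊥ bot_le {p : P | p ∈ m ∧ p ≠ X} ?_ ?_
  · rwa [ncard_line_diff hXm, Subgroup.card_bot, mul_one] at this
  · intro h hh p ⟨hp, hpX⟩
    obtain ⟨hh1, hh2⟩ := mem_dirGp.1 hh
    refine ⟨mem_of_fixed (hh2 m hXm) hp, fun e => hpX ?_⟩
    rw [← hh2.fix_point, smul_left_cancel_iff] at e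
    exact e
  · intro p ⟨hp, hpX⟩ h hh
    rw [Subgroup.mem_bot]
    refine ⟨fun e => elA_fix_point (mem_dirGp.1 hh).1 ?_ e, fun e => by rw [e, one_smul]⟩
    exact fun hpa => hpX (point_eq hma hp hpa hXm hX)

theorem card_elA_dvd {a : L} {X : P} (hX : X ∈ a) :
    Nat.card (elA G P a) ∣ ProjectivePlane.order P L * Nat.card (dirGp G a X) := by
  have := card_dvd_ncard_mul (elA G P a) (dirGp G a X) inf_le_left {l : L | X ∈ l ∧ l ≠ a} ?_ ?_
  · rwa [ncard_pencil_diff hX] at this
  · intro h hh l ⟨hl, hla⟩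
    refine ⟨mem_smul_of_fixed (hh.1 X hX) hl, fun e => hla ?_⟩
    rw [← hh.1.fix_line, smul_left_cancel_iff] at e
    exact e
  · intro l ⟨hl, hla⟩ h hh
    constructor
    · intro e
      refine mem_dirGp.2 ⟨hh, ?_⟩
      obtain ⟨C, hCa, hC⟩ := hh.2
      by_cases h1 : h = 1
      · subst h1; exact isCentre_one X
      rcases fixed_line_cases h1 hh.1 hC e with hCl | hla'
      · rwa [point_eq hla hCl hCa hl hX] at hC
      · exact absurd hla' hla
    · intro hK
      exact (mem_dirGp.1 hK).2 l hl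

theorem exists_card_eq_prime_pow {a : L} {p : ℕ} (hp : p.Prime)
    (hexp : ∀ u ∈ elA G P a, u ^ p = 1) :
    (∃ j : ℕ, Nat.card (elA G P a) = p ^ j) ∧
      ∀ X : P, ∃ i : ℕ, Nat.card (dirGp G a X) = p ^ i := by
  have := Fact.mk hp
  have key : ∀ H : Subgroup G, H ≤ elA G P a → ∃ j : ℕ, Nat.card H = p ^ j := fun H hH =>
    IsPGroup.iff_card.1 fun g => ⟨1, Subtype.ext (by
      rw [pow_one]
      simpa using hexp g.1 (hH g.2))⟩
  exact ⟨key _ le_rfl, fun X => key _ inf_le_left⟩

/-- Two different centres force an elementary abelian group of prime power order. -/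
theorem exists_prime_of_directions {a : L} {X Y : P} (hX : X ∈ a) (hY : Y ∈ a) (hXY : X ≠ Y)
    (hs : dirGp G a X ≠ ⊥) (ht : dirGp G a Y ≠ ⊥) :
    ∃ p : ℕ, p.Prime ∧ (∃ j : ℕ, Nat.card (elA G P a) = p ^ j) ∧
      ∀ Z : P, ∃ i : ℕ, Nat.card (dirGp G a Z) = p ^ i := by
  obtain ⟨s, hs, hs1⟩ := (dirGp G a X).bot_or_exists_ne_one.resolve_left hs
  obtain ⟨t, ht, ht1⟩ := (dirGp G a Y).bot_or_exists_ne_one.resolve_left ht
  obtain ⟨p, hp, hexp⟩ := (elA_elementary hX hY hXY (mem_dirGp.1 hs).1 (mem_dirGp.1 ht).1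
    (mem_dirGp.1 hs).2 (mem_dirGp.1 ht).2 hs1 ht1).2
  exact ⟨p, hp, exists_card_eq_prime_pow hp hexp⟩

/-- If every point of `a` is the centre of a nontrivial elation with axis `a`, the order of the
plane is a power of a prime. -/
theorem order_prime_pow_of_directions {a : L} (h : ∀ X : P, X ∈ a → dirGp G a X ≠ ⊥) :
    ∃ p x : ℕ, p.Prime ∧ ProjectivePlane.order P L = p ^ x := by
  classical
  cases nonempty_fintype P
  obtain ⟨X, hX, -⟩ := exists_mem_ne P a (Classical.choose (exists_not_mem P a))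
  obtain ⟨Y, hY, hYX⟩ := exists_mem_ne P a X
  obtain ⟨p, hp, ⟨j, hj⟩, hdir⟩ := exists_prime_of_directions hY hX hYX (h Y hY) (h X hX)
  set k := ProjectivePlane.order P L with hk
  have hk2 : 2 ≤ k := two_le_order P L
  set v := k.factorization p with hv
  refine ⟨p, v, hp, ?_⟩
  set K := p ^ v with hK
  have hKdvd : K ∣ k := Nat.ordProj_dvd k p
  by_contra hne
  obtain ⟨r, hr⟩ := hKdvd
  have hr2 : 2 ≤ r := by
    rcases Nat.lt_or_ge r 2 with h | h
    · interval_cases r
      · omega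
      · exact absurd (by rw [hr, mul_one]) hne
    · exact h
  have hKpos : 0 < K := pow_pos hp.pos v
  have hle : ∀ Z : P, Z ∈ a → Nat.card (dirGp G a Z) ≤ K ∧
      p ^ j ≤ K * Nat.card (dirGp G a Z) ∧ 2 ≤ Nat.card (dirGp G a Z) := by
    intro Z hZ
    obtain ⟨i, hi⟩ := hdir Z
    have h1 : p ^ i ∣ k := hi ▸ card_dirGp_dvd hZ
    have h1' := (hp.pow_dvd_iff_le_factorization (by omega)).1 h1
    have h2 : p ^ j ∣ k * p ^ i := by
      rw [← hj, ← hi]; exact card_elA_dvd hZ
    have h2' : j ≤ v + i := by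
      have hpi : p ^ i ≠ 0 := pow_ne_zero _ hp.ne_zero
      have := (hp.pow_dvd_iff_le_factorization (Nat.mul_ne_zero (by omega) hpi)).1 h2
      rw [Nat.factorization_mul (by omega) hpi, hp.factorization_pow] at this
      simpa using this
    refine ⟨hi ▸ Nat.pow_le_pow_right hp.pos h1', ?_, ?_⟩
    · rw [hi, hK, ← pow_add]
      exact Nat.pow_le_pow_right hp.pos h2'
    · exact Subgroup.one_lt_card_iff_ne_bot _ |>.2 (h Z hZ)
  have hpart := elA_partition (G := G) (P := P) a
  have hl : (Finset.univ.filter fun p : P => p ∈ a).card = k + 1 := by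
    rw [hk, ← ncard_line (P := P) a, Set.ncard_eq_toFinset_card', Set.toFinset_ofPred]
  have hsum2 : (k + 1) * 2 ≤ ∑ Z ∈ Finset.univ.filter (fun p : P => p ∈ a), Nat.card (dirGp G a Z) := by
    rw [← hl, ← smul_eq_mul, ← Finset.sum_const]
    exact Finset.sum_le_sum fun Z hZ => (hle Z (Finset.mem_filter.1 hZ).2).2.2
  have hvj : v < j := by
    by_contra hjv
    have : p ^ j ≤ K := Nat.pow_le_pow_right hp.pos (not_lt.1 hjv)
    rw [hj] at hpart
    nlinarith
  obtain ⟨d, rfl⟩ := Nat.exists_eq_add_of_le hvj.le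
  have hd : 0 < d := by omega
  have hQ : ∀ Z ∈ Finset.univ.filter (fun p : P => p ∈ a), p ^ d ≤ Nat.card (dirGp G a Z) := by
    intro Z hZ
    have := (hle Z (Finset.mem_filter.1 hZ).2).2.1
    rw [pow_add] at this
    exact Nat.le_of_mul_le_mul_left this hKpos
  have hsumQ : (k + 1) * p ^ d ≤
      ∑ Z ∈ Finset.univ.filter (fun p : P => p ∈ a), Nat.card (dirGp G a Z) := by
    rw [← hl, ← smul_eq_mul, ← Finset.sum_const]
    exact Finset.sum_le_sum hQ
  have hQ2 : 2 ≤ p ^ d := le_trans hp.two_le (Nat.le_self_pow hd.ne' p)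
  rw [hj, pow_add, ← hK] at hpart
  have h2K : 2 * K ≤ k := by rw [hr]; nlinarith
  nlinarith

/-- If all the groups of elations with given centre and axis `a` have the same order `h > 1`, all
elations with axis `a` exist. -/
theorem full_of_const {a : L} {h : ℕ} (h1 : 1 < h)
    (hconst : ∀ X : P, X ∈ a → Nat.card (dirGp G a X) = h) :
    h = ProjectivePlane.order P L ∧
      Nat.card (elA G P a) = ProjectivePlane.order P L ^ 2 ∧
      (∃ p x : ℕ, p.Prime ∧ ProjectivePlane.order P L = p ^ x) ∧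
      ∀ u ∈ elA G P a, ∀ w ∈ elA G P a, u * w = w * u := by
  classical
  cases nonempty_fintype P
  have hne : ∀ X : P, X ∈ a → dirGp G a X ≠ ⊥ := fun X hX e => by
    have := hconst X hX
    rw [e, Subgroup.card_bot] at this
    omega
  obtain ⟨X, hX, -⟩ := exists_mem_ne P a (Classical.choose (exists_not_mem P a))
  obtain ⟨Y, hY, hYX⟩ := exists_mem_ne P a X
  obtain ⟨p, hp, ⟨j, hj⟩, hdir⟩ := exists_prime_of_directions hY hX hYX (hne Y hY) (hne X hX)
  obtain ⟨s, hs, hs1⟩ := (dirGp G a X).bot_or_exists_ne_one.resolve_left (hne X hX)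
  obtain ⟨t, ht, ht1⟩ := (dirGp G a Y).bot_or_exists_ne_one.resolve_left (hne Y hY)
  have hcomm := (elA_elementary hX hY hYX.symm (mem_dirGp.1 hs).1 (mem_dirGp.1 ht).1
    (mem_dirGp.1 hs).2 (mem_dirGp.1 ht).2 hs1 ht1).1
  obtain ⟨p', x, hp', hn⟩ := order_prime_pow_of_directions hne
  set n := ProjectivePlane.order P L with hn'
  have hn2 : 2 ≤ n := two_le_order P L
  obtain ⟨i, hi⟩ := hdir X
  rw [hconst X hX] at hi
  have hdvd : h ∣ n := hconst X hX ▸ card_dirGp_dvd hX
  have hi0 : i ≠ 0 := by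
    rintro rfl
    simp at hi
    omega
  have hpp : p = p' := by
    have : p ∣ p' ^ x := hn ▸ (dvd_trans (dvd_pow_self p hi0) (hi ▸ hdvd))
    exact (Nat.prime_dvd_prime_iff_eq hp hp').1 (hp.dvd_of_dvd_pow this)
  subst hpp
  have hpart := elA_partition (G := G) (P := P) a
  have hl : (Finset.univ.filter fun p : P => p ∈ a).card = n + 1 := by
    rw [hn', ← ncard_line (P := P) a, Set.ncard_eq_toFinset_card', Set.toFinset_ofPred]
  rw [Finset.sum_congr rfl fun Z hZ => hconst Z (Finset.mem_filter.1 hZ).2, Finset.sum_const, hl,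
    smul_eq_mul, ← hn', hj] at hpart
  -- `p ^ j + (n + 1) = (n + 1) * h + 1`
  obtain ⟨r, hr⟩ := hdvd
  have hr0 : 0 < r := by
    rcases Nat.eq_zero_or_pos r with h0 | h0
    · rw [h0, mul_zero] at hr; omega
    · exact h0
  have hr1 : r = 1 := by
    by_contra hne1
    have hr' : r ∣ p ^ x := ⟨h, by rw [← hn, hr, mul_comm]⟩
    obtain ⟨e, -, he⟩ := (Nat.dvd_prime_pow hp).1 hr'
    have he0 : e ≠ 0 := by rintro rfl; simp at he; exact hne1 he
    have hij : i < j := by
      by_contra hji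
      have : p ^ j ≤ h := hi ▸ Nat.pow_le_pow_right hp.pos (not_lt.1 hji)
      nlinarith
    obtain ⟨d, rfl⟩ := Nat.exists_eq_add_of_le hij.le
    rw [pow_add, ← hi] at hpart
    -- divide by `h`
    have heq : h * (p ^ d + r) = h * (n + 1) := by rw [mul_add, ← hr]; linarith
    have heq' : p ^ d + r = n + 1 := Nat.eq_of_mul_eq_mul_left (by omega) heq
    have hd0 : d ≠ 0 := by omega
    have hpd : p ∣ p ^ d + r := dvd_add (dvd_pow_self p hd0) (he ▸ dvd_pow_self p he0)
    rw [heq'] at hpd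
    have hpn : p ∣ n := hr ▸ dvd_mul_of_dvd_left (hi ▸ dvd_pow_self p hi0) r
    have := (Nat.dvd_add_right hpn).1 hpd
    exact hp.not_dvd_one this
  rw [hr1, mul_one] at hr
  refine ⟨hr.symm, ?_, ⟨p, x, hp, hn⟩, hcomm⟩
  rw [hj, sq]
  rw [← hr] at hpart
  linarith

end

end Cfsg.Agent.CG26.OW
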