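import Mathlib

/-!
# Ostrom-Wagner: tools on finite fields and semilinear maps
-/

set_option autoImplicit false
set_option linter.unusedSectionVars false

namespace Cfsg.Agent.CG26.OW

open Polynomial

variable {K : Type*} [Field K] [Finite K]

variable (K) in
/-- A generator of the multiplicative group. -/
theorem exists_gen : ∃ θ : K, ∀ y : K, y ≠ 0 → ∃ j : ℕ, θ ^ j = y := by
  obtain ⟨θ, hθ⟩ := IsCyclic.exists_monoid_generator (α := Kˣ)
  refine ⟨θ, fun y hy => ?_⟩
  obtain ⟨j, hj⟩ := Submonoid.mem_powers_iff (Units.mk0 y hy) θ |>.1 (hθ _)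
  exact ⟨j, by rw [← Units.val_pow_eq_pow_val, hj, Units.val_mk0]⟩

theorem eq_of_gen {θ : K} (hθ : ∀ y : K, y ≠ 0 → ∃ j : ℕ, θ ^ j = y) {τ τ' : RingAut K}
    (h : τ θ = τ' θ) : τ = τ' := by
  refine RingEquiv.ext fun y => ?_
  by_cases hy : y = 0
  · rw [hy, map_zero, map_zero]
  · obtain ⟨j, rfl⟩ := hθ y hy
    rw [map_pow, map_pow, h]

/-- Independence of automorphisms, with values in a module. -/
theorem aut_indep {ι V : Type*} [AddCommGroup V] [Module K V] (s : Finset ι) (τ : ι → RingAut K)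
    (hτ : Set.InjOn τ s) (x : ι → V) (h : ∀ f : K, ∑ i ∈ s, τ i f • x i = 0) :
    ∀ i ∈ s, x i = 0 := by
  classical
  obtain ⟨θ, hθ⟩ := exists_gen K
  intro i hi
  let P : K[X] := ∏ j ∈ s.erase i, (X - C (τ j θ))
  have h0 : ∑ j ∈ s, P.eval (τ j θ) • x j = 0 := by
    calc ∑ j ∈ s, P.eval (τ j θ) • x j
        = ∑ j ∈ s, ∑ k ∈ Finset.range (P.natDegree + 1), (P.coeff k * τ j (θ ^ k)) • x j := by
          refine Finset.sum_congr rfl fun j _ => ?_
          rw [eval_eq_sum_range, Finset.sum_smul]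
          exact Finset.sum_congr rfl fun k _ => by rw [map_pow]
      _ = ∑ k ∈ Finset.range (P.natDegree + 1), P.coeff k • ∑ j ∈ s, τ j (θ ^ k) • x j := by
          rw [Finset.sum_comm]
          exact Finset.sum_congr rfl fun k _ => by rw [Finset.smul_sum]; simp only [mul_smul]
      _ = 0 := Finset.sum_eq_zero fun k _ => by rw [h, smul_zero]
  rw [Finset.sum_eq_single i] at h0
  · refine (smul_eq_zero.1 h0).resolve_left ?_
    simp only [P, eval_prod, eval_sub, eval_X, eval_C]
    refine Finset.prod_ne_zero_iff.2 fun j hj => sub_ne_zero.2 fun e => ?_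
    exact (Finset.ne_of_mem_erase hj) (hτ (Finset.mem_of_mem_erase hj) hi (eq_of_gen hθ e.symm))
  · intro j hj hji
    have : P.eval (τ j θ) = 0 := by
      simp only [P, eval_prod, eval_sub, eval_X, eval_C]
      exact Finset.prod_eq_zero (Finset.mem_erase.2 ⟨hji, hj⟩) (sub_self _)
    rw [this, zero_smul]
  · exact fun hn => absurd hi hn

instance finite_ringAut : Finite (RingAut K) := Finite.of_injective _ DFunLike.coe_injective

/-- The norm along the cyclic group generated by `σ`. -/
noncomputable def nrm (σ : RingAut K) (y : K) : K :=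
  ∏ i ∈ Finset.range (orderOf σ), (σ ^ i) y

theorem aut_pow_apply (σ : RingAut K) (i j : ℕ) (y : K) :
    (σ ^ i) ((σ ^ j) y) = (σ ^ (i + j)) y := by
  rw [pow_add]; rfl

theorem nrm_mul (σ : RingAut K) (a b : K) : nrm σ (a * b) = nrm σ a * nrm σ b := by
  simp [nrm, Finset.prod_mul_distrib]

theorem nrm_one (σ : RingAut K) : nrm σ (1 : K) = 1 := by simp [nrm]

theorem nrm_ne_zero (σ : RingAut K) {y : K} (hy : y ≠ 0) : nrm σ y ≠ 0 := by
  exact Finset.prod_ne_zero_iff.2 fun i _ => (map_ne_zero_iff _ (σ ^ i).injective).2 hy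

theorem nrm_apply (σ : RingAut K) (y : K) : nrm σ (σ y) = nrm σ y := by
  have hpos : 0 < orderOf σ := (isOfFinOrder_of_finite σ).orderOf_pos
  obtain ⟨m, hm⟩ := Nat.exists_eq_succ_of_ne_zero hpos.ne'
  rw [nrm, nrm, hm, Finset.prod_range_succ, Finset.prod_range_succ']
  have h1 : ∀ i : ℕ, (σ ^ i) (σ y) = (σ ^ (i + 1)) y := fun i => by rw [pow_succ]; rfl
  simp only [h1]
  rw [show σ ^ (m + 1) = 1 from by rw [← Nat.succ_eq_add_one, ← hm, pow_orderOf_eq_one], pow_zero]

theorem apply_nrm (σ : RingAut K) (y : K) : σ (nrm σ y) = nrm σ y := by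
  conv_rhs => rw [← nrm_apply]
  rw [nrm, map_prod, nrm]
  refine Finset.prod_congr rfl fun i _ => ?_
  show (σ * σ ^ i) y = (σ ^ i * σ) y
  rw [← pow_succ', ← pow_succ]

theorem nrm_inv (σ : RingAut K) {y : K} (hy : y ≠ 0) : nrm σ y⁻¹ = (nrm σ y)⁻¹ := by
  refine eq_inv_of_mul_eq_one_left ?_
  rw [← nrm_mul, inv_mul_cancel₀ hy, nrm_one]

theorem nrm_zero (σ : RingAut K) : nrm σ (0 : K) = 0 := by
  refine Finset.prod_eq_zero (i := 0) ?_ (by simp)
  exact Finset.mem_range.2 (isOfFinOrder_of_finite σ).orderOf_pos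

/-- A fixed vector of a semilinear map of finite order on an invariant subspace. -/
theorem exists_fixed {V : Type*} [AddCommGroup V] [Module K V] (σ : RingAut K) (u : V →+ V)
    (hu : ∀ (f : K) (x : V), u (f • x) = σ f • u x) (E : Set V)
    (hEadd : ∀ x ∈ E, ∀ y ∈ E, x + y ∈ E) (hEK : ∀ (f : K), ∀ x ∈ E, f • x ∈ E)
    (hEu : ∀ x ∈ E, u x ∈ E) (hper : ∀ x ∈ E, u^[orderOf σ] x = x) {e : V} (he : e ∈ E)
    (he0 : e ≠ 0) : ∃ w ∈ E, w ≠ 0 ∧ u w = w := by
  classical
  have hpos : 0 < orderOf σ := (isOfFinOrder_of_finite σ).orderOf_pos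
  obtain ⟨m, hm⟩ := Nat.exists_eq_succ_of_ne_zero hpos.ne'
  have hit : ∀ (i : ℕ) (f : K) (x : V), u^[i] (f • x) = (σ ^ i) f • u^[i] x := by
    intro i
    induction i with
    | zero => intro f x; rfl
    | succ i IH =>
      intro f x
      rw [Function.iterate_succ_apply', IH, hu, Function.iterate_succ_apply', pow_succ']
      rfl
  have hitE : ∀ (i : ℕ), ∀ x ∈ E, u^[i] x ∈ E := by
    intro i
    induction i with
    | zero => exact fun x hx => hx
    | succ i IH => intro x hx; rw [Function.iterate_succ_apply']; exact hEu _ (IH x hx)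
  let w : K → V := fun f => ∑ j ∈ Finset.range (orderOf σ), u^[j] (f • e)
  have hfix : ∀ f, u (w f) = w f := by
    intro f
    simp only [w, map_sum]
    rw [hm, Finset.sum_range_succ, Finset.sum_range_succ']
    congr 1
    · exact Finset.sum_congr rfl fun j _ => (Function.iterate_succ_apply' u j _).symm
    · rw [← Function.iterate_succ_apply' u m (f • e)]
      rw [hm] at hper
      exact hper _ (hEK f e he)
  have hwE : ∀ f, w f ∈ E := by
    intro f
    have h0 : (0 : V) ∈ E := by have := hEK 0 e he; rwa [zero_smul] at this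
    exact Finset.sum_induction _ (· ∈ E) (fun a b ha hb => hEadd a ha b hb) h0
      fun j _ => hitE j _ (hEK f e he)
  by_contra hne
  push_neg at hne
  have hzero : ∀ f, w f = 0 := fun f => by_contra fun h => hne _ (hwE f) h (hfix f)
  have hinj : Set.InjOn (fun j : ℕ => σ ^ j) (Finset.range (orderOf σ)) := by
    intro a ha b hb h
    exact pow_injOn_Iio_orderOf (by simpa using ha) (by simpa using hb) h
  have := aut_indep (K := K) (Finset.range (orderOf σ)) (fun j => σ ^ j) hinj (fun j => u^[j] e)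
    (fun f => by
      rw [← hzero f]
      exact Finset.sum_congr rfl fun j _ => (hit j f e).symm) 0 (Finset.mem_range.2 hpos)
  exact he0 this

/-- Hilbert 90 for finite fields. -/
theorem exists_of_nrm_eq_one (σ : RingAut K) {y : K} (hy : nrm σ y = 1) :
    ∃ w : K, w ≠ 0 ∧ y * σ w = w := by
  let u : K →+ K :=
    { toFun := fun x => y * σ x
      map_zero' := by simp
      map_add' := fun a b => by simp [mul_add] }
  have hit : ∀ (i : ℕ) (x : K), u^[i] x = (∏ k ∈ Finset.range i, (σ ^ k) y) * (σ ^ i) x := by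
    intro i
    induction i with
    | zero => intro x; simp
    | succ i IH =>
      intro x
      rw [Function.iterate_succ_apply', IH]
      show y * σ _ = _
      rw [map_mul, map_prod, Finset.prod_range_succ', pow_zero, RingAut.one_apply, pow_succ']
      have : ∀ k, σ ((σ ^ k) y) = (σ ^ (k + 1)) y := fun k => by rw [pow_succ']; rfl
      simp only [this]
      show y * (_ * σ ((σ ^ i) x)) = _ * y * (σ * σ ^ i) x
      rw [RingAut.mul_apply]
      ring
  obtain ⟨w, -, hw0, hw⟩ := exists_fixed (V := K) σ u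
    (fun f x => by show y * σ (f * x) = σ f * (y * σ x); rw [map_mul]; ring) Set.univ
    (fun _ _ _ _ => trivial) (fun _ _ _ => trivial) (fun _ _ => trivial)
    (fun x _ => by
      rw [hit, pow_orderOf_eq_one, RingAut.one_apply]
      show nrm σ y * x = x
      rw [hy, one_mul]) (e := (1 : K)) trivial one_ne_zero
  exact ⟨w, hw0, hw⟩

/-- The norm is onto the fixed elements. -/
theorem exists_nrm_eq (σ : RingAut K) {c : K} (hc : σ c = c) : ∃ δ : K, nrm σ δ = c := by
  classical
  by_cases hc0 : c = 0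
  · exact ⟨0, by rw [nrm_zero, hc0]⟩
  let N : Kˣ →* Kˣ :=
    { toFun := fun x => Units.mk0 (nrm σ x) (nrm_ne_zero σ x.ne_zero)
      map_one' := Units.ext (nrm_one σ)
      map_mul' := fun a b => Units.ext (nrm_mul σ a b) }
  let T : Kˣ →* Kˣ :=
    { toFun := fun w => w / Units.map (σ.toRingHom : K →* K) w
      map_one' := by simp
      map_mul' := fun a b => by rw [map_mul, mul_div_mul_comm] }
  let F₀ : Subgroup Kˣ :=
    { carrier := {w | σ (w : K) = w}
      one_mem' := map_one σ
      mul_mem' := fun {a b} (ha : σ (a : K) = a) (hb : σ (b : K) = b) => by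
        show σ ((a * b : Kˣ) : K) = (a * b : Kˣ)
        rw [Units.val_mul, map_mul, ha, hb]
      inv_mem' := fun {a} (ha : σ (a : K) = a) => by
        show σ ((a⁻¹ : Kˣ) : K) = (a⁻¹ : Kˣ)
        rw [Units.val_inv_eq_inv_val, map_inv₀, ha] }
  have hker : N.ker = T.range := by
    ext y
    rw [MonoidHom.mem_ker, MonoidHom.mem_range]
    constructor
    · intro hy
      obtain ⟨w, hw0, hw⟩ := exists_of_nrm_eq_one σ (congrArg Units.val hy : nrm σ (y : K) = 1)
      refine ⟨Units.mk0 w hw0, Units.ext ?_⟩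
      show ((Units.mk0 w hw0 / Units.map _ (Units.mk0 w hw0) : Kˣ) : K) = y
      rw [Units.val_div_eq_div_val]
      show w / σ w = y
      rw [div_eq_iff (by simpa using hw0), hw]
    · rintro ⟨w, rfl⟩
      refine Units.ext ?_
      show nrm σ ((w / Units.map _ w : Kˣ) : K) = 1
      rw [Units.val_div_eq_div_val, div_eq_mul_inv, nrm_mul]
      show nrm σ (w : K) * nrm σ (σ (w : K))⁻¹ = 1
      rw [nrm_inv σ (by simp), nrm_apply, mul_inv_cancel₀ (nrm_ne_zero σ w.ne_zero)]
  have hTker : T.ker = F₀ := by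
    ext w
    rw [MonoidHom.mem_ker]
    constructor
    · intro hw
      have : w = Units.map (σ.toRingHom : K →* K) w := div_eq_one.1 hw
      exact (congrArg Units.val this).symm
    · intro hw
      exact div_eq_one.2 (Units.ext (hw : σ (w : K) = w).symm)
  have h1 := Subgroup.card_mul_index N.ker
  have h2 := Subgroup.card_mul_index T.ker
  rw [Subgroup.index_ker, hker] at h1
  rw [Subgroup.index_ker, hTker] at h2
  have hle : N.range ≤ F₀ := by
    rintro _ ⟨w, rfl⟩; exact apply_nrm σ w
  have hpos : 0 < Nat.card T.range := Nat.card_pos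
  have heq : N.range = F₀ := Subgroup.eq_of_le_of_card_ge hle
    (le_of_eq (Nat.eq_of_mul_eq_mul_left hpos (by rw [h1, ← h2, mul_comm])))
  obtain ⟨δ, hδ⟩ : Units.mk0 c hc0 ∈ N.range := by
    rw [heq]; exact hc
  exact ⟨δ, congrArg Units.val hδ⟩

variable (K) in
theorem prod_X_sub_C_eq [Fintype K] :
    ∏ c : K, (X - C c) = (X ^ Fintype.card K - X : K[X]) := by
  have hm : (X ^ Fintype.card K - X : K[X]).Monic :=
    monic_X_pow_sub (by rw [degree_X]; exact_mod_cast Fintype.one_lt_card)
  have hd : (X ^ Fintype.card K - X : K[X]).natDegree = Fintype.card K :=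
    FiniteField.X_pow_card_sub_X_natDegree_eq K Fintype.one_lt_card
  have h := prod_multiset_X_sub_C_of_monic_of_roots_card_eq hm
    (by rw [FiniteField.roots_X_pow_card_sub_X, hd]; rfl)
  rw [FiniteField.roots_X_pow_card_sub_X] at h
  exact h

/-- Every element of a finite field is a sum of two squares. -/
theorem exists_sq_add_sq (f : K) : ∃ a b : K, a ^ 2 + b ^ 2 = f := by
  cases nonempty_fintype K
  by_cases h2 : ringChar K = 2
  · obtain ⟨a, ha⟩ := FiniteField.isSquare_of_char_two h2 f
    exact ⟨a, 0, by rw [ha]; ring⟩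
  · obtain ⟨a, b, hab⟩ := FiniteField.exists_root_sum_quadratic (R := K)
      (f := X ^ 2) (g := X ^ 2 - C f) (degree_X_pow 2) (degree_X_pow_sub_C (by decide) _)
      (FiniteField.odd_card_of_char_ne_two h2)
    refine ⟨a, b, ?_⟩
    simp only [eval_pow, eval_X, eval_sub, eval_C] at hab
    linear_combination hab

end Cfsg.Agent.CG26.OW
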