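import Cfsg.Agent.CG26.OW.Mult

/-!
# Ostrom-Wagner: a Jordan set of endomorphisms is a field
-/

set_option autoImplicit false
set_option linter.unusedSectionVars false

namespace Cfsg.Agent.CG26.OW

open Polynomial

variable {K : Type*} [Field K] [Finite K] {N : Type*} [AddCommGroup N] [Finite N] [Nontrivial N]
  {M : AddSubgroup (AddMonoid.End N)} {ι : K →+* AddMonoid.End N}

instance finite_addMonoidEnd {V : Type*} [AddCommGroup V] [Finite V] : Finite (AddMonoid.End V) :=
  Finite.of_injective (fun f => (f : V → V)) DFunLike.coe_injective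

theorem apply_coe_inj {a : K} (ha : a ≠ 0) {x : N} (h : ι a x = 0) : x = 0 := by
  have h1 : (ι a⁻¹ * ι a) x = 0 := by
    show ι a⁻¹ (ι a x) = 0
    rw [h, map_zero]
  rwa [← map_mul, inv_mul_cancel₀ ha, map_one] at h1

theorem end_one_ne_zero : (1 : AddMonoid.End N) ≠ 0 := by
  intro h
  obtain ⟨x, hx⟩ := exists_ne (0 : N)
  exact hx (DFunLike.congr_fun h x)

theorem isUnit_of_injective {a : AddMonoid.End N} (h : Function.Injective a) : IsUnit a := by
  let e := AddEquiv.ofBijective (a : N →+ N) (Finite.injective_iff_bijective.1 h)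
  refine ⟨⟨a, e.symm.toAddMonoidHom, ?_, ?_⟩, rfl⟩
  · exact AddMonoidHom.ext fun x => e.apply_symm_apply x
  · exact AddMonoidHom.ext fun x => e.symm_apply_apply x

variable (M) in
/-- `ι` is a maximal subfield inside `M`. -/
def IsMaxField (ι : K →+* AddMonoid.End N) : Prop :=
  (∀ f, ι f ∈ M) ∧ ∀ S : Subring (AddMonoid.End N), (∀ f, ι f ∈ S) → (∀ x ∈ S, x ∈ M) →
    ∀ x ∈ S, x ∈ Set.range ι

/-- The linear elements of the Jordan set are scalars. -/
theorem linear_scalar (hM : JordanSet M) (hι : IsMaxField M ι) {C : AddMonoid.End N} (hC : C ∈ M)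
    (hlin : IsComp ι 1 C) : ∃ f, ι f = C := by
  have hcm : ∀ f, C * ι f = ι f * C := fun f => by rw [hlin f, RingAut.one_apply]
  have hgen : ∀ (f : K) (j : ℕ), ι f * C ^ j ∈ M := by
    intro f j
    obtain ⟨a, b, hab⟩ := exists_sq_add_sq f
    have hsq : ∀ a : K, ι (a ^ 2) * C ^ j ∈ M := fun a => by
      have := hM.quad _ (hι.1 a) _ (hM.pow_mem hC j)
      rwa [mul_assoc, ((show Commute C (ι a) from hcm a).pow_left j).eq, ← mul_assoc, ← map_mul, ← sq] at this
    rw [← hab, map_add, add_mul]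
    exact M.add_mem (hsq a) (hsq b)
  let A : AddSubgroup (AddMonoid.End N) := AddSubgroup.closure {x | ∃ f j, x = ι f * C ^ j}
  let S : Subring (AddMonoid.End N) :=
    { A with
      one_mem' := AddSubgroup.subset_closure ⟨1, 0, by simp⟩
      mul_mem' := by
        intro x y hx hy
        induction hx using AddSubgroup.closure_induction with
        | mem x hx =>
          obtain ⟨f, i, rfl⟩ := hx
          induction hy using AddSubgroup.closure_induction with
          | mem y hy =>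
            obtain ⟨g, j, rfl⟩ := hy
            refine AddSubgroup.subset_closure ⟨f * g, i + j, ?_⟩
            rw [map_mul, pow_add, mul_assoc, ← mul_assoc (C ^ i),
              ((show Commute C (ι g) from hcm g).pow_left i).eq]
            simp only [mul_assoc]
          | zero => rw [mul_zero]; exact A.zero_mem
          | add a b _ _ ha hb => rw [mul_add]; exact A.add_mem ha hb
          | neg a _ ha => rw [mul_neg]; exact A.neg_mem ha
        | zero => rw [zero_mul]; exact A.zero_mem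
        | add a b _ _ ha hb => rw [add_mul]; exact A.add_mem ha hb
        | neg a _ ha => rw [neg_mul]; exact A.neg_mem ha }
  have hSM : ∀ x ∈ S, x ∈ M := fun x hx =>
    (AddSubgroup.closure_le M).2 (by rintro _ ⟨f, j, rfl⟩; exact hgen f j) hx
  exact hι.2 S (fun f => AddSubgroup.subset_closure ⟨f, 0, by simp⟩) hSM C
    (AddSubgroup.subset_closure ⟨1, 1, by simp⟩)

theorem component_one [Fintype (RingAut K)] (hM : JordanSet M) (hι : IsMaxField M ι)
    {c : RingAut K → AddMonoid.End N} (hc : ∀ σ, IsComp ι σ (c σ)) (hmem : ∑ σ, c σ ∈ M) :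
    ∃ f, ι f = c 1 :=
  linear_scalar hM hι ((hM.component_mem hι.1 hc hmem 1).1 inv_one) (hc 1)

/-- No nonzero element with a single or nilpotent pair of components. -/
theorem degenerate (hM : JordanSet M) (hι : IsMaxField M ι) {σ : RingAut K} (hσ : σ ≠ 1)
    {B₁ B₂ : AddMonoid.End N} (h₁ : IsComp ι σ B₁) (h₂ : IsComp ι σ⁻¹ B₂)
    (h12 : σ⁻¹ = σ → B₂ = 0) (hmem : B₁ + B₂ ∈ M) (hne : B₁ ≠ 0) (hv : B₂ * B₁ = 0)
    (hu : B₁ * B₂ = 0) : False := by
  classical
  cases nonempty_fintype (RingAut K)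
  let _ : Module K N := Module.compHom N ι
  set D := orderOf σ with hD
  have hDpos : 0 < D := (isOfFinOrder_of_finite σ).orderOf_pos
  have hB0 : B₁ + B₂ ≠ 0 := by
    intro h
    by_cases hs : σ⁻¹ = σ
    · rw [h12 hs, add_zero] at h; exact hne h
    · exact hne (comp_indep₂ (Ne.symm hs) h₁ h₂ h).1
  have hinj := hM.inj _ hmem hB0
  have hpowk : ∀ k : ℕ, (B₁ + B₂) ^ (k + 1) = B₁ ^ (k + 1) + B₂ ^ (k + 1) := by
    intro k
    induction k with
    | zero => simp
    | succ k IH =>
      rw [pow_succ, IH]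
      have e1 : B₁ ^ (k + 1) * B₂ = 0 := by rw [pow_succ, mul_assoc, hu, mul_zero]
      have e2 : B₂ ^ (k + 1) * B₁ = 0 := by rw [pow_succ, mul_assoc, hv, mul_zero]
      rw [add_mul, mul_add, mul_add, e1, e2, add_zero, zero_add, ← pow_succ, ← pow_succ]
  have hlin : IsComp ι 1 ((B₁ + B₂) ^ D) := by
    obtain ⟨k, hk⟩ := Nat.exists_eq_succ_of_ne_zero hDpos.ne'
    have e1 := h₁.pow D
    have e2 := h₂.pow D
    rw [inv_pow, hD, pow_orderOf_eq_one, inv_one, ← hD] at e2
    rw [hD, pow_orderOf_eq_one, ← hD] at e1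
    intro f
    rw [hk, hpowk, ← Nat.succ_eq_add_one, ← hk, add_mul, mul_add, e1 f, e2 f]
  obtain ⟨c, hc⟩ := linear_scalar hM hι (hM.pow_mem hmem D) hlin
  -- `σ c = c`
  have hσc : σ c = c := by
    have hcm : (B₁ + B₂) * ι c = ι c * (B₁ + B₂) := by rw [hc, ← pow_succ', ← pow_succ]
    rw [add_mul, h₁ c, h₂ c, mul_add] at hcm
    by_contra hne'
    have hzero : ι (σ c - c) * B₁ + ι (σ⁻¹ c - c) * B₂ = 0 := by
      rw [map_sub, map_sub, sub_mul, sub_mul]
      linear_combination (norm := abel) hcm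
    refine hne (coe_left_cancel (ι := ι) (sub_ne_zero.2 hne') ?_)
    by_cases hs : σ⁻¹ = σ
    · rwa [h12 hs, mul_zero, add_zero] at hzero
    · exact (comp_indep₂ (Ne.symm hs) (h₁.coe_mul _) (h₂.coe_mul _) hzero).1
  have hc0 : c ≠ 0 := by
    rintro rfl
    rw [map_zero] at hc
    obtain ⟨u, hu'⟩ := (isUnit_of_injective hinj).pow D
    rw [← hc] at hu'
    have := u.mul_inv
    rw [hu', zero_mul] at this
    exact end_one_ne_zero this.symm
  obtain ⟨δ, hδ⟩ := exists_nrm_eq σ hσc
  have hδ0 : δ ≠ 0 := by rintro rfl; rw [nrm_zero] at hδ; exact hc0 hδ.symm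
  -- a point of the kernel of `B₂`
  obtain ⟨y, hy⟩ : ∃ y, B₁ y ≠ 0 := by
    by_contra h
    push_neg at h
    exact hne (AddMonoidHom.ext h)
  have he : B₂ (B₁ y) = 0 := DFunLike.congr_fun hv y
  let u : AddMonoid.End N := ι δ⁻¹ * B₁
  have hper : ∀ x : N, B₂ x = 0 → (⇑u)^[D] x = x := by
    intro x hx
    rw [← AddMonoid.End.coe_pow]
    show ((ι δ⁻¹ * B₁) ^ D) x = x
    rw [coe_mul_pow h₁, ← nrm, nrm_inv σ hδ0, hδ]
    show ι c⁻¹ ((B₁ ^ D) x) = x
    obtain ⟨k, hk⟩ := Nat.exists_eq_succ_of_ne_zero hDpos.ne'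
    have hB : (B₁ ^ D) x = ι c x := by
      have h0 : (B₂ ^ D) x = 0 := by
        rw [hk, pow_succ]
        show (B₂ ^ k) (B₂ x) = 0
        rw [hx, map_zero]
      rw [hc, hk, hpowk]
      show _ = (B₁ ^ (k + 1)) x + (B₂ ^ (k + 1)) x
      rw [← Nat.succ_eq_add_one, ← hk, h0, add_zero]
    rw [hB]
    show (ι c⁻¹ * ι c) x = x
    rw [← map_mul, inv_mul_cancel₀ hc0, map_one]
    rfl
  obtain ⟨w, hw, hw0, hfix⟩ := exists_fixed (V := N) σ u
    (fun f x => by
      show ι δ⁻¹ (B₁ (ι f x)) = ι (σ f) (ι δ⁻¹ (B₁ x))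
      have : B₁ (ι f x) = ι (σ f) (B₁ x) := DFunLike.congr_fun (h₁ f) x
      rw [this]
      show (ι δ⁻¹ * ι (σ f)) (B₁ x) = (ι (σ f) * ι δ⁻¹) (B₁ x)
      rw [← map_mul, ← map_mul, mul_comm])
    {x | B₂ x = 0} (fun x hx y hy => by show B₂ (x + y) = 0; rw [map_add, hx, hy, add_zero])
    (fun f x hx => by
      show B₂ (ι f x) = 0
      have : B₂ (ι f x) = ι (σ⁻¹ f) (B₂ x) := DFunLike.congr_fun (h₂ f) x
      rw [this, show B₂ x = 0 from hx, map_zero])
    (fun x hx => by
      show B₂ (ι δ⁻¹ (B₁ x)) = 0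
      have : B₂ (ι δ⁻¹ (B₁ x)) = ι (σ⁻¹ δ⁻¹) (B₂ (B₁ x)) := DFunLike.congr_fun (h₂ δ⁻¹) (B₁ x)
      rw [this, show B₂ (B₁ x) = 0 from DFunLike.congr_fun hv x, map_zero])
    hper he hy
  have h1w : B₁ w = ι δ w := by
    conv_rhs => rw [← hfix]
    show B₁ w = (ι δ * ι δ⁻¹) (B₁ w)
    rw [← map_mul, mul_inv_cancel₀ hδ0, map_one]
    rfl
  have hz : (B₁ + B₂ - ι δ) w = 0 := by
    show B₁ w + B₂ w - ι δ w = 0
    rw [h1w, show B₂ w = 0 from hw, add_zero, sub_self]
  have hzero : B₁ + B₂ - ι δ = 0 := by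
    by_contra h
    exact hw0 (hM.inj _ (M.sub_mem hmem (hι.1 δ)) h (hz.trans (map_zero (B₁ + B₂ - ι δ)).symm))
  rw [sub_eq_zero] at hzero
  by_cases hs : σ⁻¹ = σ
  · rw [h12 hs, add_zero] at hzero
    exact hne (comp_indep₂ hσ h₁ (isComp_coe (-δ)) (by rw [hzero, map_neg, add_neg_cancel])).1
  · let c' : RingAut K → AddMonoid.End N :=
      fun τ => if τ = σ then B₁ else if τ = σ⁻¹ then B₂ else if τ = 1 then -ι δ else 0
    have hσi : (σ⁻¹ : RingAut K) ≠ 1 := fun h => hσ (inv_eq_one.1 h)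
    have hc' : ∀ τ, IsComp ι τ (c' τ) := by
      intro τ
      simp only [c']
      split_ifs with a b e
      · subst a; exact h₁
      · subst b; exact h₂
      · subst e; rw [← map_neg]; exact isComp_coe _
      · exact isComp_zero τ
    have hsum : ∑ τ, c' τ = B₁ + B₂ - ι δ := by
      rw [show c' = fun τ => (if τ = σ then B₁ else 0) + (if τ = σ⁻¹ then B₂ else 0) +
          (if τ = 1 then -ι δ else 0) from funext fun τ => by
            by_cases a : τ = σ
            · subst a; simp [c', Ne.symm hs, hσ]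
            · by_cases b : τ = σ⁻¹
              · subst b; simp [c', a, hσi]
              · by_cases e : τ = 1
                · subst e; simp [c', Ne.symm hσ, Ne.symm hσi]
                · simp [c', a, b, e]]
      simp [Finset.sum_add_distrib, sub_eq_add_neg]
    exact hne (by simpa [c'] using comp_indep hc' (hsum.trans (sub_eq_zero.2 hzero)) σ)

theorem nrm_inv_aut (σ : RingAut K) (y : K) : nrm σ⁻¹ y = nrm σ y := by
  conv_rhs => rw [← nrm_apply]
  rw [nrm, nrm, orderOf_inv]
  rw [← Finset.prod_range_reflect (fun i => (σ⁻¹ ^ i) y)]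
  refine Finset.prod_congr rfl fun i hi => ?_
  have hi' : i < orderOf σ := Finset.mem_range.1 hi
  show (σ⁻¹ ^ (orderOf σ - 1 - i)) y = (σ ^ i * σ) y
  congr 2
  rw [← pow_succ, inv_pow, inv_eq_iff_mul_eq_one, ← pow_add,
    show orderOf σ - 1 - i + (i + 1) = orderOf σ by omega, pow_orderOf_eq_one]

theorem nrm_pow (σ : RingAut K) (y : K) : ∀ k : ℕ, nrm σ (y ^ k) = nrm σ y ^ k
  | 0 => by rw [pow_zero, pow_zero, nrm_one]
  | k + 1 => by rw [pow_succ, pow_succ, nrm_mul, nrm_pow σ y k]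

theorem prod_range_two_mul {R : Type*} [CommMonoid R] (f : ℕ → R) :
    ∀ m : ℕ, ∏ i ∈ Finset.range (2 * m), f i = ∏ i ∈ Finset.range m, f (2 * i) * f (2 * i + 1)
  | 0 => by simp
  | m + 1 => by
    rw [show 2 * (m + 1) = 2 * m + 1 + 1 from rfl, Finset.prod_range_succ, Finset.prod_range_succ,
      prod_range_two_mul f m, Finset.prod_range_succ, mul_assoc]

/-- No element with two nondegenerate components. -/
theorem nondegenerate (hM : JordanSet M) (hι : IsMaxField M ι) {σ : RingAut K} (hσ2 : σ * σ ≠ 1)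
    {B₁ B₂ : AddMonoid.End N} (h₁ : IsComp ι σ B₁) (h₂ : IsComp ι σ⁻¹ B₂)
    (hmem : B₁ + B₂ ∈ M) {v : K} (hv0 : v ≠ 0) (hv : B₂ * B₁ = ι v)
    (hu : ∃ u, ι u = B₁ * B₂) : False := by
  classical
  cases nonempty_fintype (RingAut K)
  let _ : Module K N := Module.compHom N ι
  have hσ1 : σ ≠ 1 := by rintro rfl; exact hσ2 (one_mul 1)
  have hσi : σ⁻¹ ≠ σ := fun h => hσ2 (by nth_rw 1 [← h]; rw [inv_mul_cancel])
  have hB1inj : Function.Injective B₁ := by
    intro x y hxy
    have : ι v x = ι v y := by rw [← hv]; exact congrArg B₂ hxy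
    exact sub_eq_zero.1 (apply_coe_inj (ι := ι) hv0 (by rw [map_sub, this, sub_self]))
  obtain ⟨Q, hQ⟩ := isUnit_of_injective hB1inj
  have hQc : IsComp ι σ (Q : AddMonoid.End N) := hQ ▸ h₁
  have hB₂ : B₂ = ι v * ((Q⁻¹ : (AddMonoid.End N)ˣ) : AddMonoid.End N) := by
    rw [← hv, ← hQ, mul_assoc, Units.mul_inv, mul_one]
  set D := orderOf σ with hD
  have hDpos : 0 < D := (isOfFinOrder_of_finite σ).orderOf_pos
  -- the multiplier elements
  have hXmem : ∀ g η : K, ι g + ι η * B₁ + ι (σ⁻¹ η) * B₂ ∈ M := by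
    intro g η
    obtain ⟨h, hh, hhσ⟩ := exists_value hσ2 η
    let c : RingAut K → AddMonoid.End N :=
      fun τ => if τ = σ then B₁ else if τ = σ⁻¹ then B₂ else 0
    have hc : ∀ τ, IsComp ι τ (c τ) := by
      intro τ
      simp only [c]
      split_ifs with a b
      · subst a; exact h₁
      · subst b; exact h₂
      · exact isComp_zero τ
    have e : ∀ k : RingAut K → K, ∑ τ, ι (k τ) * c τ = ι (k σ) * B₁ + ι (k σ⁻¹) * B₂ := by
      intro k
      rw [Finset.sum_eq_add σ σ⁻¹ (Ne.symm hσi)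
        (fun τ _ hτ => by simp [c, hτ.1, hτ.2]) (fun hn => absurd (Finset.mem_univ σ) hn)
        (fun hn => absurd (Finset.mem_univ _) hn)]
      simp [c, hσi]
    have hsum : ∑ τ, c τ = B₁ + B₂ := by
      have := e fun _ => 1
      simpa using this
    have hm := hM.mult_mem hι.1 hh hc (hsum ▸ hmem)
    rw [e h, symRing_apply_inv hh, hhσ] at hm
    rw [add_assoc]
    exact M.add_mem (hι.1 g) hm
  have hXker : ∀ g η : K, η ≠ 0 → ∀ x : N, x ≠ 0 →
      (ι g + ι η * B₁ + ι (σ⁻¹ η) * B₂) x = 0 → False := by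
    intro g η hη x hx hxz
    have hz : ι g + ι η * B₁ + ι (σ⁻¹ η) * B₂ = 0 := by
      by_contra h
      exact hx (hM.inj _ (hXmem g η) h (hxz.trans (map_zero _).symm))
    let c : RingAut K → AddMonoid.End N := fun τ =>
      if τ = σ then ι η * B₁ else if τ = σ⁻¹ then ι (σ⁻¹ η) * B₂ else if τ = 1 then ι g else 0
    have hc : ∀ τ, IsComp ι τ (c τ) := by
      intro τ
      simp only [c]
      split_ifs with a b e
      · subst a; exact h₁.coe_mul _
      · subst b; exact h₂.coe_mul _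
      · subst e; exact isComp_coe _
      · exact isComp_zero τ
    have hi1 : (σ⁻¹ : RingAut K) ≠ 1 := fun h => hσ1 (inv_eq_one.1 h)
    have hsum : ∑ τ, c τ = 0 := by
      rw [← hz, show c = fun τ => (if τ = 1 then ι g else 0) + (if τ = σ then ι η * B₁ else 0) +
          (if τ = σ⁻¹ then ι (σ⁻¹ η) * B₂ else 0) from funext fun τ => by
            by_cases a : τ = σ
            · subst a; simp [c, Ne.symm hσi, hσ1]
            · by_cases b : τ = σ⁻¹
              · subst b; simp [c, a, hi1]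
              · by_cases e : τ = 1
                · subst e; simp [c, Ne.symm hσ1, Ne.symm hi1]
                · simp [c, a, b, e]]
      simp [Finset.sum_add_distrib]
    have h0 := comp_indep hc hsum σ
    simp only [c, if_true] at h0
    have hB10 : B₁ = 0 := coe_left_cancel hη h0
    rw [hB10, mul_zero] at hv
    obtain ⟨x, hx⟩ := exists_ne (0 : N)
    exact hx (apply_coe_inj (ι := ι) hv0 (DFunLike.congr_fun hv.symm x))
  -- the quadratic relation for `γ = Q ^ D`
  set γ : AddMonoid.End N := ((Q ^ (D : ℤ) : (AddMonoid.End N)ˣ) : AddMonoid.End N) with hγ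
  set γi : AddMonoid.End N := ((Q ^ (-(D : ℤ)) : (AddMonoid.End N)ˣ) : AddMonoid.End N) with hγi
  set n₀ := nrm σ v with hn₀
  have hn0 : n₀ ≠ 0 := nrm_ne_zero σ hv0
  obtain ⟨s, hs⟩ : ∃ s : K, γ + ι n₀ * γi = ι s := by
    let S : ℕ → AddSubgroup (AddMonoid.End N) := fun j => AddSubgroup.closure
      {x | ∃ (a : K) (i : ℤ), -(j : ℤ) < i ∧ i < (j : ℤ) ∧
        x = ι a * ((Q ^ i : (AddMonoid.End N)ˣ) : AddMonoid.End N)}
    have hw : ∀ j : ℕ, B₂ ^ j = ι (∏ i ∈ Finset.range j, (σ⁻¹ ^ i) v) *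
        ((Q ^ (-(j : ℤ)) : (AddMonoid.End N)ˣ) : AddMonoid.End N) := by
      intro j
      rw [hB₂, coe_mul_pow hQc.unit_inv, ← Units.val_pow_eq_pow_val, inv_pow, zpow_neg, zpow_natCast]
    have hstep : ∀ (j : ℕ) (a : K) (i : ℤ),
        B₁ * (ι a * ((Q ^ i : (AddMonoid.End N)ˣ) : AddMonoid.End N)) =
          ι (σ a) * ((Q ^ (i + 1) : (AddMonoid.End N)ˣ) : AddMonoid.End N) ∧
        B₂ * (ι a * ((Q ^ i : (AddMonoid.End N)ˣ) : AddMonoid.End N)) =
          ι (v * σ⁻¹ a) * ((Q ^ (i - 1) : (AddMonoid.End N)ˣ) : AddMonoid.End N) := by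
      intro j a i
      constructor
      · rw [← mul_assoc, h₁ a, mul_assoc, ← hQ, ← Units.val_mul, ← zpow_one_add, add_comm]
      · rw [hB₂, mul_assoc, ← mul_assoc (((Q⁻¹ : (AddMonoid.End N)ˣ)) : AddMonoid.End N),
          hQc.unit_inv a, mul_assoc, ← Units.val_mul, ← mul_assoc, ← map_mul,
          show Q⁻¹ * Q ^ i = Q ^ (i - 1) by group]
    have hexp : ∀ j : ℕ, (B₁ + B₂) ^ (j + 1) - (B₁ ^ (j + 1) + B₂ ^ (j + 1)) ∈ S (j + 1) := by
      intro j
      induction j with
      | zero => simp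
      | succ j IH =>
        set T := (B₁ + B₂) ^ (j + 1) - (B₁ ^ (j + 1) + B₂ ^ (j + 1)) with hT
        have e : (B₁ + B₂) ^ (j + 1 + 1) - (B₁ ^ (j + 1 + 1) + B₂ ^ (j + 1 + 1)) =
            B₁ * B₂ ^ (j + 1) + B₂ * B₁ ^ (j + 1) + (B₁ + B₂) * T := by
          rw [hT, pow_succ' (B₁ + B₂) (j + 1), pow_succ' B₁ (j + 1), pow_succ' B₂ (j + 1)]
          simp only [add_mul, mul_add, mul_sub]
          abel
        rw [e]
        refine (S _).add_mem ((S _).add_mem ?_ ?_) ?_
        · rw [hw, (hstep j _ _).1]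
          exact AddSubgroup.subset_closure ⟨_, _, by push_cast; omega, by push_cast; omega, rfl⟩
        · rw [show B₁ ^ (j + 1) = ι 1 * ((Q ^ ((j + 1 : ℕ) : ℤ) : (AddMonoid.End N)ˣ) : AddMonoid.End N) by
            rw [map_one, one_mul, zpow_natCast, Units.val_pow_eq_pow_val, hQ], (hstep j _ _).2]
          exact AddSubgroup.subset_closure ⟨_, _, by push_cast; omega, by push_cast; omega, rfl⟩
        · clear_value T
          clear hT e
          induction IH using AddSubgroup.closure_induction with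
          | mem x hx =>
            obtain ⟨a, i, hi1, hi2, rfl⟩ := hx
            rw [add_mul, (hstep j a i).1, (hstep j a i).2]
            exact (S _).add_mem
              (AddSubgroup.subset_closure ⟨_, _, by push_cast at hi1 ⊢; omega, by push_cast at hi2 ⊢; omega, rfl⟩)
              (AddSubgroup.subset_closure ⟨_, _, by push_cast at hi1 ⊢; omega, by push_cast at hi2 ⊢; omega, rfl⟩)
          | zero => rw [mul_zero]; exact (S _).zero_mem
          | add a b _ _ ha hb => rw [mul_add]; exact (S _).add_mem ha hb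
          | neg a _ ha => rw [mul_neg]; exact (S _).neg_mem ha
    have hcompS : ∀ x ∈ S D, ∃ c : RingAut K → AddMonoid.End N,
        (∀ τ, IsComp ι τ (c τ)) ∧ ∑ τ, c τ = x ∧ ∃ f, ι f = c 1 := by
      intro x hx
      induction hx using AddSubgroup.closure_induction with
      | mem x hx =>
        obtain ⟨a, i, hi1, hi2, rfl⟩ := hx
        refine ⟨fun τ => if τ = σ ^ i then ι a * ((Q ^ i : (AddMonoid.End N)ˣ) : AddMonoid.End N) else 0,
          fun τ => ?_, by simp, ?_⟩
        · show IsComp ι τ (if τ = σ ^ i then _ else 0)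
          split_ifs with h
          · subst h; exact (hQc.unit_zpow i).coe_mul a
          · exact isComp_zero τ
        · by_cases h : (1 : RingAut K) = σ ^ i
          · have hd : (D : ℤ) ∣ i := by rw [hD]; exact orderOf_dvd_iff_zpow_eq_one.2 h.symm
            have hi0 : i = 0 := Int.eq_zero_of_abs_lt_dvd hd (abs_lt.2 ⟨hi1, hi2⟩)
            subst hi0
            exact ⟨a, by simp⟩
          · exact ⟨0, by simp [h]⟩
      | zero => exact ⟨0, fun τ => isComp_zero τ, by simp, 0, by simp⟩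
      | add x y _ _ hx hy =>
        obtain ⟨c, hc, hcs, f, hf⟩ := hx
        obtain ⟨d, hd, hds, g, hg⟩ := hy
        refine ⟨c + d, fun τ k => ?_, by simp [Finset.sum_add_distrib, hcs, hds], f + g, by simp [hf, hg]⟩
        rw [Pi.add_apply, add_mul, mul_add, hc τ k, hd τ k]
      | neg x _ hx =>
        obtain ⟨c, hc, hcs, f, hf⟩ := hx
        refine ⟨-c, fun τ k => ?_, by simp [hcs], -f, by simp [hf]⟩
        rw [Pi.neg_apply, neg_mul, mul_neg, hc τ k]
    obtain ⟨k, hk⟩ := Nat.exists_eq_succ_of_ne_zero hDpos.ne'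
    have hmemS : (B₁ + B₂) ^ D - (B₁ ^ D + B₂ ^ D) ∈ S D := by rw [hk]; exact hexp k
    obtain ⟨c, hc, hcs, f, hf⟩ := hcompS _ hmemS
    have eγ : B₁ ^ D = γ := by rw [hγ, zpow_natCast, Units.val_pow_eq_pow_val, hQ]
    have eγi : B₂ ^ D = ι n₀ * γi := by
      rw [hw, hn₀, ← nrm_inv_aut, nrm, orderOf_inv, ← hD, hγi]
    have hγc : IsComp ι 1 γ := by
      have := hQc.unit_zpow (D : ℤ)
      rwa [zpow_natCast σ, hD, pow_orderOf_eq_one, ← hD, ← hγ] at this
    have hγic : IsComp ι 1 γi := by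
      have := hQc.unit_zpow (-(D : ℤ))
      rwa [zpow_neg σ, zpow_natCast σ, hD, pow_orderOf_eq_one, inv_one, ← hD, ← hγi] at this
    let c' : RingAut K → AddMonoid.End N := fun τ => c τ + if τ = 1 then γ + ι n₀ * γi else 0
    have hc' : ∀ τ, IsComp ι τ (c' τ) := by
      intro τ k
      show (c τ + if τ = 1 then _ else 0) * ι k = _ * (c τ + if τ = 1 then _ else 0)
      rw [add_mul, mul_add, hc τ k]
      congr 1
      split_ifs with h
      · subst h; rw [add_mul, mul_add, hγc k, (hγic.coe_mul n₀) k]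
      · simp
    have hsum : ∑ τ, c' τ = (B₁ + B₂) ^ D := by
      simp only [c', Finset.sum_add_distrib, Finset.sum_ite_eq', Finset.mem_univ, if_true]
      rw [hcs, ← eγ, ← eγi]
      abel
    obtain ⟨g, hg⟩ := component_one hM hι hc' (hsum ▸ hM.pow_mem hmem D)
    refine ⟨g - f, ?_⟩
    rw [map_sub, hg, hf]
    simp [c']
  have hQγ : (Q : AddMonoid.End N) * γ = γ * Q := by
    rw [hγ, ← Units.val_mul, ← Units.val_mul, ← zpow_one_add, ← zpow_add_one, add_comm]
  have hQγi : (Q : AddMonoid.End N) * γi = γi * Q := by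
    rw [hγi, ← Units.val_mul, ← Units.val_mul, ← zpow_one_add, ← zpow_add_one, add_comm]
  have hσn : σ n₀ = n₀ := apply_nrm σ v
  have hσs : σ s = s := by
    have h1 : (Q : AddMonoid.End N) * ι s = ι s * Q := by
      rw [← hs, mul_add, add_mul, hQγ, ← mul_assoc, hQc, hσn, mul_assoc, hQγi, ← mul_assoc]
    rw [hQc] at h1
    by_contra hne
    have h2 := coe_left_cancel (sub_ne_zero.2 hne) (B := (Q : AddMonoid.End N))
      (by rw [map_sub, sub_mul, h1, sub_self])
    have := Q.inv_mul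
    rw [h2, mul_zero] at this
    exact end_one_ne_zero this.symm
  have hγcm : ∀ f, γ * ι f = ι f * γ := by
    intro f
    have := hQc.unit_zpow (D : ℤ) f
    rwa [zpow_natCast σ, hD, pow_orderOf_eq_one, RingAut.one_apply, ← hD, ← hγ] at this
  have hquad : γ * γ = ι s * γ - ι n₀ := by
    have h1 : (γ + ι n₀ * γi) * γ = ι s * γ := by rw [hs]
    have h2 : γi * γ = 1 := by
      rw [hγi, hγ, ← Units.val_mul, ← zpow_add, neg_add_cancel, zpow_zero, Units.val_one]
    rw [add_mul, mul_assoc, h2, mul_one] at h1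
    exact eq_sub_of_add_eq h1
  have hγpow : γ = (Q : AddMonoid.End N) ^ D := by rw [hγ, zpow_natCast, Units.val_pow_eq_pow_val]
  have hQinv : ∀ x : N, ((Q⁻¹ : (AddMonoid.End N)ˣ) : AddMonoid.End N) (Q.val x) = x := fun x =>
    DFunLike.congr_fun Q.inv_mul x
  have hQQ : ∀ (f : K) (x : N), (Q : AddMonoid.End N) (ι f x) = ι (σ f) (Q.val x) := fun f x =>
    DFunLike.congr_fun (hQc f) x
  have hQ0 : ∀ x : N, x ≠ 0 → (Q : AddMonoid.End N) x ≠ 0 := fun x hx h => hx (by
    have := hQinv x; rwa [h, map_zero, eq_comm] at this)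
  -- a linear relation `Q (Q x) = A (Q x) + b x` of the right norm is impossible
  have sing : ∀ (x : N), x ≠ 0 → ∀ A b : K, Q.val (Q.val x) = ι A (Q.val x) + ι b x →
      nrm σ (-b) = n₀ → False := by
    intro x hx A b hrel hb
    obtain ⟨w, hw0, hw⟩ := exists_of_nrm_eq_one σ (y := -b / v) (by
      rw [div_eq_mul_inv, nrm_mul, nrm_inv σ hv0, hb, mul_inv_cancel₀ hn0])
    refine hXker (-(σ w * A)) (σ w) (by simpa using hw0) (Q.val x) (hQ0 x hx) ?_
    rw [RingAut.inv_apply, RingEquiv.symm_apply_apply, ← hQ, hB₂]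
    show ι (-(σ w * A)) (Q.val x) + ι (σ w) (Q.val (Q.val x)) +
      ι w (ι v (((Q⁻¹ : (AddMonoid.End N)ˣ) : AddMonoid.End N) (Q.val x))) = 0
    rw [hQinv, hrel, map_add, map_neg]
    show -(ι (σ w * A) (Q.val x)) + ((ι (σ w) * ι A) (Q.val x) + (ι (σ w) * ι b) x) + (ι w * ι v) x = 0
    rw [← map_mul, ← map_mul, ← map_mul]
    have e : σ w * b = -(w * v) := by
      rw [div_mul_eq_mul_div, div_eq_iff hv0] at hw
      linear_combination -hw
    rw [e, map_neg]
    show -(ι (σ w * A) (Q.val x)) + (ι (σ w * A) (Q.val x) + -(ι (w * v) x)) + ι (w * v) x = 0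
    abel
  by_cases hroot : ∃ r : K, r * r = s * r - n₀
  · obtain ⟨r, hr⟩ := hroot
    have hfac : (γ - ι r) * (γ - ι (s - r)) = 0 := by
      rw [sub_mul, mul_sub, mul_sub, hquad, hγcm, ← map_mul,
        show r * (s - r) = n₀ by linear_combination -hr, map_sub, sub_mul]
      abel
    obtain ⟨γ₀, e, he0, he, hγ₀⟩ : ∃ (γ₀ : K) (e : N), e ≠ 0 ∧ γ e = ι γ₀ e ∧ γ₀ * γ₀ = s * γ₀ - n₀ := by
      obtain ⟨x, hx⟩ := exists_ne (0 : N)
      by_cases hy : (γ - ι (s - r)) x = 0
      · refine ⟨s - r, x, hx, sub_eq_zero.1 hy, ?_⟩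
        linear_combination hr
      · exact ⟨r, _, hy, sub_eq_zero.1 (DFunLike.congr_fun hfac x), hr⟩
    have hγ00 : γ₀ ≠ 0 := by
      rintro rfl
      simp at hγ₀
      exact hn0 hγ₀
    by_cases hfix : σ γ₀ = γ₀
    · -- an eigenvalue fixed by `σ`
      obtain ⟨δ, hδ⟩ := exists_nrm_eq σ hfix
      have hδ0 : δ ≠ 0 := by rintro rfl; rw [nrm_zero] at hδ; exact hγ00 hδ.symm
      obtain ⟨w, hwE, hw0, hw⟩ := exists_fixed (V := N) σ (ι δ⁻¹ * Q.val)
        (fun f x => by
          show ι δ⁻¹ (Q.val (ι f x)) = ι (σ f) (ι δ⁻¹ (Q.val x))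
          rw [hQQ]
          show (ι δ⁻¹ * ι (σ f)) (Q.val x) = (ι (σ f) * ι δ⁻¹) (Q.val x)
          rw [← map_mul, ← map_mul, mul_comm])
        {x | γ x = ι γ₀ x}
        (fun x hx y hy => by show γ (x + y) = _; rw [map_add, map_add, hx, hy])
        (fun f x hx => by
          show γ (ι f x) = ι γ₀ (ι f x)
          rw [show γ (ι f x) = ι f (γ x) from DFunLike.congr_fun (hγcm f) x, show γ x = _ from hx]
          show (ι f * ι γ₀) x = (ι γ₀ * ι f) x
          rw [← map_mul, ← map_mul, mul_comm])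
        (fun x hx => by
          show γ (ι δ⁻¹ (Q.val x)) = ι γ₀ (ι δ⁻¹ (Q.val x))
          rw [show γ (ι δ⁻¹ (Q.val x)) = ι δ⁻¹ (γ (Q.val x)) from DFunLike.congr_fun (hγcm _) _,
            show γ (Q.val x) = Q.val (γ x) from (DFunLike.congr_fun hQγ x).symm,
            show γ x = _ from hx, hQQ, hfix]
          show (ι δ⁻¹ * ι γ₀) (Q.val x) = (ι γ₀ * ι δ⁻¹) (Q.val x)
          rw [← map_mul, ← map_mul, mul_comm])
        (fun x hx => by
          refine (congrFun (AddMonoid.End.coe_pow _ _ _).symm x).trans ?_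
          rw [← hD, coe_mul_pow hQc, hD, ← nrm, nrm_inv σ hδ0, hδ, ← hD, ← hγpow]
          show ι γ₀⁻¹ (γ x) = x
          rw [show γ x = _ from hx]
          show (ι γ₀⁻¹ * ι γ₀) x = x
          rw [← map_mul, inv_mul_cancel₀ hγ00, map_one]
          rfl) he he0
      have hQw : Q.val w = ι δ w := by
        conv_rhs => rw [← hw]
        show Q.val w = (ι δ * ι δ⁻¹) (Q.val w)
        rw [← map_mul, mul_inv_cancel₀ hδ0, map_one]
        rfl
      have hsδ : σ⁻¹ δ ≠ 0 := by simpa using hδ0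
      have hQiw : ((Q⁻¹ : (AddMonoid.End N)ˣ) : AddMonoid.End N) w = ι (σ⁻¹ δ)⁻¹ w := by
        have h1 : Q.val (ι (σ⁻¹ δ)⁻¹ w) = w := by
          rw [hQQ, hQw, map_inv₀, RingAut.inv_apply, RingEquiv.apply_symm_apply]
          show (ι δ⁻¹ * ι δ) w = w
          rw [← map_mul, inv_mul_cancel₀ hδ0, map_one]
          rfl
        conv_lhs => rw [← h1]
        exact hQinv _
      refine hXker (-(δ + v * (σ⁻¹ δ)⁻¹)) 1 one_ne_zero w hw0 ?_
      rw [map_one, map_one, map_one, one_mul, one_mul, ← hQ, hB₂]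
      show ι (-(δ + v * (σ⁻¹ δ)⁻¹)) w + Q.val w + ι v (((Q⁻¹ : (AddMonoid.End N)ˣ) : AddMonoid.End N) w) = 0
      rw [hQiw, hQw, map_neg, map_add, map_mul]
      show -(ι δ w + ι v (ι (σ⁻¹ δ)⁻¹ w)) + ι δ w + ι v (ι (σ⁻¹ δ)⁻¹ w) = 0
      abel
    · -- an eigenvalue moved by `σ`
      have hr2 : σ γ₀ * σ γ₀ = s * σ γ₀ - n₀ := by
        rw [← map_mul, hγ₀, map_sub, map_mul, hσs, hσn]
      have hσγ : σ γ₀ = s - γ₀ := by
        have : (σ γ₀ - γ₀) * (σ γ₀ - (s - γ₀)) = 0 := by linear_combination hr2 - hγ₀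
        exact sub_eq_zero.1 ((mul_eq_zero.1 this).resolve_left (sub_ne_zero.2 hfix))
      have hσσ : σ (σ γ₀) = γ₀ := by rw [hσγ, map_sub, hσs, hσγ]; ring
      obtain ⟨m, hm⟩ : Even D := by
        by_contra hodd
        rw [Nat.not_even_iff_odd] at hodd
        obtain ⟨j, hj⟩ := hodd
        apply hfix
        have hsq : ∀ i : ℕ, ((σ ^ 2) ^ i) γ₀ = γ₀ := by
          intro i
          induction i with
          | zero => rfl
          | succ i IH =>
            rw [pow_succ', RingAut.mul_apply, IH]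
            exact hσσ
        have h2 := hsq (j + 1)
        rw [← pow_mul, show 2 * (j + 1) = D + 1 by omega, pow_succ, hD, pow_orderOf_eq_one,
          one_mul] at h2
        exact h2
      set τ := σ ^ 2 with hτ
      have hτD : orderOf τ = m := by
        rw [hτ, orderOf_pow, ← hD, hm]
        rw [Nat.gcd_eq_right (by omega : 2 ∣ m + m)]
        omega
      have hτγ : τ γ₀ = γ₀ := hσσ
      obtain ⟨b, hb⟩ := exists_nrm_eq τ hτγ
      have hb0 : b ≠ 0 := by rintro rfl; rw [nrm_zero] at hb; exact hγ00 hb.symm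
      have hQQc : IsComp ι τ (Q.val ^ 2) := hQc.pow 2
      obtain ⟨w, hwE, hw0, hw⟩ := exists_fixed (V := N) τ (ι b⁻¹ * Q.val ^ 2)
        (fun f x => by
          show ι b⁻¹ ((Q.val ^ 2) (ι f x)) = ι (τ f) (ι b⁻¹ ((Q.val ^ 2) x))
          rw [show (Q.val ^ 2) (ι f x) = ι (τ f) ((Q.val ^ 2) x) from DFunLike.congr_fun (hQQc f) x]
          show (ι b⁻¹ * ι (τ f)) ((Q.val ^ 2) x) = (ι (τ f) * ι b⁻¹) ((Q.val ^ 2) x)
          rw [← map_mul, ← map_mul, mul_comm])
        {x | γ x = ι γ₀ x}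
        (fun x hx y hy => by show γ (x + y) = _; rw [map_add, map_add, hx, hy])
        (fun f x hx => by
          show γ (ι f x) = ι γ₀ (ι f x)
          rw [show γ (ι f x) = ι f (γ x) from DFunLike.congr_fun (hγcm f) x, show γ x = _ from hx]
          show (ι f * ι γ₀) x = (ι γ₀ * ι f) x
          rw [← map_mul, ← map_mul, mul_comm])
        (fun x hx => by
          show γ (ι b⁻¹ ((Q.val ^ 2) x)) = ι γ₀ (ι b⁻¹ ((Q.val ^ 2) x))
          have hc2 : Commute γ (Q.val ^ 2) := (show Commute γ Q.val from hQγ.symm).pow_right 2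
          rw [show γ (ι b⁻¹ ((Q.val ^ 2) x)) = ι b⁻¹ (γ ((Q.val ^ 2) x)) from DFunLike.congr_fun (hγcm _) _,
            show γ ((Q.val ^ 2) x) = (Q.val ^ 2) (γ x) from DFunLike.congr_fun hc2.eq x,
            show γ x = _ from hx,
            show (Q.val ^ 2) (ι γ₀ x) = ι (τ γ₀) ((Q.val ^ 2) x) from DFunLike.congr_fun (hQQc γ₀) x, hτγ]
          show (ι b⁻¹ * ι γ₀) _ = (ι γ₀ * ι b⁻¹) _
          rw [← map_mul, ← map_mul, mul_comm])
        (fun x hx => by
          refine (congrFun (AddMonoid.End.coe_pow _ _ _).symm x).trans ?_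
          rw [coe_mul_pow hQQc, ← nrm, nrm_inv τ hb0, hb, hτD, ← pow_mul,
            show 2 * m = D by omega, ← hγpow]
          show ι γ₀⁻¹ (γ x) = x
          rw [show γ x = _ from hx]
          show (ι γ₀⁻¹ * ι γ₀) x = x
          rw [← map_mul, inv_mul_cancel₀ hγ00, map_one]
          rfl) he he0
      refine sing w hw0 0 b ?_ ?_
      · have h1 : (Q.val ^ 2) w = ι b w := by
          conv_rhs => rw [← hw]
          show (Q.val ^ 2) w = (ι b * ι b⁻¹) ((Q.val ^ 2) w)
          rw [← map_mul, mul_inv_cancel₀ hb0, map_one]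
          rfl
        rw [map_zero]
        show _ = (0 : N) + ι b w
        rw [zero_add, ← h1, sq]
        rfl
      · have hsplit : nrm σ (-b) = nrm τ b * σ (nrm τ b) := by
          rw [nrm, ← hD, hm, ← two_mul, prod_range_two_mul]
          have : ∀ i, (σ ^ (2 * i)) (-b) * (σ ^ (2 * i + 1)) (-b) = (τ ^ i) b * σ ((τ ^ i) b) := by
            intro i
            rw [pow_succ', RingAut.mul_apply, pow_mul, ← hτ, map_neg, map_neg, neg_mul_neg]
          simp only [this]
          rw [Finset.prod_mul_distrib, ← map_prod, nrm, hτD]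
        rw [hsplit, hb, hσγ]
        linear_combination -hγ₀
  · -- no eigenvalue in `K`
    push_neg at hroot
    let L : Subring (AddMonoid.End N) :=
      { carrier := {z | ∃ a b : K, z = ι a + ι b * γ}
        one_mem' := ⟨1, 0, by simp⟩
        zero_mem' := ⟨0, 0, by simp⟩
        add_mem' := fun {x y} ⟨a, b, hx⟩ ⟨a', b', hy⟩ => ⟨a + a', b + b', by
          rw [hx, hy, map_add, map_add, add_mul]; abel⟩
        neg_mem' := fun {x} ⟨a, b, hx⟩ => ⟨-a, -b, by rw [hx, map_neg, map_neg, neg_mul, neg_add]⟩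
        mul_mem' := fun {x y} ⟨a, b, hx⟩ ⟨a', b', hy⟩ => ⟨a * a' - b * b' * n₀, a * b' + b * a' + b * b' * s, by
          have e1 : ι b * γ * ι a' = ι (b * a') * γ := by rw [mul_assoc, hγcm, ← mul_assoc, map_mul]
          have e2 : ι b * γ * (ι b' * γ) = ι (b * b' * s) * γ - ι (b * b' * n₀) := by
            rw [mul_assoc, ← mul_assoc γ, hγcm, mul_assoc (ι b'), hquad, mul_sub, mul_sub]
            simp only [map_mul, mul_assoc]
          rw [hx, hy, add_mul, mul_add, mul_add, e1, e2, ← mul_assoc, ← map_mul, ← map_mul, map_sub,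
            map_add, map_add, add_mul, add_mul]
          abel⟩ }
    have hcomm : ∀ x y : L, x * y = y * x := by
      rintro ⟨x, a, b, rfl⟩ ⟨y, a', b', rfl⟩
      refine Subtype.ext ?_
      have hc : ∀ f, Commute γ (ι f) := hγcm
      have hcK : ∀ f g : K, Commute (ι f) (ι g) := fun f g => by
        rw [Commute, SemiconjBy, ← map_mul, ← map_mul, mul_comm]
      have c1 : Commute (ι a) (ι a' + ι b' * γ) := (hcK _ _).add_right ((hcK _ _).mul_right (hc a).symm)
      have c2 : Commute (ι b * γ) (ι a' + ι b' * γ) :=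
        (Commute.mul_left (hcK _ _) (hc a')).add_right
          (Commute.mul_left ((hcK _ _).mul_right (hc b).symm) ((hc b').mul_right (Commute.refl γ)))
      exact (c1.add_left c2).eq
    let _ : CommRing L := { (inferInstance : Ring L) with mul_comm := hcomm }
    have hnz : ∀ a b : K, (a ≠ 0 ∨ b ≠ 0) → a * a + a * b * s + b * b * n₀ ≠ 0 := by
      intro a b hab h
      by_cases hb : b = 0
      · subst hb
        exact hab.elim (fun ha => ha (by simpa using h)) (fun h0 => h0 rfl)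
      · refine hroot (-a / b) ?_
        field_simp
        linear_combination h
    have hmul : ∀ a b : K, (ι a + ι b * γ) * (ι (a + b * s) - ι b * γ) =
        ι (a * a + a * b * s + b * b * n₀) := by
      intro a b
      have e1 : ι b * γ * ι (a + b * s) = ι (b * (a + b * s)) * γ := by
        rw [mul_assoc, hγcm, ← mul_assoc, map_mul]
      have e2 : ι b * γ * (ι b * γ) = ι (b * b * s) * γ - ι (b * b * n₀) := by
        rw [mul_assoc, ← mul_assoc γ, hγcm, mul_assoc (ι b), hquad, mul_sub, mul_sub]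
        simp only [map_mul, mul_assoc]
      rw [add_mul, mul_sub, mul_sub, e1, e2, ← mul_assoc, ← map_mul, ← map_mul,
        show b * (a + b * s) = a * b + b * b * s by ring, show a * (a + b * s) = a * a + a * b * s by ring]
      simp only [map_add, add_mul]
      abel
    have hfield : IsField L := by
      refine ⟨⟨0, 1, fun h => ?_⟩, mul_comm, fun {x} hx => ?_⟩
      · exact end_one_ne_zero (congrArg Subtype.val h).symm
      obtain ⟨x, a, b, rfl⟩ := x
      have hab : a ≠ 0 ∨ b ≠ 0 := by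
        by_contra h
        push_neg at h
        exact hx (Subtype.ext (by simp [h.1, h.2]))
      set M₀ := a * a + a * b * s + b * b * n₀ with hM₀
      refine ⟨⟨ι ((a + b * s) / M₀) + ι (-(b / M₀)) * γ, _, _, rfl⟩, Subtype.ext ?_⟩
      show (ι a + ι b * γ) * (ι ((a + b * s) / M₀) + ι (-(b / M₀)) * γ) = 1
      have e : ι ((a + b * s) / M₀) + ι (-(b / M₀)) * γ = (ι (a + b * s) - ι b * γ) * ι M₀⁻¹ := by
        rw [sub_mul, ← map_mul, mul_assoc, hγcm, ← mul_assoc, ← map_mul, map_neg, neg_mul,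
          ← sub_eq_add_neg, div_eq_mul_inv, div_eq_mul_inv]
      rw [e, ← mul_assoc, hmul, ← hM₀, ← map_mul, mul_inv_cancel₀ (hnz a b hab), map_one]
    let _ : Field L := hfield.toField
    let j : K →+* L := ι.codRestrict L fun a => ⟨a, 0, by simp⟩
    let g₁ : L := ⟨γ, 0, 1, by simp⟩
    have hg₁ : g₁ * g₁ = j s * g₁ - j n₀ := Subtype.ext hquad
    have hrep : ∀ z : L, ∃ a b : K, z = j a + j b * g₁ := by
      rintro ⟨z, a, b, rfl⟩
      exact ⟨a, b, rfl⟩
    have hconj : ∀ z : L, ∃ z' : L, (z' : AddMonoid.End N) = Q.val * z * ((Q⁻¹ : (AddMonoid.End N)ˣ) : AddMonoid.End N) := by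
      rintro ⟨z, a, b, rfl⟩
      refine ⟨⟨ι (σ a) + ι (σ b) * γ, _, _, rfl⟩, ?_⟩
      show ι (σ a) + ι (σ b) * γ = Q.val * (ι a + ι b * γ) * _
      rw [mul_add, add_mul, hQc a, mul_assoc, Units.mul_inv, mul_one, ← mul_assoc Q.val, hQc b,
        mul_assoc (ι (σ b)), hQγ, mul_assoc, mul_assoc, Units.mul_inv, mul_one]
    choose C hC using hconj
    let Φ : L →+* L :=
      { toFun := C
        map_one' := Subtype.ext (by rw [hC]; simp)
        map_mul' := fun x y => Subtype.ext (by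
          rw [Subring.coe_mul, hC, hC, hC, Subring.coe_mul]
          simp only [mul_assoc]
          rw [Units.inv_mul_cancel_left])
        map_zero' := Subtype.ext (by rw [hC]; simp)
        map_add' := fun x y => Subtype.ext (by
          rw [Subring.coe_add, hC, hC, hC, Subring.coe_add, mul_add, add_mul]) }
    let σ' : RingAut L := RingEquiv.ofBijective Φ (Finite.injective_iff_bijective.1 Φ.injective)
    have hσ' : ∀ a : K, σ' (j a) = j (σ a) := fun a => Subtype.ext (by
      show (C (j a) : AddMonoid.End N) = ι (σ a)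
      rw [hC]
      show Q.val * ι a * _ = _
      rw [hQc a, mul_assoc, Units.mul_inv, mul_one])
    have hσ'g : σ' g₁ = g₁ := Subtype.ext (by
      show (C g₁ : AddMonoid.End N) = γ
      rw [hC]
      show Q.val * γ * _ = γ
      rw [hQγ, mul_assoc, Units.mul_inv, mul_one])
    have hσ'pow : ∀ (i : ℕ) (a : K), (σ' ^ i) (j a) = j ((σ ^ i) a) := by
      intro i
      induction i with
      | zero => intro a; rfl
      | succ i IH => intro a; rw [pow_succ', RingAut.mul_apply, IH, hσ', pow_succ', RingAut.mul_apply]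
    have hσ'gpow : ∀ i : ℕ, (σ' ^ i) g₁ = g₁ := by
      intro i
      induction i with
      | zero => rfl
      | succ i IH => rw [pow_succ', RingAut.mul_apply, IH, hσ'g]
    have hord : orderOf σ' = D := by
      refine orderOf_eq_orderOf_iff.2 fun i => ?_
      constructor
      · intro h
        refine RingEquiv.ext fun a => j.injective ?_
        rw [← hσ'pow, h]
        rfl
      · intro h
        refine RingEquiv.ext fun z => ?_
        obtain ⟨a, b, rfl⟩ := hrep z
        rw [map_add, map_mul, hσ'pow, hσ'pow, hσ'gpow, h]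
        rfl
    have hg₁0 : g₁ ≠ 0 := fun h => by
      have h1 : γ = 0 := congrArg Subtype.val h
      rw [h1] at hquad
      simp at hquad
      obtain ⟨x, hx⟩ := exists_ne (0 : N)
      exact hx (apply_coe_inj (ι := ι) hn0 (DFunLike.congr_fun hquad x))
    obtain ⟨δ, hδ⟩ := exists_nrm_eq σ' hσ'g
    have hδ0 : δ ≠ 0 := by rintro rfl; rw [nrm_zero] at hδ; exact hg₁0 hδ.symm
    have hnrmj : ∀ y : K, nrm σ' (j y) = j (nrm σ y) := by
      intro y
      rw [nrm, nrm, map_prod, hord, ← hD]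
      exact Finset.prod_congr rfl fun i _ => hσ'pow i y
    obtain ⟨a, b, hab⟩ := hrep δ
    have hg₁K : ∀ y : K, g₁ ≠ j y := fun y h => by
      rw [h, ← map_mul, ← map_mul, ← map_sub] at hg₁
      exact hroot y (j.injective hg₁)
    have hb0 : b ≠ 0 := by
      intro hb
      rw [hab, hb, map_zero, zero_mul, add_zero, hnrmj] at hδ
      exact hg₁K _ hδ.symm
    -- the norm of `δ δ̄`
    set M₀ := a * a + a * b * s + b * b * n₀ with hM₀
    have hM0 : nrm σ M₀ = n₀ := by
      cases nonempty_fintype K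
      obtain ⟨p, hchar⟩ := CharP.exists K
      have := hchar
      have := Fact.mk (CharP.char_is_prime K p)
      obtain ⟨⟨k, hk⟩, -, hq⟩ := FiniteField.card K p
      have : CharP L p := charP_of_injective_ringHom j.injective p
      set q := Fintype.card K with hq'
      have hadd : ∀ x y : L, (x + y) ^ q = x ^ q + y ^ q := fun x y => by
        rw [hq]; exact add_pow_char_pow x y p _
      have hj : ∀ y : K, j y ^ q = j y := fun y => by rw [← map_pow, FiniteField.pow_card]
      have hgq : g₁ ^ q = j s - g₁ := by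
        have h1 : (g₁ ^ q - g₁) * (g₁ ^ q - (j s - g₁)) = 0 := by
          have h2 := congrArg (· ^ q) hg₁
          have hsub : ∀ x y : L, (x - y) ^ q = x ^ q - y ^ q := fun x y =>
            eq_sub_of_add_eq (by rw [← hadd, sub_add_cancel])
          simp only [hsub, mul_pow, hj] at h2
          linear_combination h2 - hg₁
        refine sub_eq_zero.1 ((mul_eq_zero.1 h1).resolve_left fun h0 => ?_)
        have h3 : ∏ c : K, (g₁ - j c) = 0 := by
          have h4 := congrArg (eval₂ j g₁) (prod_X_sub_C_eq K)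
          rw [eval₂_finsetProd, eval₂_sub, eval₂_X_pow, eval₂_X, ← hq', h0] at h4
          simpa using h4
        obtain ⟨c, -, hc⟩ := Finset.prod_eq_zero_iff.1 h3
        exact hg₁K c (sub_eq_zero.1 hc)
      have e : j M₀ = δ * δ ^ q := by
        rw [hab, hadd, mul_pow, hj, hj, hgq, hM₀]
        simp only [map_add, map_mul]
        linear_combination (j b * j b) * hg₁
      refine j.injective ?_
      rw [← hnrmj, e, nrm_mul, nrm_pow, hδ, hgq]
      linear_combination -hg₁
    obtain ⟨x, hx⟩ := exists_ne (0 : N)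
    let _ : Module L N := Module.compHom N L.subtype
    obtain ⟨w, -, hw0, hw⟩ := exists_fixed (V := N) σ' ((δ⁻¹ : L).1 * Q.val)
      (fun z y => by
        show (δ⁻¹ : L).1 (Q.val (z.1 y)) = (σ' z).1 ((δ⁻¹ : L).1 (Q.val y))
        have h1 : Q.val * z.1 = (σ' z).1 * Q.val := by
          show _ = (C z : AddMonoid.End N) * Q.val
          rw [hC, mul_assoc, Units.inv_mul, mul_one]
        rw [show Q.val (z.1 y) = (σ' z).1 (Q.val y) from DFunLike.congr_fun h1 y]
        show ((δ⁻¹ * σ' z : L)).1 (Q.val y) = (σ' z * δ⁻¹ : L).1 (Q.val y)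
        rw [mul_comm])
      Set.univ (fun _ _ _ _ => trivial) (fun _ _ _ => trivial) (fun _ _ => trivial)
      (fun y _ => by
        refine (congrFun (AddMonoid.End.coe_pow _ _ _).symm y).trans ?_
        rw [hord]
        have hT : IsComp L.subtype σ' Q.val := fun z => by
          show Q.val * z.1 = (C z : AddMonoid.End N) * Q.val
          rw [hC, mul_assoc, Units.inv_mul, mul_one]
        have h1 := coe_mul_pow hT (δ⁻¹ : L) D
        have h2 : (∏ i ∈ Finset.range D, (σ' ^ i) δ⁻¹) = g₁⁻¹ := by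
          rw [← hord, ← nrm, nrm_inv σ' hδ0, hδ]
        rw [h2, ← hγpow] at h1
        rw [show ((δ⁻¹ : L).1 * Q.val) ^ D = _ from h1]
        show ((g₁⁻¹ * g₁ : L)).1 y = y
        rw [inv_mul_cancel₀ hg₁0]
        rfl) (e := x) trivial hx
    have hQw : Q.val w = δ.1 w := by
      conv_rhs => rw [← hw]
      show Q.val w = (δ * δ⁻¹ : L).1 (Q.val w)
      rw [mul_inv_cancel₀ hδ0]
      rfl
    set A := (σ b * a + σ a * b + b * σ b * s) / b with hA
    set B := -(σ b / b * M₀) with hB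
    have hid : σ' δ * δ = j A * δ + j B := by
      have hA' : j A * j b = j (σ b) * j a + j (σ a) * j b + j b * j (σ b) * j s := by
        rw [← map_mul, hA, div_mul_cancel₀ _ hb0]
        simp only [map_add, map_mul]
      have hB' : j B = j (σ a) * j a - j b * j (σ b) * j n₀ - j A * j a := by
        simp only [← map_mul, ← map_sub]
        congr 1
        rw [hB, hA, hM₀]
        field_simp
        ring
      rw [hab, map_add, map_mul, hσ', hσ', hσ'g, hB']
      linear_combination (j b * j (σ b)) * hg₁ - g₁ * hA'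
    refine sing w hw0 A B ?_ ?_
    · have h1 : Q.val * δ.1 = (σ' δ).1 * Q.val := by
        show _ = (C δ : AddMonoid.End N) * Q.val
        rw [hC, mul_assoc, Units.inv_mul, mul_one]
      rw [hQw, show Q.val (δ.1 w) = (σ' δ).1 (Q.val w) from DFunLike.congr_fun h1 w, hQw]
      show (σ' δ * δ : L).1 w = _
      rw [hid]
      rfl
    · rw [hB, neg_neg, nrm_mul, hM0, div_eq_mul_inv, nrm_mul, nrm_inv σ hb0, nrm_apply,
        mul_inv_cancel₀ (nrm_ne_zero σ hb0), one_mul]

/-- A maximal subfield exhausts the Jordan set. -/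
theorem eq_range_of_max (hM : JordanSet M) (hι : IsMaxField M ι) {B : AddMonoid.End N}
    (hB : B ∈ M) : ∃ f, ι f = B := by
  classical
  cases nonempty_fintype (RingAut K)
  obtain ⟨c, hc, hcs⟩ := exists_decomp (ι := ι) B
  obtain ⟨f, hf⟩ := component_one hM hι hc (hcs ▸ hB)
  by_cases hall : ∀ σ, σ ≠ 1 → c σ = 0
  · exact ⟨f, by rw [hf, ← hcs, Finset.sum_eq_single 1 (fun σ _ h => hall σ h) (fun h => absurd (Finset.mem_univ _) h)]⟩
  exfalso
  push_neg at hall
  obtain ⟨σ, hσ, hne⟩ := hall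
  obtain ⟨hm1, hm2⟩ := hM.component_mem hι.1 hc (hcs ▸ hB) σ
  by_cases hs : σ⁻¹ = σ
  · exact degenerate hM hι hσ (hc σ) (isComp_zero _) (fun _ => rfl) (by rw [add_zero]; exact hm1 hs)
      hne (zero_mul _) (mul_zero _)
  have hσ2 : σ * σ ≠ 1 := fun h => hs (inv_eq_of_mul_eq_one_left h)
  set B₁ := c σ with hB₁
  set B₂ := c σ⁻¹ with hB₂
  have hmem : B₁ + B₂ ∈ M := hm2 hs
  have h₁ : IsComp ι σ B₁ := hc σ
  have h₂ : IsComp ι σ⁻¹ B₂ := hc σ⁻¹
  have hkey : ∀ g : K, ∃ t, ι t = ι (σ g) * (B₁ * B₂) + ι (σ⁻¹ g) * (B₂ * B₁) := by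
    intro g
    have hmem' := hM.quad _ hmem _ (hι.1 g)
    let d : RingAut K → AddMonoid.End N := fun τ =>
      (if τ = σ * σ then ι (σ g) * (B₁ * B₁) else 0) + (if τ = σ⁻¹ * σ⁻¹ then ι (σ⁻¹ g) * (B₂ * B₂) else 0) +
        (if τ = 1 then ι (σ g) * (B₁ * B₂) + ι (σ⁻¹ g) * (B₂ * B₁) else 0)
    have hd : ∀ τ, IsComp ι τ (d τ) := by
      intro τ k
      simp only [d, add_mul, mul_add]
      congr 1
      · congr 1
        · split_ifs with h
          · subst h; exact ((h₁.mul h₁).coe_mul _) k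
          · simp
        · split_ifs with h
          · subst h; exact ((h₂.mul h₂).coe_mul _) k
          · simp
      · split_ifs with h
        · subst h
          have e1 := ((h₁.mul h₂).coe_mul (σ g)) k
          have e2 := ((h₂.mul h₁).coe_mul (σ⁻¹ g)) k
          rw [mul_inv_cancel] at e1
          rw [inv_mul_cancel] at e2
          rw [add_mul, mul_add, e1, e2]
        · simp
    have hds : ∑ τ, d τ = (B₁ + B₂) * ι g * (B₁ + B₂) := by
      simp only [d, Finset.sum_add_distrib, Finset.sum_ite_eq', Finset.mem_univ, if_true]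
      rw [add_mul, h₁ g, h₂ g]
      simp only [add_mul, mul_add, mul_assoc]
      abel
    obtain ⟨t, ht⟩ := component_one hM hι hd (hds ▸ hmem')
    refine ⟨t, ?_⟩
    rw [ht]
    have n1 : (1 : RingAut K) ≠ σ * σ := fun h => hσ2 h.symm
    have n2 : (1 : RingAut K) ≠ σ⁻¹ * σ⁻¹ := fun h => hσ2 (by
      rw [← mul_inv_rev] at h; exact inv_eq_one.1 h.symm)
    simp [d, n1, n2]
  obtain ⟨g, hg⟩ : ∃ g, σ g ≠ σ⁻¹ g := by
    by_contra h
    push_neg at h
    exact hs (RingEquiv.ext fun g => (h g).symm)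
  obtain ⟨t₁, ht₁⟩ := hkey g
  obtain ⟨t₀, ht₀⟩ := hkey 1
  simp only [map_one, one_mul] at ht₀
  have hd0 : σ g - σ⁻¹ g ≠ 0 := sub_ne_zero.2 hg
  set u := (t₁ - σ⁻¹ g * t₀) / (σ g - σ⁻¹ g) with hu
  have hu' : ι u = B₁ * B₂ := by
    have e : ι (σ g - σ⁻¹ g) * (B₁ * B₂) = ι (t₁ - σ⁻¹ g * t₀) := by
      rw [map_sub, map_sub, map_mul, ht₁, ht₀, sub_mul, mul_add]
      abel
    calc ι u = ι (σ g - σ⁻¹ g)⁻¹ * ι (t₁ - σ⁻¹ g * t₀) := by rw [← map_mul, hu, div_eq_inv_mul]
      _ = B₁ * B₂ := by rw [← e, ← mul_assoc, ← map_mul, inv_mul_cancel₀ hd0, map_one, one_mul]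
  have hv' : ι (t₀ - u) = B₂ * B₁ := by rw [map_sub, ht₀, hu']; abel
  by_cases hv0 : t₀ - u = 0
  · rw [hv0, map_zero] at hv'
    have hu0 : B₁ * B₂ = 0 := by
      have h1 : B₁ * B₂ * B₁ = 0 := by rw [mul_assoc, ← hv', mul_zero]
      by_contra hne0
      have hu0' : u ≠ 0 := fun h => hne0 (by rw [← hu', h, map_zero])
      rw [← hu'] at h1
      exact hne (coe_left_cancel hu0' h1)
    exact degenerate hM hι hσ h₁ h₂ (fun h => absurd h hs) hmem hne hv'.symm hu0
  · exact nondegenerate hM hι hσ2 h₁ h₂ hmem hv0 hv'.symm ⟨u, hu'⟩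

/-- A Jordan set of endomorphisms of a finite group is a commutative field. -/
theorem JordanSet.comm_closed {N : Type*} [AddCommGroup N] [Finite N] [Nontrivial N]
    {M : AddSubgroup (AddMonoid.End N)} (hM : JordanSet M) {a b : AddMonoid.End N}
    (ha : a ∈ M) (hb : b ∈ M) : a * b ∈ M ∧ a * b = b * a := by
  classical
  cases nonempty_fintype (AddMonoid.End N)
  have : Finite (Subring (AddMonoid.End N)) := Finite.of_injective _ SetLike.coe_injective
  cases nonempty_fintype (Subring (AddMonoid.End N))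
  let T : Finset (Subring (AddMonoid.End N)) :=
    Finset.univ.filter fun S : Subring (AddMonoid.End N) => ∀ x ∈ S, x ∈ M
  have hT : (⊥ : Subring (AddMonoid.End N)) ∈ T := by
    refine Finset.mem_filter.2 ⟨Finset.mem_univ _, fun x hx => ?_⟩
    obtain ⟨m, rfl⟩ := Subring.mem_bot.1 hx
    rw [← zsmul_one]
    exact M.zsmul_mem hM.one_mem m
  obtain ⟨S, hS, hmax⟩ := Finset.exists_max_image T (fun S => Nat.card S) ⟨⊥, hT⟩
  have hSM := (Finset.mem_filter.1 hS).2
  have : Nontrivial S := ⟨⟨0, 1, fun h => end_one_ne_zero (congrArg Subtype.val h).symm⟩⟩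
  have : NoZeroDivisors S := ⟨fun {x y} h => by
    by_cases hx : x.1 = 0
    · exact Or.inl (Subtype.ext hx)
    · refine Or.inr (Subtype.ext (AddMonoidHom.ext fun n => hM.inj _ (hSM _ x.2) hx ?_))
      exact (DFunLike.congr_fun (congrArg Subtype.val h) n).trans (map_zero _).symm⟩
  have : IsDomain S := NoZeroDivisors.to_isDomain S
  let _ : Field S :=
    (show IsField S from Finite.isDomain_to_isField S).toField
  have hι : IsMaxField M S.subtype := by
    refine ⟨fun f => hSM _ f.2, fun S' h1 h2 x hx => ?_⟩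
    have hle : S ≤ S' := fun y hy => h1 ⟨y, hy⟩
    have hcard := hmax S' (Finset.mem_filter.2 ⟨Finset.mem_univ _, h2⟩)
    have heq : (S : Set (AddMonoid.End N)) = S' :=
      Set.eq_of_subset_of_ncard_le hle (by
        rw [← Nat.card_coe_set_eq, ← Nat.card_coe_set_eq]; exact hcard) (Set.toFinite _)
    exact ⟨⟨x, heq.ge hx⟩, rfl⟩
  obtain ⟨x, rfl⟩ := eq_range_of_max hM hι ha
  obtain ⟨y, rfl⟩ := eq_range_of_max hM hι hb
  exact ⟨hSM _ (S.mul_mem x.2 y.2), congrArg Subtype.val (mul_comm x y)⟩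

end Cfsg.Agent.CG26.OW
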