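import Cfsg.Agent.CG26.OW.Persp
import Cfsg.Agent.CG26.OW.Jordan

/-!
# Ostrom-Wagner: translation coordinates and slopes
-/

set_option autoImplicit false
set_option linter.unusedSectionVars false

namespace Cfsg.Agent.CG26.OW

open Configuration

variable (G P L : Type*) [Membership P L] [ProjectivePlane P L] [Group G] [Finite G]
  [MulAction G P] [MulAction G L] [PlaneAction G P L] [Finite P] [Finite L] [FaithfulSMul G P]

/-- All elations exist. -/
structure AllElations : Prop where
  dir : ∀ (b : L) (X : P), X ∈ b → Nat.card (dirGp G b X) = ProjectivePlane.order P L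
  full : ∀ b : L, Nat.card (elA G P b) = ProjectivePlane.order P L ^ 2
  comm : ∀ b : L, ∀ u ∈ elA G P b, ∀ v ∈ elA G P b, u * v = v * u

variable {G P L}

section Trans

variable (hE : AllElations G P L) {a : L} {O : P} (hO : O ∉ a)

theorem elA_smul_off {t : G} (ht : t ∈ elA G P a) {p : P} (hp : p ∉ a) : t • p ∉ a := fun h => by
  rw [← ht.1.fix_line] at h
  exact hp ((PlaneAction.smul_mem_smul t p a).1 h)

include hO in
theorem elA_eq_of_smul {s t : G} (hs : s ∈ elA G P a) (ht : t ∈ elA G P a)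
    (h : s • O = t • O) : s = t := by
  have h1 : (t⁻¹ * s) • O = O := by rw [mul_smul, h, inv_smul_smul]
  exact (inv_mul_eq_one.1 (elA_fix_point (mul_mem (inv_mem ht) hs) hO h1)).symm

include hE hO in
theorem exists_translation {p : P} (hp : p ∉ a) : ∃ t ∈ elA G P a, t • O = p := by
  have hsub : (fun t : G => t • O) '' (elA G P a : Set G) ⊆ {q : P | q ∉ a} := by
    rintro q ⟨t, ht, rfl⟩; exact elA_smul_off ht hO
  have heq := Set.eq_of_subset_of_ncard_le hsub (by
    rw [Set.ncard_image_of_injOn (fun s hs t ht h => elA_eq_of_smul hO hs ht h), ncard_off,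
      ← hE.full a, ← Nat.card_coe_set_eq]
    rfl) (Set.toFinite _)
  obtain ⟨t, ht, htp⟩ := heq.ge hp
  exact ⟨t, ht, htp⟩

theorem dirGp_inf {X Y : P} (hXY : X ≠ Y) {g : G} (h1 : g ∈ dirGp G a X) (h2 : g ∈ dirGp G a Y) :
    g = 1 := by
  by_contra hg
  exact hXY (centre_unique hg h1.2 h2.2)

include hO in
/-- A translation with centre `W` is one moving `O` along the line `OW`. -/
theorem mem_dirGp_iff_mem_line {W : P} (hW : W ∈ a) {m : L} (hOm : O ∈ m) (hWm : W ∈ m) {t : G}
    (ht : t ∈ elA G P a) : t ∈ dirGp G a W ↔ t • O ∈ m := by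
  constructor
  · intro h
    exact mem_of_fixed (h.2 m hWm) hOm
  · intro h
    refine mem_dirGp.2 ⟨ht, ?_⟩
    by_cases h1 : t = 1
    · rw [h1]; exact isCentre_one W
    have hOW : O ≠ W := fun e => hO (e ▸ hW)
    have htW : t • W = W := ht.1 W hW
    have htO : t • O ≠ W := fun e => hOW (smul_left_cancel t (e.trans htW.symm))
    have htm : t • m = m := line_eq htO (smul_mem t hOm) (mem_smul_of_fixed htW hWm) h hWm
    obtain ⟨C, hCa, htC⟩ := ht.2
    rcases fixed_line_cases h1 ht.1 htC htm with hCm | hma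
    · rwa [point_eq (fun e : m = a => hO (e ▸ hOm)) hCm hCa hWm hW] at htC
    · exact absurd (hma ▸ hOm) hO

end Trans

/-- Coordinates on the translation group. -/
structure Frame (G : Type*) {P L : Type*} [Membership P L] [ProjectivePlane P L] [Group G] [Finite G]
    [MulAction G P] [MulAction G L] [PlaneAction G P L] [Finite P] [Finite L] [FaithfulSMul G P]
    (a : L) (O X Y : P) (N : Type*) [AddCommGroup N] where
  toT : N × N → G
  map_add : ∀ u v, toT (u + v) = toT u * toT v
  mem : ∀ v, toT v ∈ elA G P a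
  inj : Function.Injective toT
  surj : ∀ t ∈ elA G P a, ∃ v, toT v = t
  fst : ∀ v : N × N, toT v ∈ dirGp G a X ↔ v.2 = 0
  snd : ∀ v : N × N, toT v ∈ dirGp G a Y ↔ v.1 = 0
  hO : O ∉ a
  hX : X ∈ a
  hY : Y ∈ a
  hXY : X ≠ Y

variable {N : Type*} [AddCommGroup N] [Finite N] {a : L} {O X Y : P}

/-- `M` is the slope of the direction `W`. -/
def Frame.IsSlope (F : Frame G a O X Y N) (W : P) (M : AddMonoid.End N) : Prop :=
  W ∈ a ∧ W ≠ Y ∧ ∀ v : N × N, F.toT v ∈ dirGp G a W ↔ v.2 = M v.1

/-- The frame with the two axes exchanged. -/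
def Frame.swap (F : Frame G a O X Y N) : Frame G a O Y X N where
  toT v := F.toT (v.2, v.1)
  map_add u v := F.map_add (u.2, u.1) (v.2, v.1)
  mem v := F.mem _
  inj u v h := by
    have := F.inj h
    exact Prod.ext (congrArg Prod.snd this) (congrArg Prod.fst this)
  surj t ht := by
    obtain ⟨v, hv⟩ := F.surj t ht
    exact ⟨(v.2, v.1), hv⟩
  fst v := F.snd (v.2, v.1)
  snd v := F.fst (v.2, v.1)
  hO := F.hO
  hX := F.hY
  hY := F.hX
  hXY := F.hXY.symm

namespace Frame

variable (F : Frame G a O X Y N)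

theorem map_zero : F.toT 0 = 1 := by
  have h := F.map_add 0 0
  rw [add_zero] at h
  exact left_eq_mul.1 h

theorem map_neg (v : N × N) : F.toT (-v) = (F.toT v)⁻¹ := by
  refine eq_inv_of_mul_eq_one_left ?_
  rw [← F.map_add, neg_add_cancel, F.map_zero]

include F in
theorem card_coord (hE : AllElations G P L) : Nat.card N = ProjectivePlane.order P L := by
  have hbij : Nat.card (N × N) = Nat.card (elA G P a) := by
    refine Nat.card_congr (Equiv.ofBijective (fun v => (⟨F.toT v, F.mem v⟩ : elA G P a)) ⟨?_, ?_⟩)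
    · exact fun u v h => F.inj (congrArg Subtype.val h)
    · rintro ⟨t, ht⟩; obtain ⟨v, hv⟩ := F.surj t ht; exact ⟨v, Subtype.ext hv⟩
  rw [Nat.card_prod, hE.full a, sq] at hbij
  exact Nat.mul_self_inj.1 hbij

theorem exists_slope (hE : AllElations G P L) {W : P} (hW : W ∈ a) (hWY : W ≠ Y) :
    ∃ M : AddMonoid.End N, F.IsSlope W M := by
  let C : AddSubgroup (N × N) :=
    { carrier := {v | F.toT v ∈ dirGp G a W}
      zero_mem' := by
        show F.toT 0 ∈ dirGp G a W
        rw [F.map_zero]; exact one_mem _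
      add_mem' := fun {u v} hu hv => by
        show F.toT (u + v) ∈ dirGp G a W
        rw [F.map_add]; exact mul_mem hu hv
      neg_mem' := fun {u} hu => by
        show F.toT (-u) ∈ dirGp G a W
        rw [F.map_neg]; exact inv_mem hu }
  have hC : Nat.card C = Nat.card N := by
    rw [F.card_coord hE, ← hE.dir a W hW]
    refine Nat.card_congr (Equiv.ofBijective (fun v => (⟨F.toT v.1, v.2⟩ : dirGp G a W)) ⟨?_, ?_⟩)
    · exact fun u v h => Subtype.ext (F.inj (congrArg Subtype.val h))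
    · rintro ⟨t, ht⟩
      obtain ⟨v, hv⟩ := F.surj t ht.1
      exact ⟨⟨v, by show F.toT v ∈ dirGp G a W; rw [hv]; exact ht⟩, Subtype.ext hv⟩
  let f : C →+ N := (AddMonoidHom.fst N N).comp C.subtype
  have finj : Function.Injective f := by
    rw [injective_iff_map_eq_zero]
    intro v hv
    refine Subtype.ext (F.inj ?_)
    rw [ZeroMemClass.coe_zero, F.map_zero]
    exact dirGp_inf hWY (show F.toT v.1 ∈ dirGp G a W from v.2) ((F.snd v.1).2 hv)
  have fbij : Function.Bijective f :=
    finj.bijective_of_nat_card_le hC.ge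
  let M : AddMonoid.End N :=
    (((AddMonoidHom.snd N N).comp C.subtype).comp (AddEquiv.ofBijective f fbij).symm.toAddMonoidHom)
  refine ⟨M, hW, hWY, fun v => ?_⟩
  have hM : ∀ x : N, ((AddEquiv.ofBijective f fbij).symm x : N × N) = (x, M x) := fun x =>
    Prod.ext ((AddEquiv.ofBijective f fbij).apply_symm_apply x) rfl
  constructor
  · intro hv
    have : (⟨v, hv⟩ : C) = (AddEquiv.ofBijective f fbij).symm v.1 :=
      ((AddEquiv.ofBijective f fbij).symm_apply_apply _).symm
    exact congrArg (fun u : C => (u : N × N).2) this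
  · intro hv
    have h2 := ((AddEquiv.ofBijective f fbij).symm v.1).2
    rw [hM, ← hv] at h2
    exact h2

/-- The slopes. -/
def slopes : Set (AddMonoid.End N) := {M | ∃ W, F.IsSlope W M}

theorem slope_unique {W : P} {M M' : AddMonoid.End N} (h : F.IsSlope W M) (h' : F.IsSlope W M') :
    M = M' := AddMonoidHom.ext fun x => (h'.2.2 (x, M x)).1 ((h.2.2 (x, M x)).2 rfl)

theorem isSlope_zero : F.IsSlope X 0 := ⟨F.hX, F.hXY, fun v => F.fst v⟩

theorem point_unique_of_slope [Nontrivial N] {W W' : P} {M : AddMonoid.End N} (h : F.IsSlope W M)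
    (h' : F.IsSlope W' M) : W = W' := by
  by_contra hne
  obtain ⟨x, hx⟩ := exists_ne (0 : N)
  have := dirGp_inf hne ((h.2.2 (x, M x)).2 rfl) ((h'.2.2 (x, M x)).2 rfl)
  rw [← F.map_zero] at this
  exact hx (congrArg Prod.fst (F.inj this))

theorem slope_injective {M : AddMonoid.End N} (hM : M ∈ F.slopes) (h0 : M ≠ 0) :
    Function.Injective M := by
  obtain ⟨W, hW⟩ := hM
  refine (injective_iff_map_eq_zero M).2 fun x hx => ?_
  have hWX : W ≠ X := fun e => h0 (F.slope_unique (e ▸ hW) F.isSlope_zero)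
  have := dirGp_inf hWX ((hW.2.2 (x, 0)).2 hx.symm) ((F.fst (x, 0)).2 rfl)
  rw [← F.map_zero] at this
  exact congrArg Prod.fst (F.inj this)

theorem add_mem_slopes (hE : AllElations G P L) {M M' : AddMonoid.End N} (hM : M ∈ F.slopes)
    (hM' : M' ∈ F.slopes) : M + M' ∈ F.slopes := by
  obtain ⟨W, hW⟩ := hM
  obtain ⟨W', hW'⟩ := hM'
  obtain ⟨b, hOb, hYb⟩ := exists_join L O Y
  have hba : b ≠ a := fun e => F.hO (e ▸ hOb)
  -- some shear maps `X` to `W'`
  have hmaps : (fun g : G => g • X) '' (dirGp G b Y : Set G) ⊆ {q : P | q ∈ a ∧ q ≠ Y} := by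
    rintro q ⟨g, hg, rfl⟩
    refine ⟨mem_of_fixed (hg.2 a F.hY) F.hX, fun e => F.hXY ?_⟩
    exact smul_left_cancel g (e.trans hg.2.fix_point.symm)
  have hXb : X ∉ b := fun h => F.hXY (point_eq hba h F.hX hYb F.hY)
  have himg := Set.eq_of_subset_of_ncard_le hmaps (by
    rw [Set.ncard_image_of_injOn (fun g hg g' hg' h => elA_eq_of_smul hXb hg.1 hg'.1 h),
      ncard_line_diff F.hY, ← hE.dir b Y hYb, ← Nat.card_coe_set_eq]
    rfl) (Set.toFinite _)
  obtain ⟨g, hg, hgX⟩ := himg.ge ⟨hW'.1, hW'.2.1⟩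
  have ga : g • a = a := hg.2 a F.hY
  have gO : g • O = O := hg.1.1 O hOb
  have gY : g • Y = Y := hg.2.fix_point
  have hconjA : ∀ t ∈ elA G P a, g * t * g⁻¹ ∈ elA G P a := fun t ht => by
    have := elA_conj ht g
    rwa [ga] at this
  have hconjO : ∀ t : G, (g * t * g⁻¹) • O = g • t • O := fun t => by
    rw [mul_smul, mul_smul, inv_smul_eq_iff.2 gO.symm]
  have hdir : ∀ {V : P}, ∀ t ∈ dirGp G a V, g * t * g⁻¹ ∈ dirGp G a (g • V) := fun t ht =>
    mem_dirGp.2 ⟨hconjA t ht.1, ht.2.conj g⟩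
  have conjY : ∀ y : N, g * F.toT (0, y) * g⁻¹ = F.toT (0, y) := by
    intro y
    refine elA_eq_of_smul F.hO (hconjA _ (F.mem _)) (F.mem _) ?_
    rw [hconjO]
    refine hg.1.1 _ ?_
    exact (mem_dirGp_iff_mem_line F.hO F.hY hOb hYb (F.mem _)).1 ((F.snd (0, y)).2 rfl)
  have conjX : ∀ x : N, g * F.toT (x, 0) * g⁻¹ = F.toT (x, M' x) := by
    intro x
    obtain ⟨v, hv⟩ := F.surj _ (hconjA _ (F.mem (x, 0)))
    have h1 : v.2 = M' v.1 := by
      refine (hW'.2.2 v).1 ?_
      rw [hv, ← hgX]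
      exact hdir _ ((F.fst (x, 0)).2 rfl)
    -- the first coordinate is kept
    have h2 : F.toT (-(x, 0) + v) ∈ dirGp G a Y := by
      refine (mem_dirGp_iff_mem_line F.hO F.hY hOb hYb (F.mem _)).2 ?_
      set s := F.toT (x, 0) with hs
      have hsY : s • Y = Y := (F.mem _).1 Y F.hY
      obtain ⟨m, hsm, hYm⟩ := exists_join L (s • O) Y
      have hne : s • O ≠ Y := fun e => F.hO (by
        have : O = Y := smul_left_cancel s (e.trans hsY.symm)
        exact this ▸ F.hY)
      have hmsb : m = s • b := line_eq hne hsm hYm (smul_mem s hOb) (mem_smul_of_fixed hsY hYb)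
      have hgm : g • (s • O) ∈ s • b := hmsb ▸ mem_of_fixed (hg.2 m hYm) hsm
      rw [F.map_add, F.map_neg, ← hs, hv, mul_smul, hconjO, smul_mem_iff, inv_inv]
      exact hgm
    have h3 : v.1 = x := by
      have := (F.snd _).1 h2
      simpa [neg_add_eq_zero, eq_comm] using this
    rw [← hv]
    congr 1
    exact Prod.ext h3 (by rw [h1, h3])
  have conj : ∀ v : N × N, g * F.toT v * g⁻¹ = F.toT (v.1, v.2 + M' v.1) := by
    intro v
    have hsplit : v = (v.1, 0) + (0, v.2) := by simp
    conv_lhs => rw [hsplit, F.map_add]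
    rw [show g * (F.toT (v.1, 0) * F.toT (0, v.2)) * g⁻¹ =
        (g * F.toT (v.1, 0) * g⁻¹) * (g * F.toT (0, v.2) * g⁻¹) by group, conjX, conjY, ← F.map_add]
    congr 1
    simp [add_comm]
  refine ⟨g • W, mem_of_fixed ga hW.1, fun e => hW.2.1 (smul_left_cancel g (e.trans gY.symm)),
    fun v => ?_⟩
  have e1 : F.toT v = g * F.toT (v.1, v.2 - M' v.1) * g⁻¹ := by
    rw [conj, sub_add_cancel]
  constructor
  · intro h
    have h' : F.toT (v.1, v.2 - M' v.1) ∈ dirGp G a W := by
      have h1 := mem_dirGp.1 h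
      have := (h1.2).conj g⁻¹
      rw [inv_smul_smul, e1] at this
      refine mem_dirGp.2 ⟨F.mem _, ?_⟩
      simpa [mul_assoc] using this
    have h2 : v.2 - M' v.1 = M v.1 := (hW.2.2 _).1 h'
    show v.2 = M v.1 + M' v.1
    rw [← h2, sub_add_cancel]
  · intro h
    rw [e1]
    refine hdir _ ((hW.2.2 _).2 ?_)
    show v.2 - M' v.1 = M v.1
    rw [show v.2 = M v.1 + M' v.1 from h, add_sub_cancel_right]

theorem neg_mem_slopes (hE : AllElations G P L) {M : AddMonoid.End N} (hM : M ∈ F.slopes) :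
    -M ∈ F.slopes := by
  have hk : ∀ k : ℕ, k • M ∈ F.slopes := by
    intro k
    induction k with
    | zero => rw [zero_smul]; exact ⟨X, F.isSlope_zero⟩
    | succ k IH => rw [succ_nsmul]; exact F.add_mem_slopes hE IH hM
  have hpos : 0 < addOrderOf M := (isOfFinAddOrder_of_finite M).addOrderOf_pos
  have : -M = (addOrderOf M - 1) • M := by
    refine (eq_neg_of_add_eq_zero_left ?_).symm
    rw [← succ_nsmul, Nat.sub_add_cancel hpos, addOrderOf_nsmul_eq_zero]
  rw [this]
  exact hk _

theorem inv_mem_swap {M : AddMonoid.End N} (hM : M ∈ F.slopes) (h0 : M ≠ 0) :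
    ∃ Mi ∈ F.swap.slopes, Mi * M = 1 ∧ M * Mi = 1 ∧ Mi ≠ 0 := by
  rcases subsingleton_or_nontrivial N with hN | hN
  · exact absurd (AddMonoidHom.ext fun x => Subsingleton.elim _ _) h0
  obtain ⟨u, hu⟩ := isUnit_of_injective (F.slope_injective hM h0)
  obtain ⟨W, hW⟩ := hM
  have hWX : W ≠ X := fun e => h0 (F.slope_unique (e ▸ hW) F.isSlope_zero)
  refine ⟨_, ⟨W, hW.1, hWX, fun v => ?_⟩, by rw [← hu, u.inv_mul], by rw [← hu, u.mul_inv], fun h => ?_⟩
  · refine (hW.2.2 (v.2, v.1)).trans ?_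
    show v.1 = M v.2 ↔ _
    constructor
    · intro h
      rw [h, ← hu]
      exact (DFunLike.congr_fun u.inv_mul v.2).symm
    · intro h
      rw [h, ← hu]
      exact (DFunLike.congr_fun u.mul_inv v.1).symm
  · have := u.inv_mul
    rw [h, zero_mul] at this
    exact end_one_ne_zero this.symm

theorem mul_mul_mem (hE : AllElations G P L) [Nontrivial N] {A B : AddMonoid.End N}
    (hA : A ∈ F.slopes) (hB : B ∈ F.swap.slopes) : A * B * A ∈ F.slopes := by
  have hsub : ∀ {A B : AddMonoid.End N}, A ∈ F.slopes → B ∈ F.slopes → A - B ∈ F.slopes :=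
    fun {A B} hA hB => by rw [sub_eq_add_neg]; exact F.add_mem_slopes hE hA (F.neg_mem_slopes hE hB)
  by_cases hA0 : A = 0
  · rw [hA0, mul_zero]; exact ⟨X, F.isSlope_zero⟩
  by_cases hB0 : B = 0
  · rw [hB0, mul_zero, zero_mul]; exact ⟨X, F.isSlope_zero⟩
  obtain ⟨Ai, hAi, hAiA, hAAi, -⟩ := F.inv_mem_swap hA hA0
  obtain ⟨Bi, hBi, hBiB, hBBi, hBi0⟩ := F.swap.inv_mem_swap hB hB0
  have hBi' : Bi ∈ F.slopes := hBi
  by_cases hD : Bi - A = 0
  · rw [sub_eq_zero] at hD
    rw [← hD, hBiB, one_mul]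
    exact hBi'
  obtain ⟨Di, hDi, hDiD, hDDi, -⟩ := F.inv_mem_swap (hsub hBi' hA) hD
  set C := Ai + Di with hC
  have hCmem : C ∈ F.swap.slopes := F.swap.add_mem_slopes hE hAi hDi
  have hC0 : C ≠ 0 := by
    intro h
    have h1 : (Bi - A) * C * A = 0 := by rw [h, mul_zero, zero_mul]
    rw [hC, mul_add, hDDi, add_mul, mul_assoc, hAiA, mul_one, one_mul, sub_add_cancel] at h1
    exact hBi0 h1
  obtain ⟨Ci, hCi, hCiC, hCCi, -⟩ := F.swap.inv_mem_swap hCmem hC0
  have hCi' : Ci ∈ F.slopes := hCi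
  have key : Ci = A - A * B * A := by
    have h1 : C * (A - A * B * A) = 1 := by
      have e1 : C * A = 1 + Di * A := by rw [hC, add_mul, hAiA]
      have e2 : Di * A = Di * Bi - 1 := by
        have h2 := hDiD
        rw [mul_sub] at h2
        rw [← h2]; abel
      calc C * (A - A * B * A) = C * A - C * A * B * A := by rw [mul_sub]; simp only [mul_assoc]
        _ = (Di * Bi) - Di * Bi * B * A := by rw [e1, e2, add_sub_cancel]
        _ = Di * (Bi - A) := by rw [mul_assoc Di Bi B, hBiB, mul_one, mul_sub]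
        _ = 1 := hDiD
    calc Ci = Ci * (C * (A - A * B * A)) := by rw [h1, mul_one]
      _ = _ := by rw [← mul_assoc, hCiC, one_mul]
  have : A * B * A = A - Ci := by rw [key, sub_sub_cancel]
  rw [this]
  exact hsub hA hCi'

/-- The slopes form a Jordan set, provided `1` is a slope. -/
theorem jordanSet (hE : AllElations G P L) [Nontrivial N] (h1 : 1 ∈ F.slopes)
    (h1' : 1 ∈ F.swap.slopes) :
    ∃ S : AddSubgroup (AddMonoid.End N), (S : Set (AddMonoid.End N)) = F.slopes ∧ JordanSet S := by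
  let S : AddSubgroup (AddMonoid.End N) :=
    { carrier := F.slopes
      zero_mem' := ⟨X, F.isSlope_zero⟩
      add_mem' := fun ha hb => F.add_mem_slopes hE ha hb
      neg_mem' := fun ha => F.neg_mem_slopes hE ha }
  refine ⟨S, rfl, h1, fun A hA h0 => F.slope_injective hA h0, fun A hA B hB => ?_⟩
  refine F.mul_mul_mem hE hA ?_
  -- the slopes of both frames agree
  have := F.swap.mul_mul_mem hE h1' (B := B) hB
  rwa [one_mul, mul_one] at this

end Frame

/-- A frame exists, with `1` a slope on both sides. -/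
theorem exists_frame (hE : AllElations G P L) :
    ∃ (a : L) (O X Y : P) (H : Subgroup G) (_ : AddCommGroup (Additive H))
      (F : Frame G a O X Y (Additive H)),
      Nontrivial (Additive H) ∧ 1 ∈ F.slopes ∧ 1 ∈ F.swap.slopes := by
  classical
  obtain ⟨O₀, -, -, a, -⟩ := @ProjectivePlane.exists_config P L _ _
  obtain ⟨O, hO⟩ := exists_not_mem P a
  obtain ⟨X, hX, -⟩ := exists_mem_ne P a O
  obtain ⟨Y, hY, hYX⟩ := exists_mem_ne P a X
  obtain ⟨Z, hZ, hZX, hZY⟩ := exists_mem_ne₂ P a X Y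
  set n := ProjectivePlane.order P L with hn
  have hn2 : 2 ≤ n := two_le_order P L
  let H := dirGp G a X
  let _ : CommGroup H :=
    { (inferInstance : Group H) with
      mul_comm := fun u v => Subtype.ext (hE.comm a u u.2.1 v v.2.1) }
  -- the decomposition of translations
  have hprod : ∀ t ∈ elA G P a, ∃ s ∈ dirGp G a X, ∃ u ∈ dirGp G a Y, s * u = t := by
    let f : dirGp G a X × dirGp G a Y → elA G P a := fun v => ⟨v.1 * v.2, mul_mem v.1.2.1 v.2.2.1⟩
    have finj : Function.Injective f := by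
      rintro ⟨s, u⟩ ⟨s', u'⟩ h
      have h' : (s : G) * u = s' * u' := congrArg Subtype.val h
      have h1 : (s' : G)⁻¹ * s = u' * (u : G)⁻¹ := by
        rw [inv_mul_eq_iff_eq_mul, ← mul_assoc, ← h', mul_inv_cancel_right]
      have h2 := dirGp_inf hYX.symm (mul_mem (inv_mem s'.2) s.2) (h1 ▸ mul_mem u'.2 (inv_mem u.2))
      have hs : s = s' := Subtype.ext (inv_mul_eq_one.1 h2).symm
      subst hs
      exact Prod.ext rfl (Subtype.ext (mul_left_cancel h'))
    have fbij := finj.bijective_of_nat_card_le (by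
      rw [Nat.card_prod, hE.dir a X hX, hE.dir a Y hY, hE.full a, sq])
    intro t ht
    obtain ⟨⟨s, u⟩, hsu⟩ := fbij.2 ⟨t, ht⟩
    exact ⟨s, s.2, u, u.2, congrArg Subtype.val hsu⟩
  -- the isomorphism given by the third direction
  have huniq : ∀ s ∈ dirGp G a X, ∀ u ∈ dirGp G a Y, ∀ u' ∈ dirGp G a Y,
      s * u ∈ dirGp G a Z → s * u' ∈ dirGp G a Z → u = u' := by
    intro s _ u hu u' hu' h h'
    have := dirGp_inf hZY.symm (mul_mem (inv_mem hu) hu') (by
      have := mul_mem (inv_mem h) h'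
      rwa [show (s * u)⁻¹ * (s * u') = u⁻¹ * u' by group] at this)
    exact inv_mul_eq_one.1 this
  have hex : ∀ s : H, ∃ u : G, u ∈ dirGp G a Y ∧ (s : G) * u ∈ dirGp G a Z := by
    choose p hp q hq hpq using hprod
    let f : dirGp G a Z → H := fun z => ⟨p z z.2.1, hp z z.2.1⟩
    have finj : Function.Injective f := by
      intro z z' h
      have h' : p z z.2.1 = p z' z'.2.1 := congrArg Subtype.val h
      refine Subtype.ext ?_
      rw [← hpq z z.2.1, ← hpq z' z'.2.1, h']
      congr 1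
      exact huniq _ (hp z' z'.2.1) _ (hq z z.2.1) _ (hq z' z'.2.1) (by rw [← h', hpq]; exact z.2)
        (by rw [hpq]; exact z'.2)
    have fbij := finj.bijective_of_nat_card_le (by rw [hE.dir a X hX, hE.dir a Z hZ])
    intro s
    obtain ⟨z, hz⟩ := fbij.2 s
    exact ⟨q z z.2.1, hq z z.2.1, by rw [← congrArg Subtype.val hz, hpq]; exact z.2⟩
  choose ι hιY hιZ using hex
  have hιmul : ∀ s t : H, ι (s * t) = ι s * ι t := by
    intro s t
    refine huniq _ (s * t).2 _ (hιY _) _ (mul_mem (hιY s) (hιY t)) (hιZ _) ?_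
    have := mul_mem (hιZ s) (hιZ t)
    rwa [show (s : G) * ι s * (t * ι t) = (s * t : H) * (ι s * ι t) by
      rw [Subgroup.coe_mul]
      simp only [mul_assoc]
      rw [← mul_assoc (ι s), hE.comm a _ (hιY s).1 _ t.2.1, mul_assoc]] at this
  have hι1 : ι 1 = 1 := by
    have h := hιmul 1 1
    rw [one_mul] at h
    exact left_eq_mul.1 h
  have hιinj : ∀ s, ι s = 1 → s = 1 := by
    intro s h
    have := hιZ s
    rw [h, mul_one] at this
    exact Subtype.ext (dirGp_inf hZX.symm s.2 this)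
  let toT : Additive H × Additive H → G := fun v => (v.1.toMul : G) * ι v.2.toMul
  have toTinj : Function.Injective toT := by
    rintro ⟨x, y⟩ ⟨x', y'⟩ h
    simp only [toT] at h
    have h1 : ((x'.toMul : G))⁻¹ * x.toMul = ι y'.toMul * (ι y.toMul)⁻¹ := by
      rw [inv_mul_eq_iff_eq_mul, ← mul_assoc, ← h, mul_inv_cancel_right]
    have h2 := dirGp_inf hYX.symm (mul_mem (inv_mem x'.toMul.2) x.toMul.2)
      (h1 ▸ mul_mem (hιY _) (inv_mem (hιY _)))
    have hx : x = x' := Subtype.ext (inv_mul_eq_one.1 h2).symm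
    subst hx
    have hy : ι y.toMul = ι y'.toMul := mul_left_cancel h
    refine Prod.ext rfl ?_
    have : y.toMul * (y'.toMul)⁻¹ = 1 := hιinj _ (by
      have h3 := hιmul (y.toMul * (y'.toMul)⁻¹) y'.toMul
      rw [inv_mul_cancel_right, hy] at h3
      exact right_eq_mul.1 h3)
    exact Additive.toMul.injective (mul_inv_eq_one.1 this)
  have toTfst : ∀ v, toT v ∈ dirGp G a X ↔ v.2 = 0 := by
    intro v
    constructor
    · intro h
      have h1 : ι v.2.toMul ∈ dirGp G a X := by
        have := mul_mem (inv_mem v.1.toMul.2) h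
        rwa [inv_mul_cancel_left] at this
      exact hιinj _ (dirGp_inf hYX.symm h1 (hιY _))
    · intro h
      show (v.1.toMul : G) * ι v.2.toMul ∈ _
      rw [h, show (0 : Additive H).toMul = 1 from rfl, hι1, mul_one]
      exact v.1.toMul.2
  have toTsnd : ∀ v, toT v ∈ dirGp G a Y ↔ v.1 = 0 := by
    intro v
    constructor
    · intro h
      have h1 : (v.1.toMul : G) ∈ dirGp G a Y := by
        have := mul_mem h (inv_mem (hιY v.2.toMul))
        rwa [mul_inv_cancel_right] at this
      exact Subtype.ext (dirGp_inf hYX.symm v.1.toMul.2 h1)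
    · intro h
      show (v.1.toMul : G) * ι v.2.toMul ∈ _
      rw [h, show (0 : Additive H).toMul = 1 from rfl, Subgroup.coe_one, one_mul]
      exact hιY _
  have toTcard : Nat.card (Additive H) = n := hE.dir a X hX
  let F : Frame G a O X Y (Additive H) :=
    { toT := toT
      map_add := fun u v => by
        show ((u.1.toMul * v.1.toMul : H) : G) * ι (u.2.toMul * v.2.toMul) = _
        rw [Subgroup.coe_mul, hιmul]
        simp only [toT, mul_assoc]
        rw [← mul_assoc (ι u.2.toMul) (v.1.toMul : G), hE.comm a _ (hιY _).1 _ v.1.toMul.2.1, mul_assoc]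
      mem := fun v => mul_mem v.1.toMul.2.1 (hιY _).1
      inj := toTinj
      surj := by
        have hsub : Set.range toT ⊆ (elA G P a : Set G) := by
          rintro t ⟨v, rfl⟩; exact mul_mem v.1.toMul.2.1 (hιY _).1
        have heq := Set.eq_of_subset_of_ncard_le hsub (by
          rw [Set.ncard_range_of_injective toTinj, Nat.card_prod, toTcard, hn, ← sq, ← hE.full a,
            ← Nat.card_coe_set_eq]
          rfl) (Set.toFinite _)
        exact fun t ht => heq.ge ht
      fst := toTfst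
      snd := toTsnd
      hO := hO
      hX := hX
      hY := hY
      hXY := hYX.symm }
  have hdiag : ∀ v : Additive H × Additive H, F.toT v ∈ dirGp G a Z ↔ v.2 = v.1 := by
    intro v
    constructor
    · intro h
      have h1 := huniq _ v.1.toMul.2 _ (hιY v.2.toMul) _ (hιY v.1.toMul) h (hιZ _)
      have h3 := hιmul (v.2.toMul * (v.1.toMul)⁻¹) v.1.toMul
      rw [inv_mul_cancel_right, h1] at h3
      exact Additive.toMul.injective (mul_inv_eq_one.1 (hιinj _ (right_eq_mul.1 h3)))
    · intro h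
      show (v.1.toMul : G) * ι v.2.toMul ∈ _
      rw [h]
      exact hιZ _
  refine ⟨a, O, X, Y, H, inferInstance, F, ?_, ⟨Z, hZ, hZY, hdiag⟩, ⟨Z, hZ, hZX, fun v => ?_⟩⟩
  · rw [← Finite.one_lt_card_iff_nontrivial, toTcard]
    omega
  · exact (hdiag (v.2, v.1)).trans eq_comm

end Cfsg.Agent.CG26.OW
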