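import Cfsg.Agent.CG26.OW.NoPersp

/-!
# Ostrom-Wagner: planes of odd order with many involutory homologies
-/

set_option autoImplicit false
set_option linter.unusedSectionVars false

namespace Cfsg.Agent.CG26.OW

open Configuration

variable {G P L : Type*} [Membership P L] [ProjectivePlane P L] [Group G] [Finite G]
  [MulAction G P] [MulAction G L] [PlaneAction G P L] [Finite P] [Finite L] [FaithfulSMul G P]

/-- `g` is an involutory homology with centre `C` and axis `a`. -/
def InvHom (g : G) (C : P) (a : L) : Prop :=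
  g ≠ 1 ∧ g * g = 1 ∧ C ∉ a ∧ IsCentre L g C ∧ IsAxis P g a

theorem InvHom.mem_homAxes {g : G} {C : P} {a : L} (h : InvHom g C a) : a ∈ homAxes G L C :=
  ⟨h.2.2.1, g, h.1, h.2.2.2.1, h.2.2.2.2⟩

theorem InvHom.conj {g : G} {C : P} {a : L} (h : InvHom g C a) (u : G) :
    InvHom (u * g * u⁻¹) (u • C) (u • a) := by
  obtain ⟨h1, h2, h3, h4, h5⟩ := h
  refine ⟨fun e => h1 (conj_eq_one_iff.1 e), ?_, fun hm => h3 ((PlaneAction.smul_mem_smul u C a).1 hm),
    h4.conj u, h5.conj u⟩
  calc u * g * u⁻¹ * (u * g * u⁻¹) = u * (g * g) * u⁻¹ := by group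
    _ = 1 := by rw [h2]; group

theorem InvHom.smul_smul {g : G} {C : P} {a : L} (h : InvHom g C a) (p : P) : g • g • p = p := by
  rw [← mul_smul, h.2.1, one_smul]

theorem InvHom.fixed_cases {g : G} {C : P} {a : L} (h : InvHom g C a) {p : P} (hp : g • p = p) :
    p ∈ a ∨ p = C :=
  fixed_point_cases h.1 h.2.2.2.2 h.2.2.2.1 hp

variable (G) in
/-- `a` is the axis of an involutory homology. -/
def IsInvAxis (P : Type*) {L : Type*} [Membership P L] [MulAction G P] [MulAction G L] (a : L) :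
    Prop := ∃ (g : G) (C : P), InvHom g C a

omit [FaithfulSMul G P] in
theorem ncard_mod_two_fixed {g : G} (h2 : ∀ p : P, g • g • p = p) {s : Set P}
    (hs : ∀ p ∈ s, g • p ∈ s) : s.ncard % 2 = (s ∩ {p | g • p = p}).ncard % 2 := by
  classical
  cases nonempty_fintype P
  have : Fact (Nat.Prime 2) := ⟨Nat.prime_two⟩
  let σ : Equiv.Perm s :=
    { toFun := fun p => ⟨g • (p : P), hs p p.2⟩
      invFun := fun p => ⟨g • (p : P), hs p p.2⟩
      left_inv := fun p => Subtype.ext (h2 p)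
      right_inv := fun p => Subtype.ext (h2 p) }
  have hσ : σ ^ 2 ^ 1 = 1 := by
    rw [pow_one, sq]; exact Equiv.ext fun p => Subtype.ext (h2 p)
  have h := Equiv.Perm.card_compl_support_modEq hσ
  have e1 : Fintype.card s = s.ncard := by rw [← Nat.card_coe_set_eq, Nat.card_eq_fintype_card]
  have e2 : σ.supportᶜ.card = (s ∩ {p | g • p = p}).ncard := by
    rw [← Nat.card_coe_set_eq, ← Nat.card_eq_finsetCard]
    exact Nat.card_congr
      { toFun := fun p => ⟨(p.1 : P), p.1.2, congrArg Subtype.val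
          (Equiv.Perm.notMem_support.1 (Finset.mem_compl.1 p.2))⟩
        invFun := fun p => ⟨⟨p.1, p.2.1⟩, Finset.mem_compl.2
          (Equiv.Perm.notMem_support.2 (Subtype.ext p.2.2))⟩
        left_inv := fun _ => rfl
        right_inv := fun _ => rfl }
  rw [e1, e2] at h
  exact h.symm

theorem caseI_structure (hodd : Odd (ProjectivePlane.order P L))
    (hP : ∀ A C : P, ∃ (g : G) (C₀ : P) (a₀ : L), InvHom g C₀ a₀ ∧ g • A = A ∧ g • C = C)
    {b : L} (hb : ¬ IsInvAxis G P b) :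
    (∃ p x : ℕ, p.Prime ∧ ProjectivePlane.order P L = p ^ x) ∨
      ∃ X : P, X ∉ b ∧ (∀ C ∈ {q : P | q ∈ b}, ∀ c ∈ homAxes G L C, X ∈ c) ∧
        ∀ m : L, X ∈ m → ∃ C : P, C ∈ b ∧ C ∈ m ∧ homCentres G P m = {q : P | q ∈ b ∧ q ≠ C} := by
  classical
  cases nonempty_fintype P
  set k := ProjectivePlane.order P L with hk
  have hk2 : 2 ≤ k := two_le_order P L
  -- the homology of a pair of points on `b`
  have pair : ∀ A C : P, A ∈ b → C ∈ b → A ≠ C → ∃ (g : G) (C₀ : P) (a : L), InvHom g C₀ a ∧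
      g • b = b ∧ g • A = A ∧ g • C = C ∧ (∀ p : P, p ∈ b → g • p = p → p = A ∨ p = C) ∧
      (C₀ = A ∧ C ∈ a ∨ C₀ = C ∧ A ∈ a) := by
    intro A C hA hC hAC
    obtain ⟨g, C₀, a, hg, gA, gC⟩ := hP A C
    have gb : g • b = b := fix_line hAC hA hC gA gC
    have hab : a ≠ b := fun e => hb ⟨g, C₀, e ▸ hg⟩
    have hC₀b : C₀ ∈ b := (fixed_line_cases hg.1 hg.2.2.2.2 hg.2.2.2.1 gb).resolve_right hab.symm
    obtain ⟨Z, hZa, hZb⟩ := exists_meet P a b
    have hfix : ∀ p : P, p ∈ b → g • p = p → p = Z ∨ p = C₀ := fun p hp hgp =>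
      (hg.fixed_cases hgp).imp (fun hpa => point_eq hab hpa hp hZa hZb) id
    refine ⟨g, C₀, a, hg, gb, gA, gC, ?_⟩
    rcases hfix A hA gA with hAZ | hA0 <;> rcases hfix C hC gC with hCZ | hC0
    · exact absurd (hAZ.trans hCZ.symm) hAC
    · subst hAZ; subst hC0
      exact ⟨hfix, Or.inr ⟨rfl, hZa⟩⟩
    · subst hA0; subst hCZ
      exact ⟨fun p hp hgp => (hfix p hp hgp).symm, Or.inl ⟨rfl, hZa⟩⟩
    · exact absurd (hA0.trans hC0.symm) hAC
  -- transitivity on `b`
  set H := MulAction.stabilizer G b with hH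
  have orbsub : ∀ A : P, A ∈ b → orb H A ⊆ {q : P | q ∈ b} := by
    rintro A hA p ⟨u, hu, rfl⟩; exact (mem_of_fixed hu hA : u • A ∈ b)
  have orbinv : ∀ (A : P), ∀ u ∈ H, ∀ p ∈ orb H A, u • p ∈ orb H A := by
    rintro A u hu p ⟨w, hw, rfl⟩; exact ⟨u * w, H.mul_mem hu hw, mul_smul u w A⟩
  have single : ∀ A C : P, A ∈ b → C ∈ b → C ∉ orb H A → orb H A = {A} := by
    intro A C hA hC hno
    by_contra hne
    obtain ⟨A', hA', hA'A⟩ : ∃ A' ∈ orb H A, A' ≠ A := by
      by_contra hc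
      push_neg at hc
      exact hne (Set.eq_singleton_iff_unique_mem.2 ⟨self_mem_orb H A, hc⟩)
    have hAC : A ≠ C := fun e => hno (e ▸ self_mem_orb H A)
    obtain ⟨g, C₀, a, hg, gb, gA, gC, hfix, -⟩ := pair A C hA hC hAC
    have h1 := ncard_mod_two_fixed hg.smul_smul fun p hp => orbinv A g gb p hp
    have e1 : orb H A ∩ {p | g • p = p} = {A} := by
      ext p
      constructor
      · rintro ⟨hp, hgp⟩
        rcases hfix p (orbsub A hA hp) hgp with h | h
        · exact h
        · exact absurd (h ▸ hp) hno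
      · rintro rfl; exact ⟨self_mem_orb H _, gA⟩
    obtain ⟨g', C₀', a', hg', gb', gA', gA'', hfix', -⟩ := pair A A' hA (orbsub A hA hA') hA'A.symm
    have h2 := ncard_mod_two_fixed hg'.smul_smul fun p hp => orbinv A g' gb' p hp
    have e2 : orb H A ∩ {p | g' • p = p} = {A, A'} := by
      ext p
      constructor
      · rintro ⟨hp, hgp⟩; exact hfix' p (orbsub A hA hp) hgp
      · rintro (rfl | rfl)
        · exact ⟨self_mem_orb H _, gA'⟩
        · exact ⟨hA', gA''⟩
    rw [e1, Set.ncard_singleton] at h1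
    rw [e2, Set.ncard_pair hA'A.symm] at h2
    omega
  have trans : ∀ A C : P, A ∈ b → C ∈ b → C ∈ orb H A := by
    intro A C hA hC
    by_contra hno
    obtain ⟨B, hB, hBA, hBC⟩ := exists_mem_ne₂ P b A C
    have hBno : B ∉ orb H A := by rw [single A C hA hC hno]; exact hBA
    have hAno : A ∉ orb H B := fun ⟨u, hu, e⟩ =>
      hBno ⟨u⁻¹, H.inv_mem hu, by rw [← e, inv_smul_smul]⟩
    obtain ⟨g, C₀, a, hg, gb, gA, gC, hfix, -⟩ :=
      pair A C hA hC fun e => hno (e ▸ self_mem_orb H A)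
    have hgB : g • B = B := by
      have hmem : g • B ∈ orb H B := ⟨g, gb, rfl⟩
      rw [single B A hB hA hAno] at hmem
      exact hmem
    rcases hfix B hB hgB with h | h
    · exact hBA h
    · exact hBC h
  obtain ⟨C₁, hC₁, -⟩ := exists_mem_ne P b (Classical.choose (exists_not_mem P b))
  have hcentres : ∀ C : P, C ∈ b → (homAxes G L C).Nonempty := by
    obtain ⟨A, hA, hAC⟩ := exists_mem_ne P b C₁
    obtain ⟨g, C₀, a, hg, -, -, -, -, hc⟩ := pair A C₁ hA hC₁ hAC
    have hC₀b : C₀ ∈ b := by rcases hc with ⟨h, -⟩ | ⟨h, -⟩ <;> rw [h] <;> assumption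
    intro C hC
    obtain ⟨u, -, hu⟩ := trans C₀ C hC₀b hC
    exact ⟨u • a, hu ▸ homAxes_smul hg.mem_homAxes u⟩
  by_cases hel : ∃ e ∈ elA G P b, e ≠ 1
  · left
    obtain ⟨e, he, he1⟩ := hel
    obtain ⟨X, hX, heX⟩ := he.2
    refine order_prime_pow_of_directions (G := G) (a := b) fun Y hY hbot => he1 ?_
    obtain ⟨u, hu, huY⟩ := trans Y X hY hX
    have hcard := natCard_dirGp_smul (G := G) b Y u
    rw [huY, show u • b = b from hu, hbot, Subgroup.card_bot] at hcard
    have : dirGp G b X = ⊥ := Subgroup.eq_bot_of_card_eq _ hcard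
    have hmem : e ∈ dirGp G b X := mem_dirGp.2 ⟨he, heX⟩
    rwa [this, Subgroup.mem_bot] at hmem
  push_neg at hel
  -- the number of elations with a given centre
  set e := Nat.card (elC G L C₁) with he
  have hconst : ∀ C : P, C ∈ b → Nat.card (elC G L C) = e := by
    intro C hC
    obtain ⟨u, -, hu⟩ := trans C₁ C hC₁ hC
    rw [← hu, natCard_elC_smul]
  let M : P → Set P := fun C => {C' : P | C' ∈ b ∧ ∃ c ∈ homAxes G L C, C' ∈ c}
  have elfix : ∀ C : P, C ∈ b → ∀ u ∈ elC G L C, ∀ p : P, p ∈ b → p ≠ C → u • p = p → u = 1 := by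
    intro C hC u hu p hp hpC hup
    obtain ⟨hcen, a, hCa, hua⟩ := mem_elC.1 hu
    by_cases hab : a = b
    · subst hab; exact hel u ⟨hua, C, hCa, hcen⟩
    · exact elA_fix_point ⟨hua, C, hCa, hcen⟩ (fun hpa => hpC (point_eq hab hpa hp hCa hC)) hup
  have Mcard : ∀ C : P, C ∈ b → (M C).ncard = e := by
    intro C hC
    obtain ⟨c₀, hc₀⟩ := hcentres C hC
    rw [← hconst C hC, (andre hc₀).2]
    choose f hfc hfb using fun c : L => exists_meet P c b
    have hMim : M C = f '' homAxes G L C := by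
      ext p
      constructor
      · rintro ⟨hp, c, hc, hpc⟩
        exact ⟨c, hc, point_eq (fun e' : c = b => hc.1 (e' ▸ hC)) (hfc c) (hfb c) hpc hp⟩
      · rintro ⟨c, hc, rfl⟩; exact ⟨hfb c, c, hc, hfc c⟩
    rw [hMim]
    refine Set.ncard_image_of_injOn fun c hc c' hc' hcc => ?_
    obtain ⟨u, hu, huc⟩ := (andre hc).1 c' hc'
    have hfix : u • f c = f c := by
      have h1 : u • f c ∈ c' := huc ▸ smul_mem u (hfc c)
      have hub : u • b = b := (mem_elC.1 hu).1 b hC
      have h2 : u • f c ∈ b := mem_of_fixed hub (hfb c)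
      exact point_eq (fun e' : c' = b => hc'.1 (e' ▸ hC)) h1 h2 (hcc ▸ hfc c') (hfb c)
    have hne : f c ≠ C := fun e' => hc.1 (e' ▸ hfc c)
    rw [elfix C hC u hu (f c) (hfb c) hne hfix, one_smul] at huc
    exact huc
  have hbound : k ≤ 2 * e := by
    set B := Finset.univ.filter fun q : P => q ∈ b with hB
    have hBcard : B.card = k + 1 := by
      rw [hk, ← ncard_line (P := P) b, Set.ncard_eq_toFinset_card', Set.toFinset_ofPred]
    let R : Finset (P × P) := (B ×ˢ B).filter fun x => x.2 ∈ M x.1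
    have hR : R.card = (k + 1) * e := by
      rw [Finset.card_eq_sum_card_fiberwise (f := Prod.fst) (t := B)
        (fun x hx => (Finset.mem_product.1 (Finset.mem_filter.1 hx).1).1)]
      rw [← hBcard, ← smul_eq_mul, ← Finset.sum_const]
      refine Finset.sum_congr rfl fun C hC => ?_
      have hCb : C ∈ b := (Finset.mem_filter.1 hC).2
      rw [← Mcard C hCb, Set.ncard_eq_toFinset_card']
      refine Finset.card_nbij' Prod.snd (fun p => (C, p)) ?_ ?_ ?_ ?_
      · intro x hx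
        simp only [R, Finset.coe_filter, Finset.mem_filter, Set.mem_ofPred_eq] at hx
        obtain ⟨⟨-, hxM⟩, hxC⟩ := hx
        rw [hxC] at hxM
        simpa using hxM
      · intro p hp
        have hp' : p ∈ M C := by simpa using hp
        simp [R, B, hCb, hp', hp'.1]
      · intro x hx
        simp only [Finset.coe_filter, Set.mem_ofPred_eq] at hx
        exact Prod.ext hx.2.symm rfl
      · intro p _; rfl
    have hsub : B.offDiag ⊆ R ∪ R.image Prod.swap := by
      intro x hx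
      obtain ⟨h1, h2, h3⟩ := Finset.mem_offDiag.1 hx
      have hA : x.1 ∈ b := (Finset.mem_filter.1 h1).2
      have hC : x.2 ∈ b := (Finset.mem_filter.1 h2).2
      obtain ⟨g, C₀, a, hg, -, -, -, -, ⟨rfl, hca⟩ | ⟨rfl, hca⟩⟩ := pair x.1 x.2 hA hC h3
      · exact Finset.mem_union_left _ (Finset.mem_filter.2
          ⟨Finset.mem_product.2 ⟨h1, h2⟩, hC, a, hg.mem_homAxes, hca⟩)
      · exact Finset.mem_union_right _ (Finset.mem_image.2 ⟨(x.2, x.1), Finset.mem_filter.2
          ⟨Finset.mem_product.2 ⟨h2, h1⟩, hA, a, hg.mem_homAxes, hca⟩, rfl⟩)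
    have h1 := (Finset.card_le_card hsub).trans (Finset.card_union_le _ _)
    have h2 : (R.image Prod.swap).card ≤ R.card := Finset.card_image_le
    rw [Finset.offDiag_card, hBcard, hR] at h1
    rw [hR] at h2
    have h3 : (k + 1) * (k + 1) - (k + 1) = (k + 1) * k := by
      rw [Nat.mul_succ, Nat.add_sub_cancel]
    rw [h3] at h1
    nlinarith
  have hek : e = k := by
    obtain ⟨m, hm⟩ := hodd
    have hd : e ∣ k := by
      have := card_dvd_ncard_mul (elC G L C₁) ⊥ bot_le {q : P | q ∈ b ∧ q ≠ C₁} ?_ ?_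
      · rwa [ncard_line_diff hC₁, Subgroup.card_bot, mul_one] at this
      · intro u hu q ⟨hq, hqC⟩
        refine ⟨mem_of_fixed ((mem_elC.1 hu).1 b hC₁) hq, fun e' => hqC ?_⟩
        rw [← (mem_elC.1 hu).1.fix_point, smul_left_cancel_iff] at e'
        exact e'
      · intro q ⟨hq, hqC⟩ u hu
        rw [Subgroup.mem_bot]
        exact ⟨elfix C₁ hC₁ u hu q hq hqC, fun e' => by rw [e', one_smul]⟩
    obtain ⟨r, hr⟩ := hd
    rcases Nat.lt_or_ge r 2 with h | h
    · interval_cases r <;> omega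
    · have : r = 2 := by nlinarith
      subst this
      omega
  by_cases hpp : ∃ p x : ℕ, p.Prime ∧ k = p ^ x
  · exact Or.inl hpp
  right
  -- a unique elation axis for each centre on `b`
  have huniq : ∀ C : P, C ∈ b → ∃ t : L, C ∈ t ∧ t ≠ b ∧ (∀ u ∈ elC G L C, IsAxis P u t) ∧
      ∃ u ∈ elC G L C, u ≠ 1 := by
    intro C hC
    have hne : elC G L C ≠ ⊥ := fun e' => by
      have := hconst C hC
      rw [e', Subgroup.card_bot] at this
      omega
    obtain ⟨u, hu, hu1⟩ := (elC G L C).bot_or_exists_ne_one.resolve_left hne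
    obtain ⟨hcen, t, hCt, hut⟩ := mem_elC.1 hu
    refine ⟨t, hCt, fun e' => hu1 (hel u ⟨e' ▸ hut, C, hC, hcen⟩), fun v hv => ?_, u, hu, hu1⟩
    obtain ⟨hcen', t', hCt', hvt'⟩ := mem_elC.1 hv
    by_cases hv1 : v = 1
    · rw [hv1]; exact isAxis_one t
    by_contra hno
    refine hpp ?_
    have := dualFaithful (G := G) (P := P) (L := L)
    obtain ⟨-, p, hp, hexp⟩ := elA_elementary (P := Dual L) (L := Dual P) (a := C)
      (X := t) (Y := t') hCt hCt' (fun e' : t = t' => hno (e' ▸ hvt')) hu hv hut hvt' hu1 hv1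
    obtain ⟨⟨j, hj⟩, -⟩ := exists_card_eq_prime_pow (P := Dual L) (L := Dual P) (G := G) hp hexp
    exact ⟨p, j, hp, by rw [← hek, ← hconst C hC]; exact hj⟩
  have hdata : ∀ C : P, C ∈ b → ∃ (t : L) (D : P), C ∈ t ∧ t ≠ b ∧ D ∈ t ∧ D ∉ b ∧
      (∀ u ∈ elC G L C, IsAxis P u t) ∧ (∃ u ∈ elC G L C, u ≠ 1) ∧
      homAxes G L C = {c : L | D ∈ c ∧ c ≠ t} := by
    intro C hC
    obtain ⟨t, hCt, htb, ht, hu⟩ := huniq C hC
    obtain ⟨c₀, hc₀⟩ := hcentres C hC
    obtain ⟨D, hDc, hDt⟩ := exists_meet P c₀ t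
    have hDC : D ≠ C := fun e' => hc₀.1 (e' ▸ hDc)
    refine ⟨t, D, hCt, htb, hDt, fun hDb => hDC (point_eq htb hDt hDb hCt hC), ht, hu, ?_⟩
    have hsub : homAxes G L C ⊆ {c : L | D ∈ c ∧ c ≠ t} := by
      intro c hc
      obtain ⟨u, hu, rfl⟩ := (andre hc₀).1 c hc
      exact ⟨mem_smul_of_fixed (ht u hu D hDt) hDc, fun e' => hc.1 (e' ▸ hCt)⟩
    refine Set.eq_of_subset_of_ncard_le hsub ?_ (Set.toFinite _)
    rw [ncard_pencil_diff hDt, ← (andre hc₀).2, hconst C hC, hek]
  choose t D hCt htb hDt hDb ht hu hAx using hdata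
  have key : ∀ (C : P) (hC : C ∈ b) (C' : P) (hC' : C' ∈ b), C ≠ C' → D C hC ∈ t C' hC' := by
    intro C hC C' hC' hne
    obtain ⟨c, hDc, hC'c⟩ := exists_join L (D C hC) C'
    have hc : c ∈ homAxes G L C := by
      rw [hAx C hC]
      refine ⟨hDc, fun e' => hne ?_⟩
      exact (point_eq (htb C hC) (e' ▸ hC'c) hC' (hCt C hC) hC).symm
    obtain ⟨hCc, g, hg1, hgC, hgc⟩ := hc
    obtain ⟨u, hu', hu1⟩ := hu C' hC'
    have hgC' : g • C' = C' := hgc C' hC'c
    have h1 : g * u * g⁻¹ ∈ elC G L C' := hgC' ▸ elC_conj hu' g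
    have h2 : g • t C' hC' = t C' hC' :=
      axis_unique (fun e' => hu1 (conj_eq_one_iff.1 e')) ((ht C' hC' u hu').conj g)
        (ht C' hC' _ h1)
    rcases fixed_line_cases hg1 hgc hgC h2 with h | h
    · exact absurd (line_eq hne h (hCt C' hC') hC hC') (htb C' hC')
    · exact h ▸ hDc
  have hDeq : ∀ (C : P) (hC : C ∈ b) (C' : P) (hC' : C' ∈ b), D C hC = D C' hC' := by
    intro C hC C' hC'
    by_cases hne : C = C'
    · subst hne; rfl
    refine point_eq (l := t C hC) (m := t C' hC') (fun e' => htb C hC ?_) (hDt C hC) (key C hC C' hC' hne)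
      (key C' hC' C hC (Ne.symm hne)) (hDt C' hC')
    exact line_eq hne (hCt C hC) (e' ▸ hCt C' hC') hC hC'
  refine ⟨D C₁ hC₁, hDb C₁ hC₁, fun C hC c hc => ?_, fun m hm => ?_⟩
  · rw [hAx C hC] at hc
    exact hDeq C hC C₁ hC₁ ▸ hc.1
  · obtain ⟨C, hCm, hCb⟩ := exists_meet P m b
    refine ⟨C, hCb, hCm, ?_⟩
    have hXC : D C₁ hC₁ ≠ C := fun e' => hDb C₁ hC₁ (e' ▸ hCb)
    have hmt : m = t C hCb :=
      line_eq hXC hm hCm (hDeq C hCb C₁ hC₁ ▸ hDt C hCb) (hCt C hCb)
    have hsub : {q : P | q ∈ b ∧ q ≠ C} ⊆ homCentres G P m := by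
      intro q ⟨hq, hqC⟩
      refine homAxes_iff_homCentres.1 ?_
      rw [hAx q hq]
      refine ⟨hDeq q hq C₁ hC₁ ▸ hm, fun e' => hqC ?_⟩
      exact (point_eq (htb q hq) (e' ▸ hCm) hCb (hCt q hq) hq).symm
    refine Set.Subset.antisymm (fun Z hZ => ?_) hsub
    by_contra hZ'
    refine hpp ?_
    -- a second direction on the axis `m`
    have hle : elC G L C ≤ elA G P m := fun u hu => by
      have := ht C hCb u hu
      rw [← hmt] at this
      exact ⟨this, C, hCm, (mem_elC.1 hu).1⟩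
    have hlt : k + 1 ≤ Nat.card (elA G P m) := by
      rw [(andre_dual hZ).2, hk, ← ncard_line_diff (P := P) hCb]
      have h1 : insert Z {q : P | q ∈ b ∧ q ≠ C} ⊆ homCentres G P m :=
        Set.insert_subset hZ hsub
      have := Set.ncard_le_ncard h1 (Set.toFinite _)
      rwa [Set.ncard_insert_of_notMem hZ' (Set.toFinite _)] at this
    obtain ⟨v, hv, hvC⟩ : ∃ v ∈ elA G P m, v ∉ elC G L C := by
      by_contra hc
      push_neg at hc
      have := Subgroup.card_le_of_le (hc : elA G P m ≤ elC G L C)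
      rw [hconst C hCb, hek] at this
      omega
    obtain ⟨W, hW, hvW⟩ := hv.2
    obtain ⟨u, hu', hu1⟩ := hu C hCb
    obtain ⟨-, p, hp, hexp⟩ := elA_elementary hW hCm
      (fun e' : W = C => hvC (mem_elC.2 ⟨e' ▸ hvW, m, hCm, hv.1⟩)) hv (hle hu') hvW
      (mem_elC.1 hu').1 (fun e' => hvC (e' ▸ one_mem _)) hu1
    have := Fact.mk hp
    obtain ⟨j, hj⟩ := IsPGroup.iff_card.1 (show IsPGroup p (elC G L C) from fun w =>
      ⟨1, Subtype.ext (by rw [pow_one]; exact hexp w.1 (hle w.2))⟩)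
    exact ⟨p, j, hp, by rw [← hek, ← hconst C hCb]; exact hj⟩

/-- Case I: some line is not an involutory axis. -/
theorem caseI (hodd : Odd (ProjectivePlane.order P L))
    (hP : ∀ A C : P, ∃ (g : G) (C₀ : P) (a₀ : L), InvHom g C₀ a₀ ∧ g • A = A ∧ g • C = C)
    {b : L} (hb : ¬ IsInvAxis G P b) :
    ∃ p x : ℕ, p.Prime ∧ ProjectivePlane.order P L = p ^ x := by
  classical
  by_contra hpp
  obtain ⟨X, hXb, hAxes, hLines⟩ := (caseI_structure hodd hP hb).resolve_left hpp
  have huniq : ∀ b' : L, ¬ IsInvAxis G P b' → b' = b := by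
    intro b' hb'
    obtain ⟨X', hX'b, -, hLines'⟩ := (caseI_structure hodd hP hb').resolve_left hpp
    obtain ⟨m, hXm, hX'm⟩ := exists_join L X X'
    obtain ⟨C, hC, -, e1⟩ := hLines m hXm
    obtain ⟨C', hC', -, e2⟩ := hLines' m hX'm
    have hk2 := two_le_order P L
    rw [e1] at e2
    obtain ⟨p, q, hp, hq, hpq⟩ := (Set.one_lt_ncard_iff (Set.toFinite _)).1
      (show 1 < {q : P | q ∈ b ∧ q ≠ C}.ncard by rw [ncard_line_diff hC]; omega)
    exact line_eq hpq (e2 ▸ hp).1 (e2 ▸ hq).1 hp.1 hq.1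
  -- a further line off `X`
  obtain ⟨a, haX, hab⟩ := Set.exists_ne_of_one_lt_ncard (s := {l : L | X ∉ l})
    (by rw [ncard_lines_off]; exact Nat.one_lt_pow (by norm_num) (two_le_order P L)) b
  have haxis : IsInvAxis G P a := by
    by_contra hno; exact hab (huniq a hno)
  obtain ⟨g, C, hg⟩ := haxis
  have gb : g • b = b := by
    refine huniq _ fun ⟨u, D, hu⟩ => hb ⟨g⁻¹ * u * g⁻¹⁻¹, g⁻¹ • D, ?_⟩
    have := hu.conj g⁻¹
    rwa [inv_smul_smul] at this
  have hCb : C ∈ b := (fixed_line_cases hg.1 hg.2.2.2.2 hg.2.2.2.1 gb).resolve_right hab.symm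
  exact haX (hAxes C hCb a hg.mem_homAxes)

/-- If all points and lines are centres and axes of involutory homologies there is an elation: otherwise$
the homologies define a polarity without absolute points. -/
theorem exists_elation (hodd : Odd (ProjectivePlane.order P L))
    (hA : ∀ a : L, IsInvAxis G P a) (hC : ∀ C : P, ∃ (g : G) (a : L), InvHom g C a) :
    ∃ (a : L) (u : G), u ≠ 1 ∧ u ∈ elA G P a := by
  classical
  by_contra hno
  push_neg at hno
  cases nonempty_fintype P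
  cases nonempty_fintype L
  have hEA : ∀ a : L, elA G P a = ⊥ := fun a =>
    (Subgroup.eq_bot_iff_forall _).2 fun u hu => by_contra fun h1 => hno a u h1 hu
  have hEC : ∀ C : P, elC G L C = ⊥ := fun C =>
    (Subgroup.eq_bot_iff_forall _).2 fun u hu => by_contra fun h1 => by
      obtain ⟨hcen, a, hCa, hua⟩ := mem_elC.1 hu
      exact hno a u h1 ⟨hua, C, hCa, hcen⟩
  choose g α hα using hC
  have uniq : ∀ C : P, ∀ c ∈ homAxes G L C, c = α C := by
    intro C c hc
    obtain ⟨u, hu, huc⟩ := (andre (hα C).mem_homAxes).1 c hc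
    rw [hEC C, Subgroup.mem_bot] at hu
    rw [← huc, hu, one_smul]
  have inj : Function.Injective α := by
    intro C D hCD
    have h1 : C ∈ homCentres G P (α C) := homAxes_iff_homCentres.1 (hα C).mem_homAxes
    have h2 : D ∈ homCentres G P (α C) := hCD ▸ homAxes_iff_homCentres.1 (hα D).mem_homAxes
    obtain ⟨u, hu, huc⟩ := (andre_dual h1).1 D h2
    rw [hEA, Subgroup.mem_bot] at hu
    rw [← huc, hu, one_smul]
  have sym : ∀ A C : P, C ∈ α A → A ∈ α C := by
    intro A C h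
    have hAC : A ≠ C := fun e => (hα A).2.2.1 (e ▸ h)
    have hfix : g A • C = C := (hα A).2.2.2.2 C h
    have h1 : g A • α C = α C := by
      have := uniq _ _ (homAxes_smul (hα C).mem_homAxes (g A))
      rwa [hfix] at this
    exact (fixed_line_cases (hα A).1 (hα A).2.2.2.2 (hα A).2.2.2.1 h1).resolve_right
      fun e => hAC (inj e).symm
  set k := ProjectivePlane.order P L with hk
  have hk2 : 2 ≤ k := two_le_order P L
  set p := k.minFac with hp
  have := Fact.mk (Nat.minFac_prime (by omega : k ≠ 1))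
  have hk0 : (k : ZMod p) = 0 := (CharP.cast_eq_zero_iff (ZMod p) p k).2 (Nat.minFac_dvd k)
  let M : Matrix P P (ZMod p) := Matrix.of fun i j => if i ∈ α j then 1 else 0
  let J : Matrix P P (ZMod p) := Matrix.of fun _ _ => 1
  have hMM : M * M = J := by
    ext i j
    simp only [Matrix.mul_apply, M, J, Matrix.of_apply, ite_mul, one_mul, zero_mul, ← ite_and]
    rw [Finset.sum_boole, ← Set.toFinset_ofPred, ← Set.ncard_eq_toFinset_card']
    have hset : {r : P | i ∈ α r ∧ r ∈ α j} = {r : P | r ∈ α i ∧ r ∈ α j} := by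
      ext r; exact ⟨fun h => ⟨sym r i h.1, h.2⟩, fun h => ⟨sym i r h.1, h.2⟩⟩
    rw [hset]
    by_cases hij : i = j
    · subst hij
      simp only [and_self]
      rw [ncard_line, ← hk]
      push_cast
      rw [hk0, zero_add]
    · obtain ⟨r, h1, h2⟩ := exists_meet P (α i) (α j)
      have : {r : P | r ∈ α i ∧ r ∈ α j} = {r} := by
        ext q
        refine ⟨fun hq => point_eq (fun e => hij (inj e)) hq.1 hq.2 h1 h2, ?_⟩
        rintro rfl; exact ⟨h1, h2⟩
      rw [this, Set.ncard_singleton, Nat.cast_one]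
  have hMJ : M * J = J := by
    ext i j
    simp only [Matrix.mul_apply, M, J, Matrix.of_apply, mul_one]
    rw [Finset.sum_boole, ← Set.toFinset_ofPred, ← Set.ncard_eq_toFinset_card']
    have hset : {r : P | i ∈ α r} = {r : P | r ∈ α i} := by
      ext r; exact ⟨sym r i, sym i r⟩
    rw [hset, ncard_line, ← hk]
    push_cast
    rw [hk0, zero_add]
  have hpow : ∀ m : ℕ, M ^ (m + 2) = J := by
    intro m
    induction m with
    | zero => rw [zero_add, sq, hMM]
    | succ m IH => rw [show m + 1 + 2 = (m + 2) + 1 by omega, pow_succ', IH, hMJ]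
  have htr := ZMod.trace_pow_card M
  have hp2 : 2 ≤ p := (Fact.out : p.Prime).two_le
  have hMp : M ^ p = J := by
    have := hpow (p - 2)
    rwa [Nat.sub_add_cancel hp2] at this
  rw [hMp] at htr
  have htM : M.trace = 0 := Finset.sum_eq_zero fun i _ => by
    simp [M, Matrix.diag, (hα i).2.2.1]
  rw [htM, zero_pow (by omega)] at htr
  have htJ : J.trace = 1 := by
    simp only [Matrix.trace, Matrix.diag, J, Matrix.of_apply, Finset.sum_const, Finset.card_univ,
      nsmul_eq_mul, mul_one]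
    rw [ProjectivePlane.card_points P L, ← hk]
    push_cast
    rw [hk0]
    ring
  rw [htJ] at htr
  exact one_ne_zero htr

/-- Case II, with the largest elation group given by an axis. -/
theorem caseII_max (hA : ∀ a : L, IsInvAxis G P a) (hC : ∀ C : P, ∃ (g : G) (a : L), InvHom g C a)
    {a : L} (h1 : 1 < Nat.card (elA G P a))
    (hmaxA : ∀ b : L, Nat.card (elA G P b) ≤ Nat.card (elA G P a))
    (hmaxC : ∀ C : P, Nat.card (elC G L C) ≤ Nat.card (elA G P a)) :
    ∃ p x : ℕ, p.Prime ∧ ProjectivePlane.order P L = p ^ x := by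
  classical
  -- step (i)
  have stepI : ∀ B : P, B ∈ a → dirGp G a B = ⊥ → elC G L B = ⊥ := by
    intro B hB hbot
    by_contra hne
    obtain ⟨e, he, he1⟩ := (elC G L B).bot_or_exists_ne_one.resolve_left hne
    obtain ⟨hcen, c, hBc, hec⟩ := mem_elC.1 he
    have hca : c ≠ a := by
      intro e'
      have : e ∈ dirGp G a B := mem_dirGp.2 ⟨⟨e' ▸ hec, B, hB, hcen⟩, hcen⟩
      rw [hbot, Subgroup.mem_bot] at this
      exact he1 this
    let f : elA G P a → elC G L B := fun t => ⟨t.1 * e * t.1⁻¹, by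
      have := elC_conj he t.1
      rwa [t.2.1 B hB] at this⟩
    have finj : Function.Injective f := by
      intro t u htu
      have htu' : (t : G) * e * (t : G)⁻¹ = u * e * (u : G)⁻¹ := congrArg Subtype.val htu
      set v := (u : G)⁻¹ * t with hv
      have hve : v * e * v⁻¹ = e := by
        calc v * e * v⁻¹ = (u : G)⁻¹ * ((t : G) * e * (t : G)⁻¹) * u := by rw [hv]; group
          _ = e := by rw [htu']; group
      have hvA : v ∈ elA G P a := mul_mem (inv_mem u.2) t.2
      have hvc : v • c = c := axis_unique he1 (hve ▸ hec.conj v) hec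
      obtain ⟨Z, hZa, hvZ⟩ := hvA.2
      have hv1 : v = 1 := by
        by_contra hv1
        rcases fixed_line_cases hv1 hvA.1 hvZ hvc with h | h
        · have hZB : Z = B := point_eq hca h hZa hBc hB
          have : v ∈ dirGp G a B := mem_dirGp.2 ⟨hvA, hZB ▸ hvZ⟩
          rw [hbot, Subgroup.mem_bot] at this
          exact hv1 this
        · exact hca h
      exact Subtype.ext (inv_mul_eq_one.1 hv1).symm
    have hns : ∀ t, f t ≠ 1 := fun t e' => he1 (conj_eq_one_iff.1 (congrArg Subtype.val e'))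
    have : Nat.card (elA G P a) + 1 ≤ Nat.card (elC G L B) := by
      have h := Set.ncard_le_ncard (Set.subset_univ (insert (1 : elC G L B) (Set.range f)))
        (Set.toFinite _)
      rw [Set.ncard_insert_of_notMem (by rintro ⟨t, ht⟩; exact hns t ht) (Set.toFinite _), Set.ncard_univ,
        Set.ncard_range_of_injective finj] at h
      exact h
    have := hmaxC B
    omega
  refine order_prime_pow_of_directions (G := G) (a := a) fun B hB hbot => ?_
  obtain ⟨g₀, A₀, hA₀⟩ := hA a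
  have hA₀' : A₀ ∈ homCentres G P a := homAxes_iff_homCentres.1 hA₀.mem_homAxes
  have hcard : (homCentres G P a).ncard = Nat.card (elA G P a) := (andre_dual hA₀').2.symm
  obtain ⟨A₁, A₂, hA₁, hA₂, hA12⟩ :=
    (Set.one_lt_ncard_iff (Set.toFinite _)).1 (hcard.symm ▸ h1 : 1 < (homCentres G P a).ncard)
  -- the single direction
  have hBE := stepI B hB hbot
  obtain ⟨h₀, b, hb⟩ := hC B
  have huniq : ∀ c ∈ homAxes G L B, c = b := by
    intro c hc
    obtain ⟨u, hu, huc⟩ := (andre hb.mem_homAxes).1 c hc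
    rw [hBE, Subgroup.mem_bot] at hu
    rw [← huc, hu, one_smul]
  have hba : b ≠ a := fun e => hb.2.2.1 (e ▸ hB)
  obtain ⟨X, hXa, hXb⟩ := exists_meet P a b
  have hTX : ∀ t ∈ elA G P a, IsCentre L t X := by
    intro t ht
    have htb : t • b = b := huniq _ (by
      have := homAxes_smul hb.mem_homAxes t
      rwa [ht.1 B hB] at this)
    obtain ⟨Z, hZa, htZ⟩ := ht.2
    by_cases ht1 : t = 1
    · rw [ht1]; exact isCentre_one X
    rcases fixed_line_cases ht1 ht.1 htZ htb with h | h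
    · rwa [point_eq hba.symm hXa hXb hZa h]
    · exact absurd h hba
  -- centres of homologies with axis `a` lie on the axis of each `B'`
  have hsub : ∀ B' : P, B' ∈ a → B' ≠ X → ∃ b' : L, b' ∈ homAxes G L B' ∧ homCentres G P a ⊆ {q : P | q ∈ b'} := by
    intro B' hB' hB'X
    obtain ⟨g, b', hg⟩ := hC B'
    refine ⟨b', hg.mem_homAxes, fun A hA => ?_⟩
    have hga : g • a = a := hg.2.2.2.1 a hB'
    have hgA : g • A ∈ homCentres G P a := by
      obtain ⟨hAa, w, hw1, hw2, hw3⟩ := hA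
      refine ⟨fun hm => hAa ?_, g * w * g⁻¹, fun e => hw1 (conj_eq_one_iff.1 e), hga ▸ hw2.conj g,
        hw3.conj g⟩
      rw [← hga] at hm
      exact (PlaneAction.smul_mem_smul g A a).1 hm
    by_contra hAb
    have hne : g • A ≠ A := by
      intro e
      rcases hg.fixed_cases e with h | h
      · exact hAb h
      · exact hA.1 (h ▸ hB')
    obtain ⟨t, ht, htA⟩ := (andre_dual hA).1 _ hgA
    obtain ⟨m, hAm, hXm⟩ := exists_join L A X
    obtain ⟨m', hAm', hBm'⟩ := exists_join L A B'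
    have e1 : g • A ∈ m := htA ▸ mem_of_fixed (hTX t ht m hXm) hAm
    have e2 : g • A ∈ m' := mem_of_fixed (hg.2.2.2.1 m' hBm') hAm'
    have hmm : m = m' := line_eq hne e1 hAm e2 hAm'
    subst hmm
    exact hA.1 (line_eq hB'X hBm' hXm hB' hXa ▸ hAm)
  have hBX : B ≠ X := fun e => hb.2.2.1 (e ▸ hXb)
  have hA12b : A₁ ∈ b ∧ A₂ ∈ b := by
    obtain ⟨b', hb', hs⟩ := hsub B hB hBX
    rw [huniq b' hb'] at hs
    exact ⟨hs hA₁, hs hA₂⟩
  have hcen : ∀ B' : P, B' ∈ a → B' ≠ X → B' ∈ homCentres G P b := by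
    intro B' hB' hB'X
    obtain ⟨b', hb', hs⟩ := hsub B' hB' hB'X
    have : b' = b := line_eq hA12 (hs hA₁) (hs hA₂) hA12b.1 hA12b.2
    exact this ▸ homAxes_iff_homCentres.1 hb'
  obtain ⟨B', hB', hB'B, hB'X⟩ := exists_mem_ne₂ P a B X
  obtain ⟨t, ht, htB⟩ := (andre_dual (hcen B hB hBX)).1 B' (hcen B' hB' hB'X)
  obtain ⟨Z, hZb, htZ⟩ := ht.2
  have ht1 : t ≠ 1 := fun e => hB'B (by rw [← htB, e, one_smul])
  have htX : IsCentre L t X := by
    obtain ⟨m, hZm, hBm⟩ := exists_join L Z B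
    have hB'm : B' ∈ m := htB ▸ mem_of_fixed (htZ m hZm) hBm
    have hma : m = a := line_eq hB'B hB'm hBm hB' hB
    rwa [point_eq hba.symm hXa hXb (hma ▸ hZm) hZb]
  have hle : elA G P a ≤ elC G L X := fun u hu => mem_elC.2 ⟨hTX u hu, a, hXa, hu.1⟩
  have htC : t ∈ elC G L X := mem_elC.2 ⟨htX, b, hXb, ht.1⟩
  have htA : t ∉ elA G P a := fun h => hba (axis_unique ht1 ht.1 h.1)
  have : Nat.card (elA G P a) < Nat.card (elC G L X) := by
    by_contra hge
    push_neg at hge
    exact htA ((Subgroup.eq_of_le_of_card_ge hle hge).ge htC)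
  have := hmaxC X
  omega

/-- A plane of odd order in which any two points and any two lines are fixed by an involutory
homology has prime power order. -/
theorem order_prime_pow_of_homologies (hodd : Odd (ProjectivePlane.order P L))
    (hP : ∀ A C : P, ∃ (g : G) (C₀ : P) (a₀ : L), InvHom g C₀ a₀ ∧ g • A = A ∧ g • C = C)
    (hL : ∀ a c : L, ∃ (g : G) (C₀ : P) (a₀ : L), InvHom g C₀ a₀ ∧ g • a = a ∧ g • c = c) :
    ∃ p x : ℕ, p.Prime ∧ ProjectivePlane.order P L = p ^ x := by
  classical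
  cases nonempty_fintype P
  cases nonempty_fintype L
  have := dualFaithful (G := G) (P := P) (L := L)
  have hod : Odd (ProjectivePlane.order (Dual L) (Dual P)) := by
    rw [ProjectivePlane.Dual.order]; exact hodd
  have dualInv : ∀ (g : G) (C : P) (a : L), InvHom g C a →
      InvHom (P := Dual L) (L := Dual P) g a C := fun g C a h =>
    ⟨h.1, h.2.1, h.2.2.1, h.2.2.2.2, h.2.2.2.1⟩
  by_cases hA : ∀ a : L, IsInvAxis G P a
  swap
  · push_neg at hA
    obtain ⟨b, hb⟩ := hA
    exact caseI hodd hP hb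
  by_cases hC : ∀ C : P, ∃ (g : G) (a : L), InvHom g C a
  swap
  · push_neg at hC
    obtain ⟨C, hC⟩ := hC
    obtain ⟨p, x, hp, hx⟩ := caseI (P := Dual L) (L := Dual P) (G := G) hod
      (fun a c => by
        obtain ⟨g, C₀, a₀, hg, ga, gc⟩ := hL a c
        exact ⟨g, a₀, C₀, dualInv g C₀ a₀ hg, ga, gc⟩)
      (b := C) (fun ⟨g, a, hg⟩ => hC g a ⟨hg.1, hg.2.1, hg.2.2.1, hg.2.2.2.2, hg.2.2.2.1⟩)
    exact ⟨p, x, hp, ProjectivePlane.Dual.order P L ▸ hx⟩
  obtain ⟨a₁, u₁, hu1, hu⟩ := exists_elation hodd hA hC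
  have : Nonempty L := ⟨a₁⟩
  have : Nonempty P := ⟨(exists_not_mem P a₁).choose⟩
  obtain ⟨a, -, ha⟩ := Finset.exists_max_image (Finset.univ : Finset L)
    (fun b => Nat.card (elA G P b)) Finset.univ_nonempty
  obtain ⟨C, -, hCm⟩ := Finset.exists_max_image (Finset.univ : Finset P)
    (fun D => Nat.card (elC G L D)) Finset.univ_nonempty
  have h1 : 1 < Nat.card (elA G P a) := by
    refine lt_of_lt_of_le ((Subgroup.one_lt_card_iff_ne_bot _).2 fun e => hu1 ?_) (ha a₁ (Finset.mem_univ _))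
    rw [e, Subgroup.mem_bot] at hu
    exact hu
  rcases le_total (Nat.card (elC G L C)) (Nat.card (elA G P a)) with h | h
  · exact caseII_max hA hC h1 (fun b => ha b (Finset.mem_univ _))
      fun D => (hCm D (Finset.mem_univ _)).trans h
  · obtain ⟨p, x, hp, hx⟩ := caseII_max (P := Dual L) (L := Dual P) (G := G)
      (fun D => by obtain ⟨g, c, hg⟩ := hC D; exact ⟨g, c, dualInv g D c hg⟩)
      (fun c => by obtain ⟨g, D, hg⟩ := hA c; exact ⟨g, D, dualInv g D c hg⟩)
      (a := C) (h1.trans_le h) (fun D => hCm D (Finset.mem_univ _))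
      (fun b => (ha b (Finset.mem_univ _)).trans h)
    exact ⟨p, x, hp, ProjectivePlane.Dual.order P L ▸ hx⟩

end Cfsg.Agent.CG26.OW
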