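import Cfsg.Agent.CG26.OW.Elations

/-!
# Ostrom-Wagner: involutory collineations and fixed subplanes of 2-groups
-/

set_option autoImplicit false
set_option linter.unusedSectionVars false

namespace Cfsg.Agent.CG26.OW

open Configuration

section Sub

variable {G P L : Type*} [Membership P L] [ProjectivePlane P L] [Group G]
  [MulAction G P] [MulAction G L] [PlaneAction G P L] [Finite P] [Finite L] {W : Subgroup G}

/-- The order of the fixed subplane. -/
noncomputable def subOrder (h : HasQuad L (fixSet P W)) : ℕ :=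
  @ProjectivePlane.order (FixT P W) (FixT L W) _ (fixPlane h)

theorem two_le_subOrder (h : HasQuad L (fixSet P W)) : 2 ≤ subOrder h :=
  @two_le_order _ _ _ (fixPlane h) _ _

theorem ncard_fixSet (h : HasQuad L (fixSet P W)) :
    (fixSet P W).ncard = subOrder h ^ 2 + subOrder h + 1 := by
  rw [← Nat.card_coe_set_eq]
  exact @natCard_points _ _ _ (fixPlane h) _ _

theorem ncard_fixSet_lines (h : HasQuad L (fixSet P W)) :
    (fixSet L W).ncard = subOrder h ^ 2 + subOrder h + 1 := by
  rw [← Nat.card_coe_set_eq]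
  exact @natCard_lines _ _ _ (fixPlane h) _ _

theorem ncard_fix_on_line (h : HasQuad L (fixSet P W)) {l : L} (hl : l ∈ fixSet L W) :
    {p : P | p ∈ l ∧ p ∈ fixSet P W}.ncard = subOrder h + 1 := by
  have h1 := @ncard_line _ _ _ (fixPlane h) _ _ ⟨l, hl⟩
  rw [subOrder, ← h1, ← Set.ncard_image_of_injective _ Subtype.val_injective]
  congr 1
  ext p
  constructor
  · rintro ⟨hp, hpW⟩; exact ⟨⟨p, hpW⟩, hp, rfl⟩
  · rintro ⟨q, hq, rfl⟩; exact ⟨hq, q.2⟩

theorem subOrder_eq_of_card (h : HasQuad L (fixSet P W)) {m : ℕ}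
    (hm : (fixSet P W).ncard = m ^ 2 + m + 1) : subOrder h = m := by
  have := ncard_fixSet h
  rw [hm] at this
  nlinarith

theorem isQuad_fixT {A B C D : FixT P W} (h : IsQuad L (A : P) B C D) :
    IsQuad (FixT L W) A B C D := fun l => h (l : L)

theorem isQuad_of_fixT (hq : HasQuad L (fixSet P W)) {A B C D : FixT P W}
    (h : IsQuad (FixT L W) A B C D) : IsQuad L (A : P) B C D := by
  let inst := fixPlane hq
  intro l
  have key : ∀ X Y Z : FixT P W, X ≠ Y → (∀ m : FixT L W, ¬ (X ∈ m ∧ Y ∈ m ∧ Z ∈ m)) →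
      ¬ ((X : P) ∈ l ∧ (Y : P) ∈ l ∧ (Z : P) ∈ l) := by
    intro X Y Z hXY hno hl
    exact hno ⟨l, line_mem_fixSet (fun e => hXY (Subtype.ext e)) hl.1 hl.2.1 X.2 Y.2⟩ hl
  exact ⟨key A B C h.ne₁₂ fun m => (h m).1, key A B D h.ne₁₂ fun m => (h m).2.1,
    key A C D h.ne₁₃ fun m => (h m).2.2.1, key B C D h.ne₂₃ fun m => (h m).2.2.2⟩

theorem hasQuad_fixT {s : Set P} (hs : HasQuad L s) (hsub : s ⊆ fixSet P W) :
    HasQuad (FixT L W) {p : FixT P W | (p : P) ∈ s} := by
  obtain ⟨A, hA, B, hB, C, hC, D, hD, hq⟩ := hs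
  exact ⟨⟨A, hsub hA⟩, hA, ⟨B, hsub hB⟩, hB, ⟨C, hsub hC⟩, hC, ⟨D, hsub hD⟩, hD,
    isQuad_fixT hq⟩

theorem hasQuad_of_fixT (hq : HasQuad L (fixSet P W)) {s : Set (FixT P W)}
    (hs : HasQuad (FixT L W) s) : HasQuad L (Subtype.val '' s) := by
  obtain ⟨A, hA, B, hB, C, hC, D, hD, h⟩ := hs
  exact ⟨A, ⟨A, hA, rfl⟩, B, ⟨B, hB, rfl⟩, C, ⟨C, hC, rfl⟩, D, ⟨D, hD, rfl⟩, isQuad_of_fixT hq h⟩

theorem fixSet_zpowers (X : Type*) [MulAction G X] (g : G) :
    fixSet X (Subgroup.zpowers g) = {x : X | g • x = x} := by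
  ext x
  refine ⟨fun h => h g (Subgroup.mem_zpowers g), fun h w hw => ?_⟩
  have : Subgroup.zpowers g ≤ MulAction.stabilizer G x := Subgroup.zpowers_le.2 h
  exact this hw

theorem fix_all_of_two_centres {g : G} {C D : P} (hC : IsCentre L g C) (hD : IsCentre L g D)
    (hCD : C ≠ D) (p : P) : g • p = p :=
  fix_all_points (L := L) (fix_all_of_two_axes (P := Dual L) (L := Dual P) hC hD hCD) p

/-- A collineation with an axis and a fixed quadrangle is trivial. -/
theorem fix_all_of_axis_quad {g : G} {a : L} (ha : IsAxis P g a)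
    (hq : HasQuad L {p : P | g • p = p}) (p : P) : g • p = p := by
  obtain ⟨A, hA, B, hB, C, hC, D, hD, h⟩ := hq
  have key : ∀ X Y : P, g • X = X → g • Y = Y → X ≠ Y → X ∉ a → Y ∉ a → g • p = p :=
    fun X Y hX hY hXY hXa hYa =>
      fix_all_of_two_centres (ha.centre_of_fixed hXa hX) (ha.centre_of_fixed hYa hY) hXY p
  by_cases hAa : A ∈ a
  · by_cases hBa : B ∈ a
    · exact key C D hC hD h.ne₃₄ (fun hh => (h a).1 ⟨hAa, hBa, hh⟩) fun hh => (h a).2.1 ⟨hAa, hBa, hh⟩
    · by_cases hCa : C ∈ a
      · exact key B D hB hD h.ne₂₄ hBa fun hh => (h a).2.2.1 ⟨hAa, hCa, hh⟩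
      · exact key B C hB hC h.ne₂₃ hBa hCa
  · by_cases hBa : B ∈ a
    · by_cases hCa : C ∈ a
      · exact key A D hA hD h.ne₁₄ hAa fun hh => (h a).2.2.2 ⟨hBa, hCa, hh⟩
      · exact key A C hA hC h.ne₁₃ hAa hCa
    · exact key A B hA hB h.ne₁₂ hAa hBa

end Sub

section Invol

variable {G P L : Type*} [Membership P L] [ProjectivePlane P L] [Group G]
  [MulAction G P] [MulAction G L] [PlaneAction G P L] [Finite P] [Finite L]

/-- An involutory collineation is a Baer collineation or has an axis. -/
theorem involution_cases {g : G} (h2 : ∀ p : P, g • g • p = p) (h1 : ∃ p : P, g • p ≠ p) :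
    (HasQuad L {p : P | g • p = p} ∧ ∃ m : ℕ, ProjectivePlane.order P L = m ^ 2 ∧ 2 ≤ m ∧
      {p : P | g • p = p}.ncard = m ^ 2 + m + 1 ∧
      ∀ l : L, g • l = l → {p : P | p ∈ l ∧ g • p = p}.ncard = m + 1) ∨
      (¬ HasQuad L {p : P | g • p = p} ∧ ∃ a : L, IsAxis P g a) := by
  classical
  cases nonempty_fintype P
  cases nonempty_fintype L
  set n := ProjectivePlane.order P L with hn
  have hn2 : 2 ≤ n := two_le_order P L
  have hmoved : ∀ p : P, g • p ≠ p → ∃ l : L, p ∈ l ∧ g • l = l := by
    intro p hp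
    obtain ⟨l, hl1, hl2⟩ := exists_join L p (g • p)
    refine ⟨l, hl1, line_eq hp ?_ ?_ hl2 hl1⟩
    · exact smul_mem g hl1
    · have := smul_mem g hl2
      rwa [h2 p] at this
  have huniq : ∀ p : P, g • p ≠ p → ∀ l m : L, p ∈ l → p ∈ m → g • l = l → g • m = m → l = m :=
    fun p hp l m hl hm hgl hgm => by_contra fun hlm => hp (fix_point hlm hl hm hgl hgm)
  by_cases hq : HasQuad L {p : P | g • p = p}
  · left
    rw [← fixSet_zpowers P g] at hq
    set m := subOrder hq with hm
    have hf := ncard_fixSet hq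
    rw [fixSet_zpowers P g] at hf
    have honl : ∀ l : L, g • l = l → {p : P | p ∈ l ∧ g • p = p}.ncard = m + 1 := by
      intro l hl
      have := ncard_fix_on_line hq (l := l) (by rw [fixSet_zpowers L g]; exact hl)
      rwa [fixSet_zpowers P g] at this
    have hfl : {l : L | g • l = l}.ncard = m ^ 2 + m + 1 := by
      rw [← ncard_fixed_eq (P := P) g, hf]
    -- count the moved points line by line
    have hM : {p : P | g • p ≠ p}.ncard =
        ∑ l ∈ Finset.univ.filter (fun l : L => g • l = l),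
          (Finset.univ.filter fun p : P => p ∈ l ∧ g • p ≠ p).card := by
      rw [Set.ncard_eq_toFinset_card', Set.toFinset_ofPred, ← Finset.card_biUnion]
      · congr 1
        ext p
        simp only [Finset.mem_filter, Finset.mem_univ, true_and, Finset.mem_biUnion]
        constructor
        · intro hp
          obtain ⟨l, hl1, hl2⟩ := hmoved p hp
          exact ⟨l, hl2, hl1, hp⟩
        · rintro ⟨l, -, -, hp⟩; exact hp
      · intro l hl m' hm' hne
        rw [Function.onFun, Finset.disjoint_left]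
        intro p hp hp'
        simp only [Finset.coe_filter, Finset.mem_univ, true_and, Set.mem_ofPred_eq] at hl hm'
        simp only [Finset.mem_filter] at hp hp'
        exact hne (huniq p hp.2.2 l m' hp.2.1 hp'.2.1 hl hm')
    have hline : ∀ l ∈ Finset.univ.filter (fun l : L => g • l = l),
        (Finset.univ.filter fun p : P => p ∈ l ∧ g • p ≠ p).card + (m + 1) = n + 1 := by
      intro l hl
      rw [← honl l (Finset.mem_filter.1 hl).2, hn, ← ncard_line (P := P) l,
        Set.ncard_eq_toFinset_card', Set.ncard_eq_toFinset_card', Set.toFinset_ofPred,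
        Set.toFinset_ofPred, ← Finset.card_union_of_disjoint]
      · congr 1; ext p; simp only [Finset.mem_union, Finset.mem_filter, Finset.mem_univ, true_and]
        tauto
      · rw [Finset.disjoint_left]; intro p hp hp'
        simp only [Finset.mem_filter] at hp hp'
        exact hp.2.2 hp'.2.2
    have hsum := Finset.sum_congr rfl hline
    rw [Finset.sum_add_distrib, Finset.sum_const, Finset.sum_const, ← hM, smul_eq_mul, smul_eq_mul,
      ← Set.toFinset_ofPred, ← Set.ncard_eq_toFinset_card', hfl] at hsum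
    have htot : {p : P | g • p ≠ p}.ncard + (m ^ 2 + m + 1) = n ^ 2 + n + 1 := by
      rw [← hf, hn, ← natCard_points P L]
      have := Set.ncard_add_ncard_compl {p : P | g • p ≠ p}
      have hc : {p : P | g • p ≠ p}ᶜ = {p : P | g • p = p} := by ext p; simp
      rwa [hc] at this
    have hne : m ≠ n := by
      intro e
      obtain ⟨p, hp⟩ := h1
      have : 0 < {p : P | g • p ≠ p}.ncard := (Set.ncard_pos (Set.toFinite _)).2 ⟨p, hp⟩
      rw [e] at htot
      omega
    have hz : ((n : ℤ) - m ^ 2) * ((n : ℤ) - m) = 0 := by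
      have e1 : ({p : P | g • p ≠ p}.ncard : ℤ) + (m ^ 2 + m + 1) * (m + 1) = (m ^ 2 + m + 1) * (n + 1) := by
        exact_mod_cast hsum
      have e2 : ({p : P | g • p ≠ p}.ncard : ℤ) + (m ^ 2 + m + 1) = n ^ 2 + n + 1 := by
        exact_mod_cast htot
      linear_combination e1 - e2
    rcases mul_eq_zero.1 hz with h | h
    · refine ⟨fixSet_zpowers P g ▸ hq, m, ?_, two_le_subOrder hq, hf, honl⟩
      exact_mod_cast (sub_eq_zero.1 h)
    · exact absurd (by exact_mod_cast (sub_eq_zero.1 h).symm) hne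
  · right
    refine ⟨hq, ?_⟩
    obtain ⟨l, Q, hlQ⟩ := exists_line_of_not_hasQuad hq
    set f := {p : P | g • p = p}.ncard with hf
    have hfl : {l : L | g • l = l}.ncard = f := by rw [hf, ncard_fixed_eq g (L := L)]
    have hf2 : 2 ≤ f := by
      by_contra hlt
      have hcover : (Set.univ : Set P) ⊆
          {p : P | g • p = p} ∪ ⋃ m ∈ ({l : L | g • l = l}.toFinset), {p : P | p ∈ m} := by
        intro p _
        by_cases hp : g • p = p
        · exact Or.inl hp
        · obtain ⟨m, hm1, hm2⟩ := hmoved p hp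
          exact Or.inr (Set.mem_biUnion (Set.mem_toFinset.2 hm2) hm1)
      have h3 := (Set.ncard_le_ncard hcover (Set.toFinite _)).trans (Set.ncard_union_le _ _)
      have h4 := Finset.set_ncard_biUnion_le ({l : L | g • l = l}.toFinset) fun m => {p : P | p ∈ m}
      rw [Finset.sum_congr rfl fun m _ => ncard_line (P := P) m, Finset.sum_const, smul_eq_mul,
        ← Set.ncard_eq_toFinset_card', hfl] at h4
      rw [Set.ncard_univ, natCard_points P L, ← hf] at h3
      nlinarith
    have hcover : (Set.univ : Set P) ⊆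
        ⋃ m ∈ ({l : L | g • l = l}.toFinset), {p : P | p ∈ m} := by
      intro p _
      by_cases hp : g • p = p
      · obtain ⟨q, hq', hqp⟩ := Set.exists_ne_of_one_lt_ncard (by omega : 1 < {p : P | g • p = p}.ncard) p
        obtain ⟨m, hm1, hm2⟩ := exists_join L p q
        exact Set.mem_biUnion (Set.mem_toFinset.2 (fix_line hqp.symm hm1 hm2 hp hq')) hm1
      · obtain ⟨m, hm1, hm2⟩ := hmoved p hp
        exact Set.mem_biUnion (Set.mem_toFinset.2 hm2) hm1
    have hfn : n + 1 ≤ f := by
      have h3 := Set.ncard_le_ncard hcover (Set.toFinite _)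
      have h4 := Finset.set_ncard_biUnion_le ({l : L | g • l = l}.toFinset) fun m => {p : P | p ∈ m}
      rw [Finset.sum_congr rfl fun m _ => ncard_line (P := P) m, Finset.sum_const, smul_eq_mul,
        ← Set.ncard_eq_toFinset_card', hfl] at h4
      rw [Set.ncard_univ, natCard_points P L] at h3
      nlinarith
    set S := {p : P | p ∈ l ∧ g • p = p} with hS
    have hSn : n ≤ S.ncard := by
      have hsub : {p : P | g • p = p} ⊆ insert Q S := by
        intro p hp
        rcases hlQ p hp with h | h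
        · exact Or.inr ⟨h, hp⟩
        · exact Or.inl h
      have := (Set.ncard_le_ncard hsub (Set.toFinite _)).trans (Set.ncard_insert_le _ _)
      omega
    obtain ⟨x, y, hx, hy, hxy⟩ := (Set.one_lt_ncard_iff (Set.toFinite _)).1 (by omega : 1 < S.ncard)
    have hgl : g • l = l := fix_line hxy hx.1 hy.1 hx.2 hy.2
    refine ⟨l, fun r hr => ?_⟩
    by_contra hgr
    have hsub : S ⊆ ({p : P | p ∈ l} \ {r, g • r}) := by
      rintro p ⟨hp, hgp⟩
      refine ⟨hp, ?_⟩
      rintro (rfl | rfl)
      · exact hgr hgp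
      · exact hgr (by rw [h2] at hgp; exact hgp.symm)
    have := Set.ncard_le_ncard hsub (Set.toFinite _)
    have hpair : ({r, g • r} : Set P) ⊆ {p : P | p ∈ l} := by
      rintro p (rfl | rfl)
      · exact hr
      · exact (mem_of_fixed hgl hr : g • r ∈ l)
    rw [Set.ncard_sdiff hpair (Set.toFinite _), Set.ncard_pair (Ne.symm hgr), ncard_line, ← hn] at this
    omega

/-- In a plane of odd order an involution with an axis is a homology. -/
theorem exists_centre_off_axis {g : G} {a : L} (hga : IsAxis P g a) (h2 : ∀ p : P, g • g • p = p)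
    (hodd : Odd (ProjectivePlane.order P L)) : ∃ C : P, C ∉ a ∧ g • C = C ∧ IsCentre L g C := by
  classical
  cases nonempty_fintype P
  have := Fact.mk Nat.prime_two
  let σ : Equiv.Perm {p : P // p ∉ a} :=
    { toFun := fun p => ⟨g • (p : P), fun h => p.2 (by
        have := mem_of_fixed hga.fix_line h; rwa [h2] at this)⟩
      invFun := fun p => ⟨g • (p : P), fun h => p.2 (by
        have := mem_of_fixed hga.fix_line h; rwa [h2] at this)⟩
      left_inv := fun p => Subtype.ext (h2 _)
      right_inv := fun p => Subtype.ext (h2 _) }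
  have hσ : σ ^ 2 ^ 1 = 1 := by
    rw [pow_one, sq]
    exact Equiv.ext fun p => Subtype.ext (h2 _)
  have hcard : ¬ 2 ∣ Fintype.card {p : P // p ∉ a} := by
    have h := ncard_off P a
    rw [← Nat.card_coe_set_eq, Nat.card_eq_fintype_card] at h
    have h' : Fintype.card {p : P // p ∉ a} = ProjectivePlane.order P L ^ 2 := by
      rw [← h]; exact Fintype.card_congr (Equiv.refl _)
    rw [h']
    exact fun hd => Nat.not_even_iff_odd.2 (hodd.pow) (even_iff_two_dvd.2 hd)
  obtain ⟨⟨C, hC⟩, hfix⟩ := Equiv.Perm.exists_fixed_point_of_prime hcard hσ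
  have hfix' : g • C = C := congrArg Subtype.val hfix
  exact ⟨C, hC, hfix', hga.centre_of_fixed hC hfix'⟩

end Invol

section TwoGroup

variable {G P L : Type*} [Membership P L] [ProjectivePlane P L] [Group G] [Finite G]
  [MulAction G P] [MulAction G L] [PlaneAction G P L] [Finite P] [Finite L]

/-- The order of the plane is a power of the order of the subplane fixed by a 2-group. -/
theorem order_eq_pow_of_two_group :
    ∀ (N : ℕ) (W : Subgroup G), Nat.card W = 2 ^ N → ∀ h : HasQuad L (fixSet P W),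
      ∃ i : ℕ, ProjectivePlane.order P L = subOrder h ^ (2 ^ i) := by
  have := Fact.mk Nat.prime_two
  intro N
  induction N with
  | zero =>
    intro W hW h
    refine ⟨0, ?_⟩
    have hbot : W = ⊥ := Subgroup.eq_bot_of_card_eq W (by simpa using hW)
    rw [pow_zero, pow_one]
    refine (subOrder_eq_of_card h ?_).symm
    have : fixSet P W = Set.univ := by
      refine Set.eq_univ_of_forall fun p w hw => ?_
      rw [hbot, Subgroup.mem_bot] at hw
      rw [hw, one_smul]
    rw [this, Set.ncard_univ, natCard_points P L]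
  | succ N IH =>
    intro W hW h
    obtain ⟨W₀, hW₀⟩ := Sylow.exists_subgroup_card_pow_prime 2 (G := W) (n := N)
      (hW ▸ pow_dvd_pow 2 (Nat.le_succ N))
    set W₁ : Subgroup G := W₀.map W.subtype with hW₁
    have hcard : Nat.card W₁ = 2 ^ N := by
      rw [hW₁, Subgroup.card_map_of_injective W.subtype_injective, hW₀]
    have hidx : W₀.index = 2 := by
      have := W₀.card_mul_index
      rw [hW₀, hW, pow_succ] at this
      exact Nat.eq_of_mul_eq_mul_left (by positivity) this
    have hnorm := Subgroup.normal_of_index_eq_two hidx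
    have hle : W₁ ≤ W := Subgroup.map_subtype_le W₀
    have h₁ : HasQuad L (fixSet P W₁) := h.mono (fixSet_anti hle)
    obtain ⟨i, hi⟩ := IH W₁ hcard h₁
    have hWN : W ≤ Subgroup.normalizer (W₁ : Set G) := by
      intro w hw
      rw [Subgroup.mem_normalizer_iff]
      intro u
      constructor
      · rintro ⟨u', hu', rfl⟩
        exact ⟨⟨w, hw⟩ * u' * ⟨w, hw⟩⁻¹, hnorm.conj_mem _ hu' _, rfl⟩
      · rintro ⟨u', hu', he⟩
        refine ⟨⟨w, hw⟩⁻¹ * u' * ⟨w, hw⟩, by simpa using hnorm.conj_mem _ hu' ⟨w, hw⟩⁻¹, ?_⟩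
        simp only [map_mul, map_inv, Subgroup.coe_subtype] at he ⊢
        rw [he]; group
    obtain ⟨x, hx⟩ : ∃ x : W, x ∉ W₀ := by
      by_contra hc
      push_neg at hc
      have : W₀ = ⊤ := eq_top_iff.2 fun y _ => hc y
      rw [this, Subgroup.index_top] at hidx
      omega
    let g : Subgroup.normalizer (W₁ : Set G) := ⟨x, hWN x.2⟩
    let inst := fixPlane h₁
    have hg2 : ∀ p : FixT P W₁, g • g • p = p := by
      intro p
      refine Subtype.ext ?_
      show (x : G) • (x : G) • (p : P) = p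
      rw [← mul_smul]
      exact p.2 _ ⟨x * x, Subgroup.mul_self_mem_of_index_two hidx x, rfl⟩
    have hfix : fixSet P W = Subtype.val '' {p : FixT P W₁ | g • p = p} := by
      ext p
      constructor
      · intro hp
        exact ⟨⟨p, fixSet_anti hle hp⟩, Subtype.ext (hp x x.2), rfl⟩
      · rintro ⟨q, hq, rfl⟩ w hw
        by_cases hw0 : (⟨w, hw⟩ : W) ∈ W₀
        · exact q.2 w ⟨⟨w, hw⟩, hw0, rfl⟩
        · have hxw : x⁻¹ * ⟨w, hw⟩ ∈ W₀ := by
            rw [Subgroup.mul_mem_iff_of_index_two hidx]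
            exact ⟨fun e => absurd ((inv_mem_iff).1 e) hx, fun e => absurd e hw0⟩
          have hq' : (x : G) • (q : P) = q := congrArg Subtype.val hq
          have := q.2 _ ⟨_, hxw, rfl⟩
          simp only [map_mul, map_inv, Subgroup.coe_subtype, mul_smul, inv_smul_eq_iff] at this
          rw [this, hq']
    have hcardW : (fixSet P W).ncard = {p : FixT P W₁ | g • p = p}.ncard := by
      rw [hfix, Set.ncard_image_of_injective _ Subtype.val_injective]
    by_cases hne : ∃ p : FixT P W₁, g • p ≠ p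
    · rcases involution_cases (L := FixT L W₁) hg2 hne with ⟨-, m, hm, -, hf, -⟩ | ⟨hnq, -⟩
      · refine ⟨i + 1, ?_⟩
        have hm' : subOrder h = m := subOrder_eq_of_card h (by rw [hcardW, hf])
        rw [hi, hm', pow_succ', pow_mul]
        congr 1
      · exfalso
        apply hnq
        have : HasQuad (FixT L W₁) {p : FixT P W₁ | (p : P) ∈ fixSet P W} :=
          hasQuad_fixT h (fixSet_anti hle)
        exact this.mono fun p hp => Subtype.ext (hp x x.2)
    · push_neg at hne
      refine ⟨i, ?_⟩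
      have hm' : subOrder h = subOrder h₁ := subOrder_eq_of_card h (by
        rw [hcardW, Set.eq_univ_of_forall (s := {p : FixT P W₁ | g • p = p}) hne, Set.ncard_univ,
          Nat.card_coe_set_eq, ncard_fixSet h₁])
      rw [hi, hm']

end TwoGroup

end Cfsg.Agent.CG26.OW
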