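import Cfsg.Agent.CG26.OW.Comp

/-!
# Ostrom-Wagner: multipliers acting on the components of a Jordan set
-/

set_option autoImplicit false
set_option linter.unusedSectionVars false

namespace Cfsg.Agent.CG26.OW

open Polynomial

variable {K : Type*} [Field K]

/-- The ring generated by the functions `σ ↦ f + σ f` and `σ ↦ f σ f`. -/
def symRing (K : Type*) [Field K] : Subring (RingAut K → K) :=
  Subring.closure {h | ∃ f : K, (h = fun σ => f + σ f) ∨ (h = fun σ => f * σ f)}

theorem symRing_apply_inv {h : RingAut K → K} (hh : h ∈ symRing K) (σ : RingAut K) :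
    h σ⁻¹ = σ⁻¹ (h σ) := by
  induction hh using Subring.closure_induction generalizing σ with
  | mem h hh =>
    obtain ⟨f, rfl | rfl⟩ := hh
    · simp [map_add, add_comm, RingAut.inv_apply]
    · simp [map_mul, mul_comm, RingAut.inv_apply]
  | zero => simp
  | one => simp
  | add a b _ _ ha hb => simp [ha, hb]
  | neg a _ ha => simp [ha]
  | mul a b _ _ ha hb => simp [ha, hb]

theorem sum_fn_mem (f : K) : (fun σ : RingAut K => f + σ f) ∈ symRing K :=
  Subring.subset_closure ⟨f, Or.inl rfl⟩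

theorem prod_fn_mem (f : K) : (fun σ : RingAut K => f * σ f) ∈ symRing K :=
  Subring.subset_closure ⟨f, Or.inr rfl⟩

variable [Finite K]

/-- Either the values at two automorphisms are separated or they are conjugate. -/
theorem exists_separate {σ τ : RingAut K} (h1 : τ ≠ σ) (h2 : τ ≠ σ⁻¹) :
    ∃ h ∈ symRing K, h σ ≠ 0 ∧ h τ = 0 := by
  classical
  by_contra hno
  push_neg at hno
  have hno' : ∀ h ∈ symRing K, h τ = 0 → h σ = 0 := fun h hh e => by_contra fun h' => hno h hh h' e
  cases nonempty_fintype K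
  obtain ⟨p, hchar⟩ := CharP.exists K
  have := hchar
  have hp : p.Prime := CharP.char_is_prime K p
  have := Fact.mk hp
  let _ : Algebra (ZMod p) K := ZMod.algebra K p
  -- the nonzero values at `τ`
  let V : Subgroup Kˣ :=
    { carrier := {u | ∃ h ∈ symRing K, h τ = (u : K)}
      one_mem' := ⟨1, one_mem _, rfl⟩
      mul_mem' := fun {a b} ⟨x, hx, ex⟩ ⟨y, hy, ey⟩ =>
        ⟨x * y, mul_mem hx hy, by rw [Pi.mul_apply, ex, ey, Units.val_mul]⟩
      inv_mem' := fun {a} ⟨x, hx, ex⟩ => ⟨x ^ (orderOf a - 1), pow_mem hx _, by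
        rw [Pi.pow_apply, ex, ← Units.val_pow_eq_pow_val]
        congr 1
        exact eq_inv_of_mul_eq_one_left (by
          rw [← pow_succ, Nat.sub_add_cancel (isOfFinOrder_of_finite a).orderOf_pos, pow_orderOf_eq_one])⟩ }
  obtain ⟨⟨ω, hω⟩, hgen⟩ := IsCyclic.exists_monoid_generator (α := V)
  obtain ⟨h₀, hh₀, e₀⟩ := hω
  have hpoly : ∀ P : (ZMod p)[X], aeval h₀ P ∈ symRing K := by
    intro P
    induction P using Polynomial.induction_on' with
    | add a b ha hb => rw [map_add]; exact add_mem ha hb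
    | monomial k a =>
      rw [aeval_monomial]
      refine mul_mem ?_ (pow_mem hh₀ k)
      obtain ⟨m, rfl⟩ := ZMod.natCast_zmod_surjective a
      rw [map_natCast]
      exact natCast_mem _ m
  have heval : ∀ (P : (ZMod p)[X]) (ρ : RingAut K), aeval h₀ P ρ = aeval (h₀ ρ) P := fun P ρ =>
    (aeval_algHom_apply (Pi.evalAlgHom (ZMod p) (fun _ : RingAut K => K) ρ) h₀ P).symm
  have hroot : aeval (h₀ σ) (minpoly (ZMod p) (h₀ τ)) = 0 := by
    rw [← heval]
    refine hno' _ (hpoly _) ?_
    rw [heval]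
    exact minpoly.aeval _ _
  obtain ⟨g, hg⟩ := isConjRoot_iff_exists_algEquiv.1
    (isConjRoot_of_aeval_eq_zero (IsIntegral.of_finite (ZMod p) (h₀ τ)) hroot)
  -- `hg` relates the two values
  have hconj : ∃ g : RingAut K, ∀ h ∈ symRing K, h σ = g (h τ) := by
    have key : ∀ g : RingAut K, h₀ σ = g (h₀ τ) → ∀ h ∈ symRing K, h σ = g (h τ) := by
      intro g hg h hh
      by_cases h0 : h τ = 0
      · rw [h0, map_zero]; exact hno' h hh h0
      obtain ⟨j, hj⟩ := (Submonoid.mem_powers_iff _ _).1 (hgen ⟨Units.mk0 (h τ) h0, h, hh, rfl⟩)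
      have hj' : h₀ τ ^ j = h τ := by
        have := congrArg (fun x : V => ((x : Kˣ) : K)) hj
        simp only [SubgroupClass.coe_pow, Units.val_pow_eq_pow_val, Units.val_mk0] at this
        rw [e₀]; exact this
      have hd : (h - h₀ ^ j) σ = 0 := hno' _ (sub_mem hh (pow_mem hh₀ j)) (by simp [hj'])
      rw [Pi.sub_apply, Pi.pow_apply, sub_eq_zero] at hd
      rw [hd, hg, ← map_pow, hj']
    exact ⟨g.symm.toRingEquiv, key _ (by rw [← hg]; exact (g.symm_apply_apply _).symm)⟩
  obtain ⟨g, hg⟩ := hconj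
  obtain ⟨θ, hθ⟩ := exists_gen K
  have ea : θ + σ θ = g θ + g (τ θ) := by rw [← map_add]; exact hg _ (sum_fn_mem θ)
  have eb : θ * σ θ = g θ * g (τ θ) := by rw [← map_mul]; exact hg _ (prod_fn_mem θ)
  have hprod : (g θ - θ) * (g θ - σ θ) = 0 := by linear_combination eb - (g θ) * ea
  rcases mul_eq_zero.1 hprod with hz | hz
  · have e1 : g = 1 := eq_of_gen hθ (sub_eq_zero.1 hz)
    subst e1
    simp only [RingAut.one_apply, add_right_inj] at ea
    exact h1 (eq_of_gen hθ ea.symm)
  · have e1 : g = σ := eq_of_gen hθ (sub_eq_zero.1 hz)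
    subst e1
    have e2 : (g * τ) θ = θ := by rw [RingAut.mul_apply]; linear_combination -ea
    exact h2 (eq_inv_of_mul_eq_one_right (eq_of_gen hθ (e2.trans (RingAut.one_apply θ).symm)))

/-- The indicator of a pair. -/
theorem exists_indicator (σ : RingAut K) :
    ∃ e ∈ symRing K, e σ = 1 ∧ e σ⁻¹ = 1 ∧ ∀ τ : RingAut K, τ ≠ σ → τ ≠ σ⁻¹ → e τ = 0 := by
  classical
  cases nonempty_fintype K
  cases nonempty_fintype (RingAut K)
  have hex : ∀ τ : RingAut K, ∃ e ∈ symRing K, e σ = 1 ∧ (τ ≠ σ → τ ≠ σ⁻¹ → e τ = 0) := by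
    intro τ
    by_cases hτ : τ ≠ σ ∧ τ ≠ σ⁻¹
    · obtain ⟨h, hh, h1, h2⟩ := exists_separate hτ.1 hτ.2
      refine ⟨h ^ (Fintype.card K - 1), pow_mem hh _, FiniteField.pow_card_sub_one_eq_one _ h1, fun _ _ => ?_⟩
      rw [Pi.pow_apply, h2, zero_pow (by have := Fintype.one_lt_card (α := K); omega)]
    · exact ⟨1, one_mem _, rfl, fun a b => absurd ⟨a, b⟩ hτ⟩
  choose e he he1 he0 using hex
  have hmem : ∏ τ, e τ ∈ symRing K := Subring.prod_mem _ fun τ _ => he τ
  refine ⟨∏ τ, e τ, hmem, ?_, ?_, fun τ a b => ?_⟩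
  · rw [Finset.prod_apply]; exact Finset.prod_eq_one fun τ _ => he1 τ
  · rw [symRing_apply_inv hmem, Finset.prod_apply, Finset.prod_eq_one fun τ _ => he1 τ, map_one]
  · rw [Finset.prod_apply]; exact Finset.prod_eq_zero (Finset.mem_univ τ) (he0 τ a b)

/-- Evaluation at an automorphism which is not an involution is onto. -/
theorem exists_value {σ : RingAut K} (hσ : σ * σ ≠ 1) (η : K) : ∃ h ∈ symRing K, h σ = η := by
  classical
  by_contra hno
  cases nonempty_fintype K
  obtain ⟨p, hchar⟩ := CharP.exists K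
  have := hchar
  have hp : p.Prime := CharP.char_is_prime K p
  have := Fact.mk hp
  set K₀ := (symRing K).map (Pi.evalRingHom (fun _ : RingAut K => K) σ) with hK₀
  obtain ⟨θ, hθ⟩ := exists_gen K
  have hθ0 : θ ∉ K₀ := by
    intro hmem
    refine hno ?_
    have : η ∈ K₀ := by
      by_cases hη : η = 0
      · rw [hη]; exact zero_mem _
      · obtain ⟨j, rfl⟩ := hθ η hη; exact pow_mem hmem j
    obtain ⟨h, hh, e⟩ := Subring.mem_map.1 this
    exact ⟨h, hh, e⟩
  have : Fintype K₀ := Fintype.ofFinite _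
  let _ : Field K₀ := Fintype.fieldOfDomain K₀
  set q := Fintype.card K₀ with hq
  obtain ⟨⟨k, hk⟩, -, hqk⟩ := FiniteField.card K₀ p
  have hfix : ∀ a : K, a ∈ K₀ → a ^ q = a := fun a ha =>
    congrArg Subtype.val (FiniteField.pow_card (⟨a, ha⟩ : K₀))
  have hroots : ∀ y : K, y ^ q = y → y ∈ K₀ := by
    intro y hy
    by_contra hyK
    have hsub : insert y (Finset.univ.image (Subtype.val : K₀ → K)) ⊆ (X ^ q - X : K[X]).roots.toFinset := by
      intro z hz
      rw [Multiset.mem_toFinset, mem_roots (FiniteField.X_pow_card_sub_X_ne_zero K Fintype.one_lt_card)]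
      simp only [IsRoot.def, eval_sub, eval_pow, eval_X, sub_eq_zero]
      rcases Finset.mem_insert.1 hz with rfl | hz
      · exact hy
      · obtain ⟨⟨a, ha⟩, -, rfl⟩ := Finset.mem_image.1 hz; exact hfix a ha
    have h1 := (Finset.card_le_card hsub).trans ((Multiset.toFinset_card_le _).trans (card_roots' _))
    rw [Finset.card_insert_of_notMem (by simpa using hyK),
      Finset.card_image_of_injective _ Subtype.val_injective, Finset.card_univ,
      FiniteField.X_pow_card_sub_X_natDegree_eq K Fintype.one_lt_card] at h1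
    omega
  have hadd : ∀ a b : K, (a + b) ^ q = a ^ q + b ^ q := fun a b => by
    rw [hq, hqk]; exact add_pow_char_pow a b p _
  set a := θ + σ θ with ha'
  set b := θ * σ θ with hb'
  have ha : a ∈ K₀ := Subring.mem_map.2 ⟨_, sum_fn_mem θ, rfl⟩
  have hb : b ∈ K₀ := Subring.mem_map.2 ⟨_, prod_fn_mem θ, rfl⟩
  have hσθ : σ θ ∉ K₀ := fun h => hθ0 (by
    have := sub_mem ha h; rwa [ha', add_sub_cancel_right] at this)
  have root : ∀ y : K, y ^ 2 + b = a * y → y ^ q = θ ∨ y ^ q = σ θ := by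
    intro y hy
    have h := congrArg (· ^ q) hy
    simp only [hadd, mul_pow, hfix a ha, hfix b hb, ← pow_mul] at h
    rw [mul_comm 2 q, pow_mul] at h
    have : (y ^ q - θ) * (y ^ q - σ θ) = 0 := by rw [ha', hb'] at h; linear_combination h
    exact (mul_eq_zero.1 this).imp sub_eq_zero.1 sub_eq_zero.1
  have e1 : θ ^ q = σ θ := by
    rcases root θ (by rw [ha', hb']; ring) with h | h
    · exact absurd (hroots θ h) hθ0
    · exact h
  have e2 : (σ θ) ^ q = θ := by
    rcases root (σ θ) (by rw [ha', hb']; ring) with h | h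
    · exact h
    · exact absurd (hroots _ h) hσθ
  refine hσ (eq_of_gen hθ ?_)
  rw [RingAut.mul_apply, RingAut.one_apply]
  conv_lhs => rw [← e1, map_pow]
  exact e2

variable {N : Type*} [AddCommGroup N] {M : AddSubgroup (AddMonoid.End N)}
  {ι : K →+* AddMonoid.End N} [Fintype (RingAut K)]

/-- Multipliers in `symRing K` preserve the Jordan set. -/
theorem JordanSet.mult_mem (hM : JordanSet M) (hι : ∀ f, ι f ∈ M) {h : RingAut K → K}
    (hh : h ∈ symRing K) {c : RingAut K → AddMonoid.End N} (hc : ∀ σ, IsComp ι σ (c σ))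
    (hmem : ∑ σ, c σ ∈ M) : ∑ σ, ι (h σ) * c σ ∈ M := by
  induction hh using Subring.closure_induction generalizing c with
  | mem h hh =>
    obtain ⟨f, rfl | rfl⟩ := hh
    · have := hM.anti_mem (hι f) hmem
      rw [Finset.mul_sum, Finset.sum_mul, ← Finset.sum_add_distrib] at this
      convert this using 1
      exact Finset.sum_congr rfl fun σ _ => by rw [map_add, add_mul, hc σ f]
    · have := hM.quad _ (hι f) _ hmem
      rw [Finset.mul_sum, Finset.sum_mul] at this
      convert this using 1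
      exact Finset.sum_congr rfl fun σ _ => by rw [map_mul, mul_assoc, mul_assoc, hc σ f]
  | zero => simp
  | one => simpa using hmem
  | add a b _ _ ha hb =>
    simp only [Pi.add_apply, map_add, add_mul, Finset.sum_add_distrib]
    exact M.add_mem (ha hc hmem) (hb hc hmem)
  | neg a _ ha =>
    simp only [Pi.neg_apply, map_neg, neg_mul, Finset.sum_neg_distrib]
    exact M.neg_mem (ha hc hmem)
  | mul a b _ _ ha hb =>
    simp only [Pi.mul_apply, map_mul, mul_assoc]
    exact ha (fun σ => (hc σ).coe_mul (b σ)) (hb hc hmem)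

theorem JordanSet.component_mem (hM : JordanSet M) (hι : ∀ f, ι f ∈ M)
    {c : RingAut K → AddMonoid.End N} (hc : ∀ σ, IsComp ι σ (c σ))
    (hmem : ∑ σ, c σ ∈ M) (σ : RingAut K) :
    (σ⁻¹ = σ → c σ ∈ M) ∧ (σ⁻¹ ≠ σ → c σ + c σ⁻¹ ∈ M) := by
  classical
  obtain ⟨e, he, e1, e2, e0⟩ := exists_indicator σ
  have h := hM.mult_mem hι he hc hmem
  constructor
  · intro hs
    rw [Finset.sum_eq_single σ (fun τ _ hτ => by rw [e0 τ hτ (hs.symm ▸ hτ), map_zero, zero_mul])
      (fun hn => absurd (Finset.mem_univ σ) hn), e1, map_one, one_mul] at h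
    exact h
  · intro hs
    rw [Finset.sum_eq_add σ σ⁻¹ (Ne.symm hs)
      (fun τ _ hτ => by rw [e0 τ hτ.1 hτ.2, map_zero, zero_mul])
      (fun hn => absurd (Finset.mem_univ σ) hn) (fun hn => absurd (Finset.mem_univ _) hn),
      e1, e2, map_one, one_mul, one_mul] at h
    exact h

end Cfsg.Agent.CG26.OW
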