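import Cfsg.Agent.CG26.OW.SylowTools

/-!
# Ostrom-Wagner: planes without perspectivities
-/

set_option autoImplicit false
set_option linter.unusedSectionVars false

namespace Cfsg.Agent.CG26.OW

open Configuration

variable {G P L : Type*} [Membership P L] [ProjectivePlane P L] [Group G] [Finite G]
  [MulAction G P] [MulAction G L] [PlaneAction G P L] [Finite P] [Finite L]

variable (L) in
include L in
theorem even_card (h : TwoTrans G P) : Even (Nat.card G) := by
  obtain ⟨a, -, -, l, -⟩ := @ProjectivePlane.exists_config P L _ _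
  obtain ⟨b, -, hb⟩ := exists_mem_ne P l a
  obtain ⟨g, g1, g2⟩ := h a b b a hb.symm hb
  by_contra hodd
  obtain ⟨j, hj⟩ := Nat.not_even_iff_odd.1 (fun he : Even (orderOf g) =>
    hodd (even_iff_two_dvd.2 ((even_iff_two_dvd.1 he).trans (orderOf_dvd_natCard g))))
  have h2 : (g ^ 2) • a = a := by rw [sq, mul_smul, g1, g2]
  have h2' : ((g ^ 2) ^ (j + 1)) • a = a :=
    (MulAction.stabilizer G a).pow_mem (show g ^ 2 ∈ MulAction.stabilizer G a from h2) (j + 1)
  have hg : (g ^ 2) ^ (j + 1) = g := by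
    rw [← pow_mul, show 2 * (j + 1) = orderOf g + 1 by omega, pow_succ, pow_orderOf_eq_one, one_mul]
  rw [hg, g1] at h2'
  exact hb h2'

variable (G P L) in
/-- No nontrivial perspectivity. -/
def NoPersp : Prop := ∀ g : G, g ≠ 1 → ∀ a : L, ¬ IsAxis P g a

variable [FaithfulSMul G P]

theorem NoPersp.baer (hnp : NoPersp G P L) {z : G} (hz : orderOf z = 2) :
    HasQuad L {p : P | z • p = p} ∧ ∃ m : ℕ, ProjectivePlane.order P L = m ^ 2 ∧ 2 ≤ m ∧
      {p : P | z • p = p}.ncard = m ^ 2 + m + 1 ∧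
      ∀ l : L, z • l = l → {p : P | p ∈ l ∧ z • p = p}.ncard = m + 1 := by
  have hz1 : z ≠ 1 := fun e => by rw [e, orderOf_one] at hz; omega
  have h2 : ∀ p : P, z • z • p = p := fun p => by
    rw [← mul_smul, ← sq, ← hz, pow_orderOf_eq_one, one_smul]
  have h1 : ∃ p : P, z • p ≠ p := by
    by_contra hc
    push_neg at hc
    exact hz1 (eq_one_of_fix hc)
  rcases involution_cases (L := L) h2 h1 with hb | ⟨-, a, ha⟩
  · exact hb
  · exact absurd ha (hnp z hz1 a)

/-- Without perspectivities the order is odd. -/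
theorem order_odd (h : TwoTrans G P) (hnp : NoPersp G P L) : Odd (ProjectivePlane.order P L) := by
  classical
  have := Fact.mk Nat.prime_two
  by_contra heven
  rw [Nat.not_odd_iff_even] at heven
  set n := ProjectivePlane.order P L with hn
  have hn2 : 2 ≤ n := two_le_order P L
  obtain ⟨A, -, -, l₀, -⟩ := @ProjectivePlane.exists_config P L _ _
  obtain ⟨l, hA, -⟩ := exists_join L A A
  set H := MulAction.stabilizer G l with hH
  have hvodd : ¬ 2 ∣ n ^ 2 + n + 1 := fun hd => by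
    obtain ⟨r, hr⟩ := heven
    rw [hr] at hd
    have : 2 ∣ (r + r) ^ 2 + (r + r) := ⟨2 * r ^ 2 + r, by ring⟩
    exact absurd ((Nat.dvd_add_right this).1 hd) (by omega)
  have hn1 : ¬ 2 ∣ n + 1 := by
    obtain ⟨r, hr⟩ := heven
    omega
  -- Sylow 2-subgroup of the flag stabiliser
  obtain ⟨S, hS⟩ := exists_isSyl 2 (H ⊓ MulAction.stabilizer G A : Subgroup G)
  have eG := orb_ncard_mul (⊤ : Subgroup G) (l : L)
  rw [show orb (⊤ : Subgroup G) l = Set.univ from Set.eq_univ_of_forall fun m =>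
      let ⟨g, hg⟩ := h.lines l m; ⟨g, trivial, hg⟩, Set.ncard_univ, natCard_lines P L,
    top_inf_eq, Subgroup.card_top, ← hn, ← hH] at eG
  have eH := orb_ncard_mul H A
  rw [h.orb_line hA, ncard_line, ← hn] at eH
  have vH : (Nat.card (H ⊓ MulAction.stabilizer G A : Subgroup G)).factorization 2 =
      (Nat.card H).factorization 2 := by
    rw [← eH, Nat.factorization_mul (by omega) Nat.card_pos.ne', Finsupp.add_apply,
      Nat.factorization_eq_zero_of_not_dvd hn1, zero_add]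
  have hv1 : 1 ≤ (Nat.card H).factorization 2 := by
    have he : 2 ∣ Nat.card G := even_iff_two_dvd.1 (even_card L h)
    rw [← eG] at he
    rcases (Nat.Prime.dvd_mul Nat.prime_two).1 he with hd | hd
    · exact absurd hd hvodd
    · exact (Nat.Prime.dvd_iff_one_le_factorization Nat.prime_two Nat.card_pos.ne').1 hd
  -- a central involution
  have hnt : Nontrivial S := by
    rw [← Finite.one_lt_card_iff_nontrivial, hS.2, vH]
    exact Nat.one_lt_two_pow (by omega)
  have hcn := hS.isPGroup.center_nontrivial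
  have h2z : 2 ∣ Nat.card (Subgroup.center S) := by
    obtain ⟨i, hi⟩ := IsPGroup.iff_card.1 (hS.isPGroup.to_subgroup (Subgroup.center S))
    have := Finite.one_lt_card_iff_nontrivial.2 hcn
    rw [hi] at this ⊢
    exact dvd_pow_self 2 (by rintro rfl; simp at this)
  obtain ⟨z₀, hz₀⟩ := exists_prime_orderOf_dvd_card' 2 h2z
  set z : G := ((z₀ : S) : G) with hzdef
  have hz : orderOf z = 2 := by rw [hzdef, Subgroup.orderOf_coe, Subgroup.orderOf_coe, hz₀]
  have hcomm : ∀ s ∈ S, s * z = z * s := fun s hs =>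
    congrArg Subtype.val (Subgroup.mem_center_iff.1 z₀.2 ⟨s, hs⟩)
  obtain ⟨-, m, hnm, hm2, hf, hon⟩ := hnp.baer hz
  have hzl : z • l = l := (hS.1 (z₀ : S).2).1
  set T := {p : P | p ∉ l ∧ z • p = p} with hT
  have hTcard : T.ncard = m ^ 2 := by
    have hsplit : {p : P | z • p = p} = {p : P | p ∈ l ∧ z • p = p} ∪ T := by
      ext p; simp only [hT, Set.mem_union, Set.mem_ofPred_eq]; tauto
    rw [hsplit, Set.ncard_union_eq (Set.disjoint_left.2 fun p hp hp' => hp'.1 hp.1) (Set.toFinite _)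
      (Set.toFinite _), hon l hzl] at hf
    omega
  have hinv : ∀ s ∈ S, ∀ p ∈ T, s • p ∈ T := by
    intro s hs p ⟨hp, hzp⟩
    refine ⟨fun hsp => hp ?_, ?_⟩
    · rw [← ((hS.1 hs).1 : s • l = l)] at hsp
      exact (PlaneAction.smul_mem_smul s p l).1 hsp
    · rw [← mul_smul, ← hcomm s hs, mul_smul, hzp]
  have hd : ∀ p ∈ T, 2 ^ (2 * n.factorization 2) ∣ (orb S p).ncard := by
    intro p ⟨hp, _⟩
    have e1 := orb_ncard_mul S p
    have e2 := orb_ncard_mul H p
    rw [h.orb_off hp, ncard_off, ← hn] at e2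
    obtain ⟨i, hi⟩ := IsPGroup.iff_card.1
      (hS.isPGroup.to_le (inf_le_left : S ⊓ MulAction.stabilizer G p ≤ S))
    have hle := isPGroup_card_le (H := H ⊓ MulAction.stabilizer G p)
      (hS.isPGroup.to_le (inf_le_left : S ⊓ MulAction.stabilizer G p ≤ S))
      (le_inf (inf_le_left.trans (hS.1.trans inf_le_left)) inf_le_right)
    rw [hi] at hle
    have hile := (Nat.pow_le_pow_iff_right (by norm_num)).1 hle
    have hvsum : (Nat.card H).factorization 2 = 2 * n.factorization 2 +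
        (Nat.card (H ⊓ MulAction.stabilizer G p : Subgroup G)).factorization 2 := by
      rw [← e2, Nat.factorization_mul (pow_ne_zero _ (by omega)) Nat.card_pos.ne',
        Nat.factorization_pow]
      simp
    rw [hS.2, vH, hi, hvsum] at e1
    obtain ⟨d, hd⟩ := Nat.exists_eq_add_of_le hile
    rw [hd] at e1
    refine ⟨2 ^ d, Nat.eq_of_mul_eq_mul_right (show 0 < 2 ^ i by positivity) ?_⟩
    rw [e1]; ring
  have hdvd := dvd_ncard_of_orb (H := S) (Set.toFinite T) hinv hd
  rw [hTcard, ← hnm, ← hn] at hdvd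
  have h1 := (Nat.prime_two.pow_dvd_iff_le_factorization (by omega)).1 hdvd
  have h2 := (Nat.Prime.dvd_iff_one_le_factorization Nat.prime_two (by omega : n ≠ 0)).1
    (even_iff_two_dvd.1 heven)
  omega

omit [FaithfulSMul G P] in
theorem exists_two_descend {W : Subgroup G} :
    ∀ (j : ℕ) {y : G}, y ∉ W → y ^ (2 ^ j) ∈ W → ∃ i : ℕ, y ^ (2 ^ i) ∉ W ∧
      y ^ (2 ^ i) * y ^ (2 ^ i) ∈ W := by
  intro j
  induction j with
  | zero => intro y hy h; rw [pow_zero, pow_one] at h; exact absurd h hy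
  | succ j IH =>
    intro y hy h
    by_cases hj : y ^ (2 ^ j) ∈ W
    · exact IH hy hj
    · exact ⟨j, hj, by rw [← pow_add, ← two_mul, ← pow_succ']; exact h⟩

omit [FaithfulSMul G P] in
/-- In the subplane fixed by a maximal 2-group fixing a quadrangle, any two points are fixed by an
involutory homology induced by the normaliser. -/
theorem subplane_homologies (h : TwoTrans G P) (hodd : Odd (ProjectivePlane.order P L))
    {W : Subgroup G} (hW : IsPGroup 2 W) (hWq : HasQuad L (fixSet P W))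
    (hmax : ∀ V : Subgroup G, IsPGroup 2 V → HasQuad L (fixSet P V) → Nat.card V ≤ Nat.card W)
    {A C : P} (hA : A ∈ fixSet P W) (hC : C ∈ fixSet P W) :
    ∃ x ∈ Subgroup.normalizer (W : Set G), x * x ∈ W ∧ x • A = A ∧ x • C = C ∧
      ¬ HasQuad L (fixSet P W ∩ {p | x • p = p}) := by
  classical
  have := Fact.mk Nat.prime_two
  wlog hAC : A ≠ C generalizing C
  · push_neg at hAC
    subst hAC
    have hcard := ncard_fixSet hWq
    have h2k := two_le_subOrder hWq
    obtain ⟨C', hC', hne⟩ :=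
      Set.exists_ne_of_one_lt_ncard (s := fixSet P W) (by rw [hcard]; nlinarith) A
    obtain ⟨x, hx1, hx2, hx3, -, hx5⟩ := this hC' hne.symm
    exact ⟨x, hx1, hx2, hx3, hx3, hx5⟩
  -- adjoining an element to `W`
  have adjoin : ∀ x ∈ Subgroup.normalizer (W : Set G), x ∉ W → x * x ∈ W →
      ¬ HasQuad L (fixSet P W ∩ {p | x • p = p}) ∧ IsPGroup 2 (W ⊔ Subgroup.zpowers x : Subgroup G) ∧
        Nat.card W < Nat.card (W ⊔ Subgroup.zpowers x : Subgroup G) := by
    intro x hxN hxW hx2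
    have hx2p : ∃ k : ℕ, x ^ (2 ^ k) = 1 := by
      obtain ⟨k, hk⟩ := hW ⟨x * x, hx2⟩
      refine ⟨k + 1, ?_⟩
      rw [pow_succ', pow_mul, sq]
      exact congrArg Subtype.val hk
    have hz : IsPGroup 2 (Subgroup.zpowers x) := by
      obtain ⟨k, hk⟩ := hx2p
      obtain ⟨i, -, hi⟩ := (Nat.dvd_prime_pow Nat.prime_two).1 (orderOf_dvd_of_pow_eq_one hk)
      exact IsPGroup.of_card (by rw [Nat.card_zpowers, hi])
    have hp : IsPGroup 2 (W ⊔ Subgroup.zpowers x : Subgroup G) := by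
      rw [sup_comm]
      exact hz.to_sup_of_normal_right' hW (Subgroup.zpowers_le.2 hxN)
    have hlt : Nat.card W < Nat.card (W ⊔ Subgroup.zpowers x : Subgroup G) := by
      by_contra hge
      push_neg at hge
      have heq := Subgroup.eq_of_le_of_card_ge (le_sup_left : W ≤ W ⊔ Subgroup.zpowers x) hge
      exact hxW (heq.symm ▸ (le_sup_right : Subgroup.zpowers x ≤ _) (Subgroup.mem_zpowers x))
    refine ⟨fun hq => ?_, hp, hlt⟩
    have hsub : fixSet P W ∩ {p | x • p = p} ⊆ fixSet P (W ⊔ Subgroup.zpowers x : Subgroup G) := by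
      intro p ⟨hp1, hp2⟩ w hw
      have : W ⊔ Subgroup.zpowers x ≤ MulAction.stabilizer G p :=
        sup_le (fun v hv => hp1 v hv) (Subgroup.zpowers_le.2 hp2)
      exact this hw
    exact absurd (hmax _ hp (hq.mono hsub)) (by omega)
  set H := MulAction.stabilizer G ((A, C) : P × P) with hH
  have hWH : W ≤ H := fun w hw => Prod.ext (hA w hw) (hC w hw)
  obtain ⟨U, hU, hWU⟩ := exists_isSyl_ge hW hWH
  by_cases hlt : Nat.card W < Nat.card U
  · -- normalisers grow
    have : Group.IsNilpotent U := hU.isPGroup.isNilpotent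
    have hne : W.subgroupOf U < ⊤ := lt_top_iff_ne_top.2 fun e => by
      have := Nat.card_congr (Subgroup.subgroupOfEquivOfLe hWU).toEquiv
      rw [e, Subgroup.card_top] at this
      omega
    obtain ⟨y, hyN, hyW⟩ := SetLike.exists_of_lt (normalizerCondition_of_isNilpotent _ hne)
    have hyN' : (y : G) ∈ Subgroup.normalizer (W : Set G) := by
      rw [Subgroup.mem_normalizer_iff]
      intro w
      constructor
      · intro hw
        exact (Subgroup.mem_normalizer_iff.1 hyN ⟨w, hWU hw⟩).1 hw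
      · intro hw
        have hwU : w ∈ U := by
          have := U.mul_mem (U.mul_mem (U.inv_mem y.2) (hWU hw)) y.2
          simpa [mul_assoc] using this
        exact (Subgroup.mem_normalizer_iff.1 hyN ⟨w, hwU⟩).2 hw
    have hyW' : (y : G) ∉ W := hyW
    obtain ⟨k, hk⟩ := hU.isPGroup y
    have hk' : (y : G) ^ (2 ^ k) ∈ W := by
      have : (y : G) ^ (2 ^ k) = 1 := congrArg Subtype.val hk
      rw [this]; exact one_mem W
    obtain ⟨i, hi1, hi2⟩ := exists_two_descend k hyW' hk'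
    have hyH : (y : G) ^ (2 ^ i) ∈ H := H.pow_mem (hU.1 y.2) _
    exact ⟨_, Subgroup.pow_mem _ hyN' _, hi2, congrArg Prod.fst (hyH : _ • (A, C) = (A, C)),
      congrArg Prod.snd (hyH : _ • (A, C) = (A, C)), (adjoin _ (Subgroup.pow_mem _ hyN' _) hi1 hi2).1⟩
  -- otherwise `W` is Sylow
  exfalso
  have hWS : IsSyl 2 H W := by
    refine ⟨hWH, ?_⟩
    have := Subgroup.card_le_of_le hWU
    rw [← hU.2]
    omega
  obtain ⟨g, g1, g2⟩ := h A C C A hAC hAC.symm
  have hg : g • ((A, C) : P × P) = (C, A) := Prod.ext g1 g2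
  obtain ⟨u, hu, hu'⟩ := witt rfl hWS g (fun w hw => by
    rw [hg]; exact Prod.ext (hC w hw) (hA w hw))
  rw [hg] at hu'
  have uA : u • A = C := congrArg Prod.fst hu'
  have uC : u • C = A := congrArg Prod.snd hu'
  obtain ⟨a, b, hb, hab⟩ := Nat.exists_eq_two_pow_mul_odd (isOfFinOrder_of_finite u).orderOf_pos.ne'
  set y := u ^ b with hy
  have hyA : y • A = C := by
    obtain ⟨j, rfl⟩ := hb
    rw [hy, pow_succ, mul_smul, uA]
    have h2 : (u ^ 2) • C = C := by rw [sq, mul_smul, uC, uA]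
    have hs := (MulAction.stabilizer G C).pow_mem (show u ^ 2 ∈ MulAction.stabilizer G C from h2) j
    rw [pow_mul]
    exact hs
  have hyW : y ∉ W := fun hyW => hAC ((hA y hyW).symm.trans hyA)
  have hyN : y ∈ Subgroup.normalizer (W : Set G) := Subgroup.pow_mem _ hu _
  have hya : y ^ (2 ^ a) ∈ W := by
    rw [hy, ← pow_mul, mul_comm, ← hab, pow_orderOf_eq_one]; exact one_mem W
  obtain ⟨i, hi1, hi2⟩ := exists_two_descend a hyW hya
  have hxN : y ^ (2 ^ i) ∈ Subgroup.normalizer (W : Set G) := Subgroup.pow_mem _ hyN _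
  obtain ⟨hnq, hp, hcard⟩ := adjoin _ hxN hi1 hi2
  -- `y ^ 2 ^ i` is an involution on the subplane with at least two fixed points
  let inst := fixPlane hWq
  let x : Subgroup.normalizer (W : Set G) := ⟨_, hxN⟩
  have hx2 : ∀ p : FixT P W, x • x • p = p := fun p => Subtype.ext (by
    show (x : G) • (x : G) • (p : P) = p
    rw [← mul_smul]; exact p.2 _ hi2)
  have hx1 : ∃ p : FixT P W, x • p ≠ p := by
    by_contra hc
    push_neg at hc
    exact hnq (hWq.mono fun p hp => ⟨hp, congrArg Subtype.val (hc ⟨p, hp⟩)⟩)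
  rcases involution_cases (L := FixT L W) hx2 hx1 with ⟨hq, -⟩ | ⟨-, a', ha'⟩
  · refine hnq ((hasQuad_of_fixT hWq hq).mono ?_)
    rintro p ⟨q, hq, rfl⟩
    exact ⟨q.2, congrArg Subtype.val hq⟩
  · obtain ⟨A', hA', -⟩ := exists_mem_ne (FixT P W) a' ⟨A, hA⟩
    obtain ⟨C', hC', hCA⟩ := exists_mem_ne (FixT P W) a' A'
    have xA : (x : G) • (A' : P) = A' := congrArg Subtype.val (ha' A' hA')
    have xC : (x : G) • (C' : P) = C' := congrArg Subtype.val (ha' C' hC')
    obtain ⟨g', g1', g2'⟩ := h A C A' C' hAC fun e => hCA (Subtype.ext e.symm)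
    have hle : W ⊔ Subgroup.zpowers (y ^ (2 ^ i)) ≤
        MulAction.stabilizer G (((A' : P), (C' : P)) : P × P) :=
      sup_le (fun w hw => Prod.ext (A'.2 w hw) (C'.2 w hw))
        (Subgroup.zpowers_le.2 (Prod.ext xA xC))
    have h1 := isPGroup_card_le hp hle
    have h2 : Nat.card (MulAction.stabilizer G (((A' : P), (C' : P)) : P × P)) = Nat.card H :=
      (Nat.card_congr (MulAction.stabilizerEquivStabilizer (g := g') (a := ((A, C) : P × P))
        (b := (((A' : P), (C' : P)) : P × P)) (Prod.ext g1'.symm g2'.symm)).toEquiv).symm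
    rw [h2, ← hWS.2] at h1
    omega

/-- In odd prime power order there is a perspectivity. -/
theorem false_of_prime_pow (h : TwoTrans G P) (hnp : NoPersp G P L) {p e : ℕ} (hp : p.Prime)
    (hodd : p ≠ 2) (hn : ProjectivePlane.order P L = p ^ e) : False := by
  classical
  have := Fact.mk hp
  set n := ProjectivePlane.order P L with hn'
  have hn2 : 2 ≤ n := two_le_order P L
  have he : e ≠ 0 := by rintro rfl; simp at hn; omega
  have hpn : p ∣ n := hn ▸ dvd_pow_self p he
  obtain ⟨A, -, -, l₀, -⟩ := @ProjectivePlane.exists_config P L _ _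
  obtain ⟨l, hA, -⟩ := exists_join L A A
  obtain ⟨O, hO⟩ := exists_not_mem P l
  set H := (MulAction.stabilizer G l ⊓ MulAction.stabilizer G A : Subgroup G) with hH
  have hoff : ∀ O' : P, O' ∉ l → orb H O' = {q : P | q ∉ l} := by
    intro O' hO'
    ext q
    constructor
    · rintro ⟨u, hu, rfl⟩ hq
      rw [← (hu.1 : u • l = l)] at hq
      exact hO' ((PlaneAction.smul_mem_smul u O' l).1 hq)
    · intro hq
      obtain ⟨g, g1, g2, g3⟩ := h.triple hA hA hO' hq
      exact ⟨g, ⟨g2, g1⟩, g3⟩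
  obtain ⟨S, hS⟩ := exists_isSyl p H
  have hcardoff : ∀ O' : P, O' ∉ l → (orb H O').ncard = p ^ (2 * e) := fun O' hO' => by
    rw [hoff O' hO', ncard_off, ← hn', hn, ← pow_mul, mul_comm]
  have hStrans : ∀ O₁ O₂ : P, O₁ ∉ l → O₂ ∉ l → ∃ s ∈ S, s • O₁ = O₂ := by
    intro O₁ O₂ h1 h2
    have := (hS.orb_eq (hcardoff O₁ h1)).1.trans (hoff O₁ h1)
    exact this.ge h2
  -- the dual transitivity on lines off `A`
  have hLtrans : ∀ m₁ m₂ : L, A ∉ m₁ → A ∉ m₂ → ∃ s ∈ S, s • m₁ = m₂ := by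
    intro m₁ m₂ h1 h2
    have hoffL : orb H m₁ = {m : L | A ∉ m} := by
      ext m
      constructor
      · rintro ⟨u, hu, rfl⟩ hm
        rw [← (hu.2 : u • A = A)] at hm
        exact h1 ((PlaneAction.smul_mem_smul u A m₁).1 hm)
      · intro hm
        obtain ⟨g, g1, g2, g3⟩ := TwoTrans.triple (P := Dual L) (L := Dual P) h.dual
          (A := l) (A' := l) (O := m₁) (O' := m) (l := A) (l' := A) hA hA h1 hm
        exact ⟨g, ⟨g1, g2⟩, g3⟩
    have := (hS.orb_eq (x := m₁) (e := 2 * e) (by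
      rw [hoffL, ncard_lines_off, ← hn', hn, ← pow_mul, mul_comm])).1.trans hoffL
    exact this.ge h2
  obtain ⟨m, hAm, hml⟩ := exists_line_ne L A l
  obtain ⟨O₁, hO₁m, hO₁A⟩ := exists_mem_ne P m A
  have hnt : Nontrivial S := by
    have hO₁ : O₁ ∉ l := fun hl => hO₁A (point_eq hml hO₁m hl hAm hA)
    obtain ⟨m', hAm', hm'l, hm'm⟩ := exists_line_ne₂ L A l m
    obtain ⟨O₂, hO₂m, hO₂A⟩ := exists_mem_ne P m' A
    obtain ⟨s, hs, hse⟩ := hStrans O₁ O₂ hO₁ fun hl => hO₂A (point_eq hm'l hO₂m hl hAm' hA)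
    refine ⟨⟨⟨s, hs⟩, 1, fun e => hm'm ?_⟩⟩
    have : s = 1 := congrArg Subtype.val e
    subst this
    rw [one_smul] at hse
    exact line_eq hO₂A hO₂m hAm' (hse ▸ hO₁m) hAm
  have hcn := hS.isPGroup.center_nontrivial
  have hpz : p ∣ Nat.card (Subgroup.center S) := by
    obtain ⟨i, hi⟩ := IsPGroup.iff_card.1 (hS.isPGroup.to_subgroup (Subgroup.center S))
    have := Finite.one_lt_card_iff_nontrivial.2 hcn
    rw [hi] at this ⊢
    exact dvd_pow_self p (by rintro rfl; simp at this)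
  obtain ⟨z₀, hz₀⟩ := exists_prime_orderOf_dvd_card' p hpz
  set z : G := ((z₀ : S) : G) with hzdef
  have hz : orderOf z = p := by rw [hzdef, Subgroup.orderOf_coe, Subgroup.orderOf_coe, hz₀]
  have hz1 : z ≠ 1 := fun e' => by rw [e', orderOf_one] at hz; exact hp.one_lt.ne hz
  have hcomm : ∀ s ∈ S, s * z = z * s := fun s hs =>
    congrArg Subtype.val (Subgroup.mem_center_iff.1 z₀.2 ⟨s, hs⟩)
  obtain ⟨hzl, hzA⟩ : z • l = l ∧ z • A = A := hS.1 (z₀ : S).2
  have zl : ∀ B : P, B ∈ l → B ≠ A → z • B ≠ B := by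
    intro B hB hBA hzB
    refine hnp z hz1 l fun B' hB' => ?_
    by_cases hB'A : B' = A
    · rw [hB'A, hzA]
    obtain ⟨m₁, hm₁, hm₁l⟩ := exists_line_ne L B l
    obtain ⟨m₂, hm₂, hm₂l⟩ := exists_line_ne L B' l
    obtain ⟨s, hs, hsm⟩ := hLtrans m₁ m₂ (fun hh => hm₁l (line_eq hBA hm₁ hh hB hA))
      (fun hh => hm₂l (line_eq hB'A hm₂ hh hB' hA))
    have hsB : s • B = B' :=
      point_eq hm₂l (hsm ▸ smul_mem s hm₁) (mem_of_fixed (hS.1 hs).1 hB) hm₂ hB'
    rw [← hsB, ← mul_smul, ← hcomm s hs, mul_smul, hzB]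
  have zpencil : ∀ k : L, A ∈ k → k ≠ l → z • k ≠ k := by
    intro k hk hkl hzk
    have hcentre : IsCentre L z A := by
      intro k' hk'
      by_cases hk'l : k' = l
      · rw [hk'l, hzl]
      obtain ⟨O₁, hO₁, hO₁A⟩ := exists_mem_ne P k A
      obtain ⟨O₂, hO₂, hO₂A⟩ := exists_mem_ne P k' A
      obtain ⟨s, hs, hsO⟩ := hStrans O₁ O₂ (fun hh => hO₁A (point_eq hkl hO₁ hh hk hA))
        (fun hh => hO₂A (point_eq hk'l hO₂ hh hk' hA))
      have hsk : s • k = k' :=
        line_eq hO₂A (hsO ▸ smul_mem s hO₁) (mem_smul_of_fixed (hS.1 hs).2 hk) hO₂ hk'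
      rw [← hsk, ← mul_smul, ← hcomm s hs, mul_smul, hzk]
    obtain ⟨a, ha⟩ := hcentre.exists_axis
    exact hnp z hz1 a ha
  obtain ⟨m₀, hAm₀, hOm₀⟩ := exists_join L A O
  have hm₀l : m₀ ≠ l := fun e' => hO (e' ▸ hOm₀)
  have hOA : O ≠ A := fun e' => hO (e' ▸ hA)
  set O' := z • O with hO'def
  set O'' := z • O' with hO''def
  have hO'l : O' ∉ l := fun hh => hO (by
    rw [← hzl] at hh; exact (PlaneAction.smul_mem_smul z O l).1 hh)
  -- `z²` fixes nothing more
  obtain ⟨c, hc⟩ : ∃ c : ℕ, (z ^ 2) ^ c = z := by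
    obtain ⟨r, hr⟩ := hp.odd_of_ne_two hodd
    refine ⟨r + 1, ?_⟩
    rw [← pow_mul, show 2 * (r + 1) = p + 1 by omega, ← hz, pow_succ, pow_orderOf_eq_one, one_mul]
  have hquad : IsQuad L A O O' O'' := by
    intro t
    refine ⟨?_, ?_, ?_, ?_⟩
    · rintro ⟨tA, tO, tO'⟩
      have : t = m₀ := line_eq hOA tO tA hOm₀ hAm₀
      subst this
      refine zpencil t hAm₀ hm₀l ?_
      have h1 : O' ∈ z • t := smul_mem z tO
      have hne : O' ≠ A := fun e' => hO'l (e' ▸ hA)
      exact line_eq hne h1 (mem_smul_of_fixed hzA hAm₀) tO' hAm₀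
    · rintro ⟨tA, tO, tO''⟩
      have : t = m₀ := line_eq hOA tO tA hOm₀ hAm₀
      subst this
      refine zpencil t hAm₀ hm₀l ?_
      have h2 : (z ^ 2) • t = t := by
        have h1 : O'' ∈ (z ^ 2) • t := by
          have h3 := smul_mem (z ^ 2) tO
          have h4 : (z ^ 2) • O = O'' := by rw [sq, mul_smul]
          exact h4 ▸ h3
        have hne : O'' ≠ A := fun e' => hO'l (by
          have hO'A : O' = A := smul_left_cancel z (e'.trans hzA.symm)
          exact hO'A ▸ hA)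
        exact line_eq hne h1 (mem_smul_of_fixed (by rw [sq, mul_smul, hzA, hzA]) hAm₀) tO'' hAm₀
      have := (MulAction.stabilizer G t).pow_mem (show z ^ 2 ∈ MulAction.stabilizer G t from h2) c
      rw [hc] at this
      exact this
    · rintro ⟨tA, tO', tO''⟩
      have h1 : A ∈ z⁻¹ • t := mem_smul_of_fixed (by rw [inv_smul_eq_iff, hzA]) tA
      have h2 : O ∈ z⁻¹ • t := (smul_mem_iff z).1 tO'
      have h3 : O' ∈ z⁻¹ • t := (smul_mem_iff z).1 tO''
      have : z⁻¹ • t = m₀ := line_eq hOA h2 h1 hOm₀ hAm₀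
      rw [this] at h3
      refine zpencil m₀ hAm₀ hm₀l ?_
      have hne : O' ≠ A := fun e' => hO'l (e' ▸ hA)
      exact line_eq hne (smul_mem z hOm₀) (mem_smul_of_fixed hzA hAm₀) h3 hAm₀
    · rintro ⟨tO, tO', tO''⟩
      have hne : O' ≠ O'' := by
        intro e'
        have e2 : O = O' := smul_left_cancel z e'
        refine zpencil m₀ hAm₀ hm₀l ?_
        exact fix_line hOA hOm₀ hAm₀ (e2.symm : z • O = O) hzA
      have hzt : z • t = t := line_eq hne (smul_mem z tO) (smul_mem z tO') tO' tO''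
      have htl : t ≠ l := fun e' => hO (e' ▸ tO)
      obtain ⟨B, hBt, hBl⟩ := exists_meet P t l
      by_cases hBA : B = A
      · exact zpencil t (hBA ▸ hBt) htl hzt
      · exact zl B hBl hBA (fix_point htl hBt hBl hzt hzl)
  set K := (S ⊓ MulAction.stabilizer G O : Subgroup G) with hK
  have hKsyl : IsSyl p (H ⊓ MulAction.stabilizer G O) K := (hS.orb_eq (hcardoff O hO)).2
  have hKA : A ∈ fixSet P K := fun k hk => (hS.1 hk.1).2
  have hKl : l ∈ fixSet L K := fun k hk => (hS.1 hk.1).1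
  have hKO : O ∈ fixSet P K := fun k hk => hk.2
  have hKO' : O' ∈ fixSet P K := fun k hk => by
    rw [hO'def, ← mul_smul, hcomm k hk.1, mul_smul, hKO k hk]
  have hKO'' : O'' ∈ fixSet P K := fun k hk => by
    rw [hO''def, ← mul_smul, hcomm k hk.1, mul_smul, hKO' k hk]
  have hKq : HasQuad L (fixSet P K) :=
    ⟨A, hKA, O, hKO, O', hKO', O'', hKO'', hquad⟩
  let inst := fixPlane hKq
  -- the order of the subplane is divisible by `p`
  have hp0 : p ∣ subOrder hKq := by
    let Sl : SubMulAction K P :=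
      { carrier := {q : P | q ∈ l}
        smul_mem' := fun k q hq => (mem_of_fixed (hKl k.1 k.2) hq : (k : G) • q ∈ l) }
    have hmod := (hKsyl.isPGroup).card_modEq_card_fixedPoints Sl
    have h1 : Nat.card Sl = n + 1 := by
      rw [← ncard_line (P := P) l, ← Nat.card_coe_set_eq]; rfl
    have h2 : Nat.card (MulAction.fixedPoints K Sl) = subOrder hKq + 1 := by
      rw [← ncard_fix_on_line hKq hKl, ← Nat.card_coe_set_eq]
      exact Nat.card_congr
        { toFun := fun q => ⟨q.1.1, q.1.2, fun k hk => congrArg Subtype.val (q.2 ⟨k, hk⟩)⟩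
          invFun := fun q => ⟨⟨q.1, q.2.1⟩, fun k => Subtype.ext (q.2.2 k.1 k.2)⟩
          left_inv := fun _ => rfl
          right_inv := fun _ => rfl }
    rw [h1, h2] at hmod
    have h3 : n ≡ 0 [MOD p] := Nat.modEq_zero_iff_dvd.2 hpn
    exact Nat.modEq_zero_iff_dvd.1 ((Nat.ModEq.add_right_cancel' 1 hmod).symm.trans h3)
  set φ := toColl (FixT P K) (FixT L K) (Subgroup.normalizer (K : Set G)) with hφ
  have := coll_faithful (FixT P K) (FixT L K)
  have : FaithfulSMul φ.range (FixT P K) :=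
    ⟨fun {a b} hab => Subtype.ext (eq_of_smul_eq_smul (α := FixT P K) hab)⟩
  -- the normaliser is 2-transitive on the subplane
  have h0 : TwoTrans φ.range (FixT P K) := by
    intro q₁ q₂ r₁ r₂ hq hr
    have pick : ∀ a b : FixT P K, a ≠ b → ∃ g ∈ Subgroup.normalizer (K : Set G),
        g • A = (a : P) ∧ g • O = (b : P) := by
      intro a b hab
      obtain ⟨l₁, hl₁, -⟩ := exists_join (FixT L K) a b
      obtain ⟨k, hak, -⟩ := exists_join (FixT L K) a a
      obtain ⟨ab, haab, hbab⟩ := exists_join (FixT L K) a b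
      obtain ⟨l', hal', hl'⟩ := exists_line_ne (FixT L K) a ab
      have hbl' : (b : P) ∉ (l' : L) := fun hb => hl' (line_eq hab hal' hb haab hbab)
      obtain ⟨g, g1, g2, g3⟩ := h.triple hA (l' := (l' : L)) (A' := (a : P)) hal' hO hbl'
      have hHx : H ⊓ MulAction.stabilizer G O = MulAction.stabilizer G ((A, l, O) : P × L × P) := by
        ext u
        constructor
        · rintro ⟨⟨u1, u2⟩, u3⟩; exact Prod.ext u2 (Prod.ext u1 u3)
        · intro hu
          have hu' : u • (A, l, O) = (A, l, O) := hu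
          exact ⟨⟨congrArg (fun x : P × L × P => x.2.1) hu', congrArg Prod.fst hu'⟩,
            congrArg (fun x : P × L × P => x.2.2) hu'⟩
      have hgx : g • ((A, l, O) : P × L × P) = ((a : P), (l' : L), (b : P)) :=
        Prod.ext g1 (Prod.ext g2 g3)
      obtain ⟨u, hu, hux⟩ := witt hHx hKsyl g (fun k hk => by
        rw [hgx]; exact Prod.ext (a.2 k hk) (Prod.ext (l'.2 k hk) (b.2 k hk)))
      rw [hgx] at hux
      exact ⟨u, hu, congrArg Prod.fst hux, congrArg (fun x : P × L × P => x.2.2) hux⟩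
    obtain ⟨g₁, hg₁, g1A, g1O⟩ := pick q₁ q₂ hq
    obtain ⟨g₂, hg₂, g2A, g2O⟩ := pick r₁ r₂ hr
    let u : Subgroup.normalizer (K : Set G) := ⟨g₂ * g₁⁻¹, mul_mem hg₂ (inv_mem hg₁)⟩
    refine ⟨⟨φ u, u, rfl⟩, Subtype.ext ?_, Subtype.ext ?_⟩
    · show (g₂ * g₁⁻¹) • (q₁ : P) = r₁
      rw [mul_smul, ← g1A, inv_smul_smul, g2A]
    · show (g₂ * g₁⁻¹) • (q₂ : P) = r₂
      rw [mul_smul, ← g1O, inv_smul_smul, g2O]
  obtain ⟨⟨_, u, rfl⟩, hord, uA, ul, uO⟩ := exists_fix_triple h0 hp hp0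
    (A := ⟨A, hKA⟩) (O := ⟨O, hKO⟩) (l := ⟨l, hKl⟩) (by exact hA) (by exact hO)
  rw [← Subgroup.orderOf_coe] at hord
  set J := (H ⊓ MulAction.stabilizer G O).subgroupOf (Subgroup.normalizer (K : Set G)) with hJ
  set ψ := φ.comp J.subtype with hψ
  have huJ : u ∈ J := Subgroup.mem_subgroupOf.2
    ⟨⟨congrArg Subtype.val ul, congrArg Subtype.val uA⟩, congrArg Subtype.val uO⟩
  have hpR : p ∣ Nat.card ψ.range := by
    have h1 := orderOf_dvd_natCard (⟨φ u, ⟨u, huJ⟩, rfl⟩ : ψ.range)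
    rw [← Subgroup.orderOf_coe] at h1
    exact hord ▸ h1
  have hKker : Nat.card K ∣ Nat.card ψ.ker := by
    have hKN : K ≤ Subgroup.normalizer (K : Set G) := Subgroup.le_normalizer
    let ι : K →* ψ.ker :=
      { toFun := fun k => ⟨⟨⟨k.1, hKN k.2⟩, Subgroup.mem_subgroupOf.2 (hKsyl.1 k.2)⟩, by
          refine MonoidHom.mem_ker.2 (eq_of_smul_eq_smul (α := FixT P K) fun q => ?_)
          rw [one_smul]
          exact Subtype.ext (q.2 k.1 k.2)⟩
        map_one' := rfl
        map_mul' := fun _ _ => rfl }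
    exact Subgroup.card_dvd_of_injective ι fun a b hab =>
      Subtype.ext (congrArg (fun x : ψ.ker => ((x.1 : Subgroup.normalizer (K : Set G)) : G)) hab)
  have hJcard : Nat.card ψ.ker * Nat.card ψ.range = Nat.card J := by
    rw [← Subgroup.index_ker, Subgroup.card_mul_index]
  have hJdvd : Nat.card J ∣ Nat.card (H ⊓ MulAction.stabilizer G O : Subgroup G) := by
    refine Subgroup.card_dvd_of_injective
      { toFun := fun j : J => ⟨(j.1 : G), Subgroup.mem_subgroupOf.1 j.2⟩
        map_one' := rfl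
        map_mul' := fun _ _ => rfl } fun a b hab => ?_
    exact Subtype.ext (Subtype.ext
      (congrArg (fun x : ↥(H ⊓ MulAction.stabilizer G O : Subgroup G) => (x : G)) hab))
  have hfin : p ^ ((Nat.card (H ⊓ MulAction.stabilizer G O : Subgroup G)).factorization p + 1) ∣
      Nat.card (H ⊓ MulAction.stabilizer G O : Subgroup G) := by
    rw [pow_succ, ← hKsyl.2]
    exact ((mul_dvd_mul hKker hpR).trans (dvd_of_eq hJcard)).trans hJdvd
  have := (hp.pow_dvd_iff_le_factorization Nat.card_pos.ne').1 hfin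
  omega

end Cfsg.Agent.CG26.OW
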