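import Cfsg.Agent.CG26.OW.HomLemma

/-!
# Ostrom-Wagner: existence of all elations
-/

set_option autoImplicit false
set_option linter.unusedSectionVars false

namespace Cfsg.Agent.CG26.OW

open Configuration

variable {G P L : Type*} [Membership P L] [ProjectivePlane P L] [Group G] [Finite G]
  [MulAction G P] [MulAction G L] [PlaneAction G P L] [Finite P] [Finite L]

omit [Group G] [Finite G] [MulAction G P] [MulAction G L] [PlaneAction G P L] in
variable (P L) in
theorem hasQuad_univ : HasQuad L (Set.univ : Set P) := by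
  obtain ⟨Z, -, -, l₀, -⟩ := @ProjectivePlane.exists_config P L _ _
  obtain ⟨l, hZl, -⟩ := exists_join L Z Z
  obtain ⟨m, hZm, hml⟩ := exists_line_ne L Z l
  obtain ⟨A, hA, hAZ⟩ := exists_mem_ne P l Z
  obtain ⟨B, hB, hBZ, hBA⟩ := exists_mem_ne₂ P l Z A
  obtain ⟨C, hC, hCZ⟩ := exists_mem_ne P m Z
  obtain ⟨D, hD, hDZ, hDC⟩ := exists_mem_ne₂ P m Z C
  refine ⟨A, trivial, B, trivial, C, trivial, D, trivial, fun t => ⟨?_, ?_, ?_, ?_⟩⟩
  · rintro ⟨a, b, c⟩
    exact hCZ (point_eq hml hC (line_eq hBA.symm a b hA hB ▸ c) hZm hZl)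
  · rintro ⟨a, b, d⟩
    exact hDZ (point_eq hml hD (line_eq hBA.symm a b hA hB ▸ d) hZm hZl)
  · rintro ⟨a, c, d⟩
    exact hAZ (point_eq hml (line_eq hDC.symm c d hC hD ▸ a) hA hZm hZl)
  · rintro ⟨b, c, d⟩
    exact hBZ (point_eq hml (line_eq hDC.symm c d hC hD ▸ b) hB hZm hZl)

/-- The homology induced on the fixed subplane. -/
theorem invHom_of_normalizer {W : Subgroup G} (hq : HasQuad L (fixSet P W))
    (hodd : Odd (subOrder hq)) (x : Subgroup.normalizer (W : Set G)) (hx2 : (x : G) * x ∈ W)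
    (hnq : ¬ HasQuad L (fixSet P W ∩ {p | (x : G) • p = p})) :
    ∃ (C₀ : FixT P W) (a₀ : FixT L W),
      InvHom (toColl (FixT P W) (FixT L W) (Subgroup.normalizer (W : Set G)) x) C₀ a₀ := by
  let inst := fixPlane hq
  have h2 : ∀ p : FixT P W, x • x • p = p := fun p => Subtype.ext (by
    show (x : G) • (x : G) • (p : P) = p
    rw [← mul_smul]; exact p.2 _ hx2)
  have h1 : ∃ p : FixT P W, x • p ≠ p := by
    by_contra hc
    push_neg at hc
    exact hnq (hq.mono fun p hp => ⟨hp, congrArg Subtype.val (hc ⟨p, hp⟩)⟩)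
  rcases involution_cases (L := FixT L W) h2 h1 with ⟨hq', -⟩ | ⟨-, a, ha⟩
  · exfalso
    refine hnq ((hasQuad_of_fixT hq hq').mono ?_)
    rintro p ⟨q, hq, rfl⟩
    exact ⟨q.2, congrArg Subtype.val hq⟩
  obtain ⟨C, hCa, -, hC⟩ := exists_centre_off_axis ha h2 hodd
  refine ⟨C, a, ?_, ?_, hCa, fun l hl => hC l hl, fun p hp => ha p hp⟩
  · intro e
    obtain ⟨p, hp⟩ := h1
    have := congrArg (fun g : Coll (FixT P W) (FixT L W) => g • p) e
    exact hp (this.trans (one_smul _ p))
  · have := coll_faithful (FixT P W) (FixT L W)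
    refine eq_of_smul_eq_smul (α := FixT P W) fun p => ?_
    rw [mul_smul, one_smul]
    exact h2 p

variable [FaithfulSMul G P]

theorem exists_perspectivity (h : TwoTrans G P) : ∃ (g : G) (a : L), g ≠ 1 ∧ IsAxis P g a := by
  classical
  by_contra hno
  push_neg at hno
  have hnp : NoPersp G P L := fun g hg a => hno g a hg
  have := Fact.mk Nat.prime_two
  have hodd := order_odd h hnp
  cases nonempty_fintype G
  cases nonempty_fintype (Subgroup G)
  let S : Finset (Subgroup G) := Finset.univ.filter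
    fun V : Subgroup G => IsPGroup 2 V ∧ HasQuad L (fixSet P V)
  have hbot : (⊥ : Subgroup G) ∈ S := by
    refine Finset.mem_filter.2 ⟨Finset.mem_univ _, IsPGroup.of_bot, ?_⟩
    refine (hasQuad_univ P L).mono fun p _ w hw => ?_
    rw [Subgroup.mem_bot] at hw
    rw [hw, one_smul]
  obtain ⟨W, hWS, hWmax⟩ := Finset.exists_max_image S (fun V => Nat.card V) ⟨⊥, hbot⟩
  obtain ⟨hW, hq⟩ := (Finset.mem_filter.1 hWS).2
  have hmax : ∀ V : Subgroup G, IsPGroup 2 V → HasQuad L (fixSet P V) → Nat.card V ≤ Nat.card W :=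
    fun V h1 h2 => hWmax V (Finset.mem_filter.2 ⟨Finset.mem_univ _, h1, h2⟩)
  obtain ⟨N, hN⟩ := IsPGroup.iff_card.1 hW
  obtain ⟨i, hi⟩ := order_eq_pow_of_two_group N W hN hq
  have hkodd : Odd (subOrder hq) := by
    rw [hi] at hodd
    exact (Nat.odd_pow_iff (pow_ne_zero i two_ne_zero)).1 hodd
  let inst := fixPlane hq
  have := coll_faithful (FixT P W) (FixT L W)
  obtain ⟨p, x, hp, hx⟩ : ∃ p x : ℕ, p.Prime ∧ ProjectivePlane.order (FixT P W) (FixT L W) = p ^ x := by
    refine order_prime_pow_of_homologies (G := Coll (FixT P W) (FixT L W)) hkodd ?_ ?_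
    · intro A C
      obtain ⟨x, hxN, hx2, hxA, hxC, hnq⟩ := subplane_homologies h hodd hW hq hmax A.2 C.2
      obtain ⟨C₀, a₀, hinv⟩ := invHom_of_normalizer hq hkodd ⟨x, hxN⟩ hx2 hnq
      exact ⟨_, C₀, a₀, hinv, Subtype.ext hxA, Subtype.ext hxC⟩
    · intro a c
      have hq' : HasQuad (P := Dual L) (Dual P) (fixSet (Dual L) W) := hasQuad_dual_of_hasQuad hq
      have hodd' : Odd (ProjectivePlane.order (Dual L) (Dual P)) := by
        rw [ProjectivePlane.Dual.order]; exact hodd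
      have hmax' : ∀ V : Subgroup G, IsPGroup 2 V →
          HasQuad (P := Dual L) (Dual P) (fixSet (Dual L) V) → Nat.card V ≤ Nat.card W :=
        fun V h1 h2 => hmax V h1 (hasQuad_dual_iff.1 h2)
      have := dualFaithful (G := G) (P := P) (L := L)
      obtain ⟨x, hxN, hx2, hxA, hxC, hnq⟩ :=
        subplane_homologies (P := Dual L) (L := Dual P) h.dual hodd' hW hq' hmax' a.2 c.2
      have hnq' : ¬ HasQuad L (fixSet P W ∩ {p | x • p = p}) := by
        intro hqx
        have hsub : fixSet P W ∩ {p | x • p = p} ⊆ fixSet P (W ⊔ Subgroup.zpowers x : Subgroup G) := by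
          intro p ⟨hp1, hp2⟩ w hw
          have : W ⊔ Subgroup.zpowers x ≤ MulAction.stabilizer G p :=
            sup_le (fun v hv => hp1 v hv) (Subgroup.zpowers_le.2 hp2)
          exact this hw
        refine hnq ((hasQuad_dual_of_hasQuad (hqx.mono hsub)).mono fun l hl => ⟨?_, ?_⟩)
        · exact fixSet_anti le_sup_left hl
        · exact hl x ((le_sup_right : Subgroup.zpowers x ≤ _) (Subgroup.mem_zpowers x))
      obtain ⟨C₀, a₀, hinv⟩ := invHom_of_normalizer hq hkodd ⟨x, hxN⟩ hx2 hnq'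
      exact ⟨_, C₀, a₀, hinv, Subtype.ext hxA, Subtype.ext hxC⟩
  have hn : ProjectivePlane.order P L = p ^ (x * 2 ^ i) := by
    rw [hi, pow_mul, ← hx]; rfl
  have hp2 : p ≠ 2 := by
    rintro rfl
    have h2n : 2 ≤ 2 ^ (x * 2 ^ i) := hn ▸ two_le_order P L
    rw [hn] at hodd
    have hne : x * 2 ^ i ≠ 0 := fun e => by rw [e, pow_zero] at h2n; omega
    exact Nat.not_even_iff_odd.2 hodd (Nat.even_pow.2 ⟨even_two, hne⟩)
  exact false_of_prime_pow h hnp hp hp2 hn

/-- In a finite plane with a 2-transitive group all elations exist. -/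
theorem all_elations_of_twoTrans (h : TwoTrans G P) :
    (∀ (b : L) (X : P), X ∈ b → Nat.card (dirGp G b X) = ProjectivePlane.order P L) ∧
      (∀ b : L, Nat.card (elA G P b) = ProjectivePlane.order P L ^ 2) ∧
      (∃ p x : ℕ, p.Prime ∧ ProjectivePlane.order P L = p ^ x) ∧
      ∀ b : L, ∀ u ∈ elA G P b, ∀ v ∈ elA G P b, u * v = v * u := by
  obtain ⟨g, a, hg, hga⟩ := exists_perspectivity (L := L) h
  exact all_elations h hg hga

end Cfsg.Agent.CG26.OW
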