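import Cfsg.Agent.CG26.OW.Basic

/-!
# Ostrom-Wagner: the collineation group and fixed subplanes
-/

set_option autoImplicit false
set_option linter.unusedSectionVars false

namespace Cfsg.Agent.CG26.OW

open Configuration

section Coll

variable (P L : Type*) [Membership P L]

/-- The group of collineations, as compatible pairs of permutations. -/
def Coll : Subgroup (Equiv.Perm P × Equiv.Perm L) where
  carrier := {g | ∀ (p : P) (l : L), g.1 p ∈ g.2 l ↔ p ∈ l}
  one_mem' := fun p l => Iff.rfl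
  mul_mem' := fun {a b} ha hb p l => (ha (b.1 p) (b.2 l)).trans (hb p l)
  inv_mem' := fun {a} ha p l => by
    have := ha (a.1⁻¹ p) (a.2⁻¹ l)
    simpa using this.symm

instance collMulActionP : MulAction (Coll P L) P where
  smul g p := g.1.1 p
  one_smul _ := rfl
  mul_smul _ _ _ := rfl

instance collMulActionL : MulAction (Coll P L) L where
  smul g l := g.1.2 l
  one_smul _ := rfl
  mul_smul _ _ _ := rfl

instance collPlaneAction : PlaneAction (Coll P L) P L :=
  ⟨fun g p l => g.2 p l⟩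

variable {P L}

@[simp] theorem coll_smul_point (g : Coll P L) (p : P) : g • p = g.1.1 p := rfl

@[simp] theorem coll_smul_line (g : Coll P L) (l : L) : g • l = g.1.2 l := rfl

variable (P L) in
theorem coll_faithful [Finite P] [Finite L] [ProjectivePlane P L] :
    FaithfulSMul (Coll P L) P := by
  refine ⟨fun {g₁ g₂} h => ?_⟩
  have h' : ∀ p : P, (g₂⁻¹ * g₁) • p = p := fun p => by rw [mul_smul, h p, inv_smul_smul]
  have hl : ∀ l : L, (g₂⁻¹ * g₁) • l = l := fix_all_lines h'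
  have h1 : g₂⁻¹ * g₁ = 1 := by
    refine Subtype.ext (Prod.ext (Equiv.ext fun p => ?_) (Equiv.ext fun l => ?_))
    · exact h' p
    · exact hl l
  exact (inv_mul_eq_one.1 h1).symm

variable (G : Type*) [Group G] [MulAction G P] [MulAction G L] [PlaneAction G P L]

variable (P L) in
/-- The collineation induced by a group element. -/
def toColl : G →* Coll P L where
  toFun g := ⟨(MulAction.toPermHom G P g, MulAction.toPermHom G L g),
    fun p l => PlaneAction.smul_mem_smul g p l⟩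
  map_one' := Subtype.ext (Prod.ext (map_one _) (map_one _))
  map_mul' g h := Subtype.ext (Prod.ext (map_mul _ g h) (map_mul _ g h))

@[simp] theorem toColl_smul_point (g : G) (p : P) : toColl P L G g • p = g • p := rfl

@[simp] theorem toColl_smul_line (g : G) (l : L) : toColl P L G g • l = g • l := rfl

end Coll

section SubgroupAction

variable {G P L : Type*} [Membership P L] [Group G] [MulAction G P] [MulAction G L]

instance subgroupPlaneAction [PlaneAction G P L] (H : Subgroup G) : PlaneAction H P L :=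
  ⟨fun g p l => PlaneAction.smul_mem_smul (g : G) p l⟩

end SubgroupAction

section Fix

variable {G : Type*} [Group G]

/-- The common fixed set of a subgroup. -/
def fixSet (X : Type*) [MulAction G X] (W : Subgroup G) : Set X :=
  {x | ∀ w ∈ W, w • x = x}

variable {X : Type*} [MulAction G X] {W : Subgroup G}

theorem mem_fixSet {x : X} : x ∈ fixSet X W ↔ ∀ w ∈ W, w • x = x := Iff.rfl

theorem fixSet_anti {W' : Subgroup G} (h : W ≤ W') : fixSet X W' ⊆ fixSet X W :=
  fun _ hx w hw => hx w (h hw)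

theorem smul_mem_fixSet {g : G} (hg : g ∈ Subgroup.normalizer (W : Set G)) {x : X}
    (hx : x ∈ fixSet X W) : g • x ∈ fixSet X W := by
  intro w hw
  have h1 : g⁻¹ * w * g ∈ W := by
    have := (Subgroup.mem_normalizer_iff.1 (inv_mem hg) w).1 hw
    simpa using this
  calc w • g • x = g • (g⁻¹ * w * g) • x := by rw [← mul_smul, ← mul_smul]; group
    _ = g • x := by rw [hx _ h1]

/-- The fixed set as a type. -/
abbrev FixT (X : Type*) [MulAction G X] (W : Subgroup G) : Type _ := ↥(fixSet X W)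

instance fixTMulAction :
    MulAction (Subgroup.normalizer (W : Set G)) (FixT X W) where
  smul g x := ⟨(g : G) • (x : X), smul_mem_fixSet g.2 x.2⟩
  one_smul x := Subtype.ext (one_smul G (x : X))
  mul_smul g h x := Subtype.ext (mul_smul (g : G) h (x : X))

@[simp] theorem coe_fixT_smul (g : Subgroup.normalizer (W : Set G)) (x : FixT X W) :
    ((g • x : FixT X W) : X) = (g : G) • (x : X) := rfl

variable {P L : Type*} [Membership P L] [MulAction G P] [MulAction G L]

instance fixTMembership : Membership (FixT P W) (FixT L W) :=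
  ⟨fun l p => (p : P) ∈ (l : L)⟩

theorem fixT_mem_iff {p : FixT P W} {l : FixT L W} : p ∈ l ↔ (p : P) ∈ (l : L) := Iff.rfl

variable [PlaneAction G P L]

instance fixTPlaneAction :
    PlaneAction (Subgroup.normalizer (W : Set G)) (FixT P W) (FixT L W) :=
  ⟨fun g p l => PlaneAction.smul_mem_smul (g : G) (p : P) (l : L)⟩

variable [ProjectivePlane P L]

theorem line_mem_fixSet {p q : P} {l : L} (hpq : p ≠ q) (hpl : p ∈ l) (hql : q ∈ l)
    (hp : p ∈ fixSet P W) (hq : q ∈ fixSet P W) : l ∈ fixSet L W :=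
  fun w hw => fix_line hpq hpl hql (hp w hw) (hq w hw)

theorem point_mem_fixSet {p : P} {l m : L} (hlm : l ≠ m) (hpl : p ∈ l) (hpm : p ∈ m)
    (hl : l ∈ fixSet L W) (hm : m ∈ fixSet L W) : p ∈ fixSet P W :=
  fun w hw => fix_point hlm hpl hpm (hl w hw) (hm w hw)

/-- If the fixed points contain a quadrangle, the fixed lines contain a quadrilateral. -/
theorem hasQuad_dual_of_hasQuad (h : HasQuad L (fixSet P W)) :
    HasQuad (P := Dual L) (Dual P) (fixSet (Dual L) W) := by
  obtain ⟨A, hA, B, hB, C, hC, D, hD, hq⟩ := h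
  obtain ⟨ab, h1, h2⟩ := exists_join L A B
  obtain ⟨bc, h3, h4⟩ := exists_join L B C
  obtain ⟨cd, h5, h6⟩ := exists_join L C D
  obtain ⟨da, h7, h8⟩ := exists_join L D A
  exact ⟨ab, line_mem_fixSet (L := L) hq.ne₁₂ h1 h2 hA hB, bc, line_mem_fixSet (L := L) hq.ne₂₃ h3 h4 hB hC,
    cd, line_mem_fixSet (L := L) hq.ne₃₄ h5 h6 hC hD, da, line_mem_fixSet (L := L) hq.ne₁₄.symm h7 h8 hD hA,
    hq.dual h1 h2 h3 h4 h5 h6 h7 h8⟩

theorem hasQuad_dual_iff :
    HasQuad (P := Dual L) (Dual P) (fixSet (Dual L) W) ↔ HasQuad L (fixSet P W) :=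
  ⟨fun h => hasQuad_dual_of_hasQuad (P := Dual L) (L := Dual P) h, hasQuad_dual_of_hasQuad⟩

/-- The fixed subplane. -/
@[instance_reducible]
noncomputable def fixPlane (h : HasQuad L (fixSet P W)) :
    ProjectivePlane (FixT P W) (FixT L W) := by
  classical
  choose A hA B hB C hC D hD hq using h
  have eoe : ∀ {p₁ p₂ : FixT P W} {l₁ l₂ : FixT L W}, p₁ ∈ l₁ → p₂ ∈ l₁ → p₁ ∈ l₂ → p₂ ∈ l₂ →
      p₁ = p₂ ∨ l₁ = l₂ := fun h1 h2 h3 h4 =>
    (Nondegenerate.eq_or_eq (P := P) (L := L) h1 h2 h3 h4).imp Subtype.ext Subtype.ext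
  have jn : ∀ {p q : FixT P W}, p ≠ q → {l : FixT L W // p ∈ l ∧ q ∈ l} := fun {p q} h =>
    have h' : (p : P) ≠ q := fun e => h (Subtype.ext e)
    ⟨⟨HasLines.mkLine h', line_mem_fixSet h' (HasLines.mkLine_ax h').1 (HasLines.mkLine_ax h').2
      p.2 q.2⟩, HasLines.mkLine_ax h'⟩
  have mt : ∀ {l m : FixT L W}, l ≠ m → {p : FixT P W // p ∈ l ∧ p ∈ m} := fun {l m} h =>
    have h' : (l : L) ≠ m := fun e => h (Subtype.ext e)
    ⟨⟨HasPoints.mkPoint h', point_mem_fixSet h' (HasPoints.mkPoint_ax h').1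
      (HasPoints.mkPoint_ax h').2 l.2 m.2⟩, HasPoints.mkPoint_ax h'⟩
  have nAB : (⟨A, hA⟩ : FixT P W) ≠ ⟨B, hB⟩ := fun e => hq.ne₁₂ (congrArg Subtype.val e)
  have nBC : (⟨B, hB⟩ : FixT P W) ≠ ⟨C, hC⟩ := fun e => hq.ne₂₃ (congrArg Subtype.val e)
  have nBD : (⟨B, hB⟩ : FixT P W) ≠ ⟨D, hD⟩ := fun e => hq.ne₂₄ (congrArg Subtype.val e)
  have nAD : (⟨A, hA⟩ : FixT P W) ≠ ⟨D, hD⟩ := fun e => hq.ne₁₄ (congrArg Subtype.val e)
  exact
  { eq_or_eq := eoe
    mkPoint := fun h => (mt h).1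
    mkPoint_ax := fun h => (mt h).2
    mkLine := fun h => (jn h).1
    mkLine_ax := fun h => (jn h).2
    exists_point := fun l => by
      by_contra hc
      push_neg at hc
      exact (hq (l : L)).1 ⟨hc ⟨A, hA⟩, hc ⟨B, hB⟩, hc ⟨C, hC⟩⟩
    exists_line := fun p => by
      by_contra hc
      push_neg at hc
      obtain ⟨h1, h2⟩ := (jn nAB).2
      obtain ⟨h3, h4⟩ := (jn nBC).2
      obtain ⟨h5, h6⟩ := (jn nAD).2
      have hp : (p : P) = B := point_eq (P := P) (L := L)
        (fun e => (hq ((jn nAB).1 : L)).1 ⟨h1, h2, by rw [e]; exact h4⟩)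
        (hc (jn nAB).1) (hc (jn nBC).1) h2 h3
      have hb : B ∈ ((jn nAD).1 : L) := hp ▸ hc (jn nAD).1
      exact (hq _).2.1 ⟨h5, hb, h6⟩
    exists_config := by
      obtain ⟨h1, h2⟩ := (jn nAD).2
      obtain ⟨h3, h4⟩ := (jn nBC).2
      obtain ⟨h5, h6⟩ := (jn nBD).2
      exact ⟨⟨A, hA⟩, ⟨B, hB⟩, ⟨C, hC⟩, (jn nAD).1, (jn nBC).1, (jn nBD).1,
        fun e => (hq _).1 ⟨e, h3, h4⟩, fun e => (hq _).2.1 ⟨e, h5, h6⟩,
        fun e => (hq _).2.1 ⟨h1, e, h2⟩, h3, h5, fun e => (hq _).2.2.1 ⟨h1, e, h2⟩, h4,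
        fun e => (hq _).2.2.2 ⟨h5, e, h6⟩⟩ }

end Fix

end Cfsg.Agent.CG26.OW
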