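import Cfsg.Agent.CG26.OW.TwoTrans

/-!
# Ostrom-Wagner: Sylow subgroups of subgroups
-/

set_option autoImplicit false
set_option linter.unusedSectionVars false

namespace Cfsg.Agent.CG26.OW

open scoped Pointwise

variable {G : Type*} [Group G] [Finite G] (p : ℕ) [hp : Fact p.Prime]

/-- `S` is a Sylow `p`-subgroup of the subgroup `H`. -/
def IsSyl (H S : Subgroup G) : Prop :=
  S ≤ H ∧ Nat.card S = p ^ (Nat.card H).factorization p

variable {p}

theorem IsSyl.isPGroup {H S : Subgroup G} (h : IsSyl p H S) : IsPGroup p S :=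
  IsPGroup.of_card h.2

theorem isPGroup_card_le {H U : Subgroup G} (hU : IsPGroup p U) (hle : U ≤ H) :
    Nat.card U ≤ p ^ (Nat.card H).factorization p := by
  obtain ⟨i, hi⟩ := IsPGroup.iff_card.1 hU
  have hd : Nat.card U ∣ Nat.card H := Subgroup.card_dvd_of_le hle
  rw [hi] at hd ⊢
  exact Nat.pow_le_pow_right hp.out.pos
    ((hp.out.pow_dvd_iff_le_factorization Nat.card_pos.ne').1 hd)

theorem exists_isSyl_ge {H U : Subgroup G} (hU : IsPGroup p U) (hle : U ≤ H) :
    ∃ S : Subgroup G, IsSyl p H S ∧ U ≤ S := by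
  have hU' : IsPGroup p (U.subgroupOf H) :=
    hU.of_equiv (Subgroup.subgroupOfEquivOfLe hle).symm
  obtain ⟨S, hS⟩ := hU'.exists_le_sylow
  refine ⟨(S : Subgroup H).map H.subtype, ⟨Subgroup.map_subtype_le _, ?_⟩, ?_⟩
  · rw [Subgroup.card_map_of_injective H.subtype_injective]
    exact Sylow.card_eq_multiplicity S
  · intro u hu
    exact ⟨⟨u, hle hu⟩, hS hu, rfl⟩

theorem exists_isSyl (p : ℕ) [Fact p.Prime] (H : Subgroup G) : ∃ S : Subgroup G, IsSyl p H S := by
  obtain ⟨S, hS, -⟩ := exists_isSyl_ge (p := p) (IsPGroup.of_bot) (bot_le (a := H))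
  exact ⟨S, hS⟩

theorem IsSyl.conj {H S S' : Subgroup G} (h : IsSyl p H S) (h' : IsSyl p H S') :
    ∃ u ∈ H, ∀ x : G, x ∈ S ↔ u * x * u⁻¹ ∈ S' := by
  let T : Sylow p H := Sylow.ofCard (S.subgroupOf H) (by
    rw [← h.2]; exact Nat.card_congr (Subgroup.subgroupOfEquivOfLe h.1).toEquiv)
  let T' : Sylow p H := Sylow.ofCard (S'.subgroupOf H) (by
    rw [← h'.2]; exact Nat.card_congr (Subgroup.subgroupOfEquivOfLe h'.1).toEquiv)
  obtain ⟨u, hu⟩ := MulAction.exists_smul_eq H T T'
  refine ⟨u, u.2, fun x => ?_⟩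
  have key : ∀ y : H, y ∈ S.subgroupOf H ↔ u * y * u⁻¹ ∈ S'.subgroupOf H := by
    intro y
    have e : S'.subgroupOf H = MulAut.conj u • S.subgroupOf H := by
      rw [show S'.subgroupOf H = (T' : Subgroup H) from rfl, ← hu, Sylow.coe_subgroup_smul]
      rfl
    rw [e, ← MulAut.conj_apply]
    exact Subgroup.smul_mem_pointwise_smul_iff.symm
  constructor
  · intro hx
    exact (key ⟨x, h.1 hx⟩).1 hx
  · intro hx
    have hxH : x ∈ H := by
      have := H.mul_mem (H.mul_mem (H.inv_mem u.2) (h'.1 hx)) u.2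
      simpa [mul_assoc] using this
    exact (key ⟨x, hxH⟩).2 hx

variable {X : Type*} [MulAction G X]

/-- Witt: the normaliser of a Sylow subgroup of a point stabiliser is transitive on its fixed
points in the orbit. -/
theorem witt {H : Subgroup G} {x : X} (hx : H = MulAction.stabilizer G x) {K : Subgroup G}
    (hK : IsSyl p H K) (g : G) (hfix : ∀ k ∈ K, k • g • x = g • x) :
    ∃ u ∈ Subgroup.normalizer (K : Set G), u • x = g • x := by
  set H' := MulAction.stabilizer G (g • x) with hH'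
  have hcard : Nat.card H' = Nat.card H := by
    rw [hx, hH']
    exact (Nat.card_congr (MulAction.stabilizerEquivStabilizer (g := g) (a := x) (b := g • x)
      rfl).toEquiv).symm
  have h1 : IsSyl p H' K := ⟨fun k hk => hfix k hk, by rw [hcard]; exact hK.2⟩
  have h2 : IsSyl p H' (K.map (MulAut.conj g).toMonoidHom) := by
    refine ⟨?_, ?_⟩
    · rintro _ ⟨k, hk, rfl⟩
      have hkx : k • x = x := by
        have := hK.1 hk
        rw [hx] at this
        exact this
      show (g * k * g⁻¹) • g • x = g • x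
      rw [mul_smul, mul_smul, inv_smul_smul, hkx]
    · rw [Subgroup.card_map_of_injective (MulAut.conj g).injective, hcard]
      exact hK.2
  obtain ⟨u, hu, huK⟩ := h1.conj h2
  refine ⟨u⁻¹ * g, ?_, by rw [mul_smul, inv_smul_eq_iff]; exact (hu : u • g • x = g • x).symm⟩
  rw [Subgroup.mem_normalizer_iff]
  intro k
  have e1 : k ∈ K ↔ g * k * g⁻¹ ∈ K.map (MulAut.conj g).toMonoidHom := by
    constructor
    · exact fun hk => ⟨k, hk, rfl⟩
    · rintro ⟨k', hk', he⟩
      have : k' = k := (MulAut.conj g).injective he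
      rwa [this] at hk'
  rw [e1, huK (u⁻¹ * g * k * (u⁻¹ * g)⁻¹)]
  congr! 1
  group

/-- A Sylow subgroup is transitive on an orbit of prime power length. -/
theorem IsSyl.orb_eq {H S : Subgroup G} (hS : IsSyl p H S) {x : X} {e : ℕ}
    (he : (orb H x).ncard = p ^ e) :
    orb S x = orb H x ∧
      IsSyl p (H ⊓ MulAction.stabilizer G x) (S ⊓ MulAction.stabilizer G x) := by
  have hsub : orb S x ⊆ orb H x := fun y ⟨u, hu, hy⟩ => ⟨u, hS.1 hu, hy⟩
  have hfin : (orb H x).Finite :=
    Set.finite_of_ncard_ne_zero (by rw [he]; exact pow_ne_zero _ hp.out.ne_zero)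
  have h1 := orb_ncard_mul S x
  have h2 := orb_ncard_mul H x
  rw [he] at h2
  have hv : (Nat.card H).factorization p =
      e + (Nat.card (H ⊓ MulAction.stabilizer G x : Subgroup G)).factorization p := by
    rw [← h2, Nat.factorization_mul (pow_ne_zero _ hp.out.ne_zero) Nat.card_pos.ne']
    simp [hp.out.factorization_pow]
  have hle := isPGroup_card_le (H := H ⊓ MulAction.stabilizer G x)
    (hS.isPGroup.to_le (inf_le_left : S ⊓ MulAction.stabilizer G x ≤ S)) (inf_le_inf_right _ hS.1)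
  have horb : (orb S x).ncard ≤ p ^ e := he ▸ Set.ncard_le_ncard hsub hfin
  rw [hS.2, hv, pow_add] at h1
  have hs0 : 0 < Nat.card (S ⊓ MulAction.stabilizer G x : Subgroup G) := Nat.card_pos
  have he0 : 0 < p ^ e := pow_pos hp.out.pos _
  refine ⟨Set.eq_of_subset_of_ncard_le hsub ?_ hfin, inf_le_inf_right _ hS.1, ?_⟩
  · rw [he]
    nlinarith
  · nlinarith

theorem dvd_ncard_of_orb {H : Subgroup G} {d : ℕ} :
    ∀ {s : Set X}, s.Finite → (∀ h ∈ H, ∀ x ∈ s, h • x ∈ s) →
      (∀ x ∈ s, d ∣ (orb H x).ncard) → d ∣ s.ncard := by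
  classical
  suffices key : ∀ (N : ℕ) (s : Set X), s.Finite → s.ncard ≤ N → (∀ h ∈ H, ∀ x ∈ s, h • x ∈ s) →
      (∀ x ∈ s, d ∣ (orb H x).ncard) → d ∣ s.ncard from
      fun {s} hfin => key _ s hfin le_rfl
  intro N
  induction N with
  | zero => intro s _ hs _ _; rw [Nat.le_zero.1 hs]; exact dvd_zero d
  | succ N IH =>
    intro s hfin hs hinv hd
    by_cases hem : s = ∅
    · rw [hem, Set.ncard_empty]; exact dvd_zero d
    obtain ⟨x, hx⟩ := Set.nonempty_iff_ne_empty.2 hem
    have hsub : orb H x ⊆ s := by rintro y ⟨u, hu, rfl⟩; exact hinv u hu x hx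
    have hpos : 0 < (orb H x).ncard :=
      (Set.ncard_pos (hfin.subset hsub)).2 ⟨x, self_mem_orb H x⟩
    have hdiff : (s \ orb H x).ncard + (orb H x).ncard = s.ncard :=
      Set.ncard_sdiff_add_ncard_of_subset hsub hfin
    rw [← hdiff]
    refine dvd_add (IH _ (hfin.subset Set.sdiff_subset) (by omega) ?_ fun y hy => hd y hy.1) (hd x hx)
    intro u hu y hy
    refine ⟨hinv u hu y hy.1, ?_⟩
    rintro ⟨w, hw, e⟩
    exact hy.2 ⟨u⁻¹ * w, H.mul_mem (H.inv_mem hu) hw, by rw [mul_smul, e, inv_smul_smul]⟩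

end Cfsg.Agent.CG26.OW
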