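import Cfsg.Agent.CG26.OW.Invol

/-!
# Ostrom-Wagner: consequences of 2-transitivity, perspectivities
-/

set_option autoImplicit false
set_option linter.unusedSectionVars false

namespace Cfsg.Agent.CG26.OW

open Configuration

/-- 2-transitivity on points. -/
def TwoTrans (G P : Type*) [SMul G P] : Prop :=
  ∀ p₁ p₂ q₁ q₂ : P, p₁ ≠ p₂ → q₁ ≠ q₂ → ∃ g : G, g • p₁ = q₁ ∧ g • p₂ = q₂

section Orbit

variable {G X : Type*} [Group G] [Finite G] [MulAction G X]

/-- The orbit of a subgroup, as a set. -/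
def orb (H : Subgroup G) (x : X) : Set X := {y | ∃ h ∈ H, h • x = y}

theorem self_mem_orb (H : Subgroup G) (x : X) : x ∈ orb H x := ⟨1, one_mem H, one_smul G x⟩

theorem orb_ncard_mul (H : Subgroup G) (x : X) :
    (orb H x).ncard * Nat.card (H ⊓ MulAction.stabilizer G x : Subgroup G) = Nat.card H := by
  have h1 : orb H x = MulAction.orbit H x := by
    ext y
    exact ⟨fun ⟨h, hh, e⟩ => ⟨⟨h, hh⟩, e⟩, fun ⟨⟨h, hh⟩, e⟩ => ⟨h, hh, e⟩⟩
  have h2 : Nat.card (MulAction.stabilizer H x) =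
      Nat.card (H ⊓ MulAction.stabilizer G x : Subgroup G) :=
    Nat.card_congr
      { toFun := fun h => ⟨h.1.1, h.1.2, h.2⟩
        invFun := fun h => ⟨⟨h.1, h.2.1⟩, h.2.2⟩
        left_inv := fun _ => rfl
        right_inv := fun _ => rfl }
  rw [h1, ← h2, ← Nat.card_coe_set_eq, ← Nat.card_prod]
  exact Nat.card_congr (MulAction.orbitProdStabilizerEquivGroup H x)

end Orbit

section Transfer

variable {G P L : Type*} [Membership P L] [ProjectivePlane P L] [Group G] [Finite G]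
  [MulAction G P] [MulAction G L] [PlaneAction G P L] [Finite P] [Finite L]

/-- Two orbits on points give two orbits on lines. -/
theorem orbit_transfer (H : Subgroup G) (Q : P → Prop)
    (hQ : ∀ x y : P, (Q x ↔ Q y) → ∃ h ∈ H, h • x = y)
    (R : L → Prop) (hRinv : ∀ h ∈ H, ∀ m : L, R m → R (h • m))
    (hex : ∃ m₀ : L, R m₀) {m m' : L} (hm : ¬ R m) (hm' : ¬ R m') :
    ∃ h ∈ H, h • m = m' := by
  classical
  cases nonempty_fintype P
  cases nonempty_fintype L
  have : Fintype H := Fintype.ofFinite H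
  have : Fintype (Quotient (MulAction.orbitRel H P)) := Fintype.ofFinite _
  have : Fintype (Quotient (MulAction.orbitRel H L)) := Fintype.ofFinite _
  by_contra hne
  obtain ⟨m₀, hm₀⟩ := hex
  have hP : Fintype.card (Quotient (MulAction.orbitRel H P)) ≤ 2 := by
    rw [← Fintype.card_bool]
    refine Fintype.card_le_of_injective (fun q => decide (Q q.out)) fun a b hab => ?_
    obtain ⟨h, hh, he⟩ := hQ b.out a.out (decide_eq_decide.1 hab).symm
    rw [← Quotient.out_eq a, ← Quotient.out_eq b]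
    exact Quotient.sound ⟨⟨h, hh⟩, he⟩
  have hL : 2 < Fintype.card (Quotient (MulAction.orbitRel H L)) := by
    rw [Fintype.two_lt_card_iff]
    refine ⟨Quotient.mk _ m, Quotient.mk _ m', Quotient.mk _ m₀, ?_, ?_, ?_⟩
    · intro e
      obtain ⟨⟨h, hh⟩, he⟩ := Quotient.exact e.symm
      exact hne ⟨h, hh, he⟩
    · intro e
      obtain ⟨⟨h, hh⟩, he⟩ := Quotient.exact e
      have he' : h • m₀ = m := he
      exact hm (he' ▸ hRinv h hh m₀ hm₀)
    · intro e
      obtain ⟨⟨h, hh⟩, he⟩ := Quotient.exact e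
      have he' : h • m₀ = m' := he
      exact hm' (he' ▸ hRinv h hh m₀ hm₀)
  have h1 := MulAction.sum_card_fixedBy_eq_card_orbits_mul_card_group H P
  have h2 := MulAction.sum_card_fixedBy_eq_card_orbits_mul_card_group H L
  have h3 : ∀ h : H, Fintype.card (MulAction.fixedBy P h) = Fintype.card (MulAction.fixedBy L h) := by
    intro h
    rw [← Nat.card_eq_fintype_card, ← Nat.card_eq_fintype_card]
    exact natCard_fixed_points_eq (P := P) (L := L) (h : G)
  rw [Finset.sum_congr rfl fun h _ => h3 h, h2] at h1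
  have := Nat.eq_of_mul_eq_mul_right Fintype.card_pos h1
  omega

end Transfer

section TT

variable {G P L : Type*} [Membership P L] [ProjectivePlane P L] [Group G] [Finite G]
  [MulAction G P] [MulAction G L] [PlaneAction G P L] [Finite P] [Finite L]

variable (L) in
include L in
theorem TwoTrans.point (h : TwoTrans G P) (p q : P) : ∃ g : G, g • p = q := by
  obtain ⟨l, -, -⟩ := exists_join L p q
  obtain ⟨p', -, hp'⟩ := exists_mem_ne P l p
  obtain ⟨q', -, hq'⟩ := exists_mem_ne P l q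
  obtain ⟨g, hg, -⟩ := h p p' q q' hp'.symm hq'.symm
  exact ⟨g, hg⟩

theorem TwoTrans.flag (h : TwoTrans G P) {A A' : P} {l l' : L} (hA : A ∈ l) (hA' : A' ∈ l') :
    ∃ g : G, g • A = A' ∧ g • l = l' := by
  obtain ⟨B, hB, hBA⟩ := exists_mem_ne P l A
  obtain ⟨B', hB', hBA'⟩ := exists_mem_ne P l' A'
  obtain ⟨g, h1, h2⟩ := h A B A' B' hBA.symm hBA'.symm
  exact ⟨g, h1, line_eq hBA'.symm (h1 ▸ smul_mem g hA) (h2 ▸ smul_mem g hB) hA' hB'⟩

theorem TwoTrans.antiflag (h : TwoTrans G P) {O O' : P} {l l' : L} (hO : O ∉ l) (hO' : O' ∉ l') :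
    ∃ g : G, g • O = O' ∧ g • l = l' := by
  obtain ⟨g, hg⟩ := h.point L O O'
  have hgl : O' ∉ g • l := fun hm => hO ((PlaneAction.smul_mem_smul g O l).1 (hg.symm ▸ hm))
  obtain ⟨u, hu, hul⟩ := orbit_transfer (MulAction.stabilizer G O') (fun x : P => x = O')
    (fun x y hxy => by
      by_cases hx : x = O'
      · exact ⟨1, one_mem _, by rw [one_smul, hx, hxy.1 hx]⟩
      · obtain ⟨u, h1, h2⟩ := h O' x O' y (Ne.symm hx) fun e => hx (hxy.2 e.symm)
        exact ⟨u, h1, h2⟩)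
    (fun m : L => O' ∈ m) (fun u hu m hm => mem_smul_of_fixed hu hm)
    (by obtain ⟨m, hm, -⟩ := exists_join L O' O'; exact ⟨m, hm⟩) hgl hO'
  exact ⟨u * g, by rw [mul_smul, hg, hu], by rw [mul_smul, hul]⟩

theorem TwoTrans.dual (h : TwoTrans G P) : TwoTrans G (Dual L) := by
  intro l m l' m' hlm hlm'
  change L at l m l' m'
  obtain ⟨A, hA, -⟩ := exists_join (P := Dual L) (Dual P) l l
  obtain ⟨A', hA', -⟩ := exists_join (P := Dual L) (Dual P) l' l'
  obtain ⟨g, -, hg⟩ := h.flag (L := L) (l := l) (l' := l') hA hA'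
  have hgm : g • m ≠ l' := fun e => hlm (smul_left_cancel g (hg.trans e.symm))
  obtain ⟨u, hu, hum⟩ := orbit_transfer (P := P) (MulAction.stabilizer G (l' : L))
    (fun x : P => x ∈ l')
    (fun x y hxy => by
      by_cases hx : x ∈ l'
      · obtain ⟨u, h1, h2⟩ := h.flag hx (hxy.1 hx)
        exact ⟨u, h2, h1⟩
      · obtain ⟨u, h1, h2⟩ := h.antiflag hx fun e => hx (hxy.2 e)
        exact ⟨u, h2, h1⟩)
    (fun k : L => k = l') (fun u hu k hk => by
      have hu' : u • l' = l' := hu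
      show u • k = l'
      rw [show k = l' from hk, hu'])
    ⟨l', rfl⟩ hgm (fun e => hlm' e.symm)
  exact ⟨u * g, (mul_smul u g l).trans ((congrArg (u • ·) hg).trans hu),
    (mul_smul u g m).trans hum⟩

theorem TwoTrans.lines (h : TwoTrans G P) (l m : L) : ∃ g : G, g • l = m := by
  obtain ⟨A, hA, -⟩ := exists_join (P := Dual L) (Dual P) l l
  obtain ⟨B, hB, -⟩ := exists_join (P := Dual L) (Dual P) m m
  obtain ⟨g, -, hg⟩ := h.flag (L := L) hA hB
  exact ⟨g, hg⟩

theorem TwoTrans.orb_line (h : TwoTrans G P) {A : P} {l : L} (hA : A ∈ l) :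
    orb (MulAction.stabilizer G l) A = {p : P | p ∈ l} := by
  ext p
  constructor
  · rintro ⟨u, hu, rfl⟩; exact (mem_of_fixed hu hA : u • A ∈ l)
  · intro hp
    obtain ⟨g, h1, h2⟩ := h.flag hA hp
    exact ⟨g, h2, h1⟩

theorem TwoTrans.orb_off (h : TwoTrans G P) {O : P} {l : L} (hO : O ∉ l) :
    orb (MulAction.stabilizer G l) O = {p : P | p ∉ l} := by
  ext p
  constructor
  · rintro ⟨u, hu, rfl⟩ hp
    rw [← (hu : u • l = l)] at hp
    exact hO ((PlaneAction.smul_mem_smul u O l).1 hp)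
  · intro hp
    obtain ⟨g, h1, h2⟩ := h.antiflag hO hp
    exact ⟨g, h2, h1⟩

theorem TwoTrans.triple (h : TwoTrans G P) {A A' O O' : P} {l l' : L} (hA : A ∈ l) (hA' : A' ∈ l')
    (hO : O ∉ l) (hO' : O' ∉ l') : ∃ g : G, g • A = A' ∧ g • l = l' ∧ g • O = O' := by
  obtain ⟨g, hgO, hgl⟩ := h.antiflag hO hO'
  set H := MulAction.stabilizer G l' with hH
  set K := (H ⊓ MulAction.stabilizer G O' : Subgroup G) with hK
  set n := ProjectivePlane.order P L with hn
  have e1 := orb_ncard_mul H O'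
  have e2 := orb_ncard_mul H A'
  rw [h.orb_off hO', ncard_off] at e1
  rw [h.orb_line hA', ncard_line] at e2
  have e3 := orb_ncard_mul K A'
  have e4 := orb_ncard_mul (H ⊓ MulAction.stabilizer G A') O'
  have hsame : (K ⊓ MulAction.stabilizer G A' : Subgroup G) =
      H ⊓ MulAction.stabilizer G A' ⊓ MulAction.stabilizer G O' := inf_right_comm _ _ _
  rw [hsame] at e3
  rw [← hK, ← e3] at e1
  rw [← e4, ← e1] at e2
  set x := (orb K A').ncard
  set y := (orb (H ⊓ MulAction.stabilizer G A') O').ncard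
  set c := Nat.card (H ⊓ MulAction.stabilizer G A' ⊓ MulAction.stabilizer G O' : Subgroup G)
  have hc : 0 < c := Nat.card_pos
  have hxy : (n + 1) * y = n ^ 2 * x := by
    refine Nat.eq_of_mul_eq_mul_right hc ?_
    rw [mul_assoc, e2, mul_assoc]
  have hcop : Nat.Coprime (n + 1) (n ^ 2) := Nat.Coprime.pow_right 2 (by simp)
  have hdvd : n + 1 ∣ x := hcop.dvd_of_dvd_mul_left ⟨y, hxy.symm⟩
  have hsub : orb K A' ⊆ {p : P | p ∈ l'} := by
    rintro p ⟨u, hu, rfl⟩; exact (mem_of_fixed hu.1 hA' : u • A' ∈ l')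
  have hpos : 0 < x := (Set.ncard_pos (Set.toFinite _)).2 ⟨A', self_mem_orb K A'⟩
  have heq := Set.eq_of_subset_of_ncard_le hsub
    (by rw [ncard_line]; exact Nat.le_of_dvd hpos hdvd) (Set.toFinite _)
  have hgA : g • A ∈ orb K A' := heq.ge (hgl ▸ smul_mem g hA)
  obtain ⟨u, hu, huA⟩ := hgA
  refine ⟨u⁻¹ * g, ?_, ?_, ?_⟩
  · rw [mul_smul, ← huA, inv_smul_smul]
  · rw [mul_smul, hgl, inv_smul_eq_iff]; exact hu.1.symm
  · rw [mul_smul, hgO, inv_smul_eq_iff]; exact hu.2.symm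

theorem order_dvd_stab_pair (h : TwoTrans G P) {A B : P} (hAB : A ≠ B) :
    ProjectivePlane.order P L ∣
      Nat.card (MulAction.stabilizer G A ⊓ MulAction.stabilizer G B : Subgroup G) := by
  set n := ProjectivePlane.order P L with hn
  obtain ⟨l, hA, hB⟩ := exists_join L A B
  obtain ⟨O, hO⟩ := exists_not_mem P l
  set H := MulAction.stabilizer G l with hH
  have e1 := orb_ncard_mul H O
  have e2 := orb_ncard_mul H A
  rw [h.orb_off hO, ncard_off] at e1
  rw [h.orb_line hA, ncard_line] at e2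
  have e3 := orb_ncard_mul (H ⊓ MulAction.stabilizer G A) B
  have ho : orb (H ⊓ MulAction.stabilizer G A) B = {p : P | p ∈ l ∧ p ≠ A} := by
    ext p
    constructor
    · rintro ⟨u, hu, rfl⟩
      refine ⟨(mem_of_fixed hu.1 hB : u • B ∈ l), fun e => hAB (smul_left_cancel u ?_).symm⟩
      rw [e]; exact hu.2.symm
    · rintro ⟨hp, hpA⟩
      obtain ⟨g, h1, h2⟩ := h A B A p hAB hpA.symm
      exact ⟨g, ⟨fix_line_of_map hAB hA hB hp h1 h2 hpA, h1⟩, h2⟩
  rw [ho, ncard_line_diff hA] at e3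
  have hsame : (H ⊓ MulAction.stabilizer G A ⊓ MulAction.stabilizer G B : Subgroup G) =
      MulAction.stabilizer G A ⊓ MulAction.stabilizer G B := by
    rw [inf_assoc, inf_eq_right]
    exact fun u hu => fix_line hAB hA hB hu.1 hu.2
  rw [hsame] at e3
  rw [← e3, ← e1] at e2
  set b := Nat.card (MulAction.stabilizer G A ⊓ MulAction.stabilizer G B : Subgroup G)
  set c := Nat.card (H ⊓ MulAction.stabilizer G O : Subgroup G)
  have hn0 : 0 < n := by have := two_le_order P L; omega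
  have heq : (n + 1) * b = n * c := by
    refine Nat.eq_of_mul_eq_mul_left hn0 ?_
    rw [← hn] at e2
    linarith
  exact (Nat.coprime_self_add_right.2 (Nat.coprime_one_right n)).dvd_of_dvd_mul_left
    ⟨c, heq⟩
where
  fix_line_of_map {A B p : P} {l : L} {g : G} (hAB : A ≠ B) (hA : A ∈ l) (hB : B ∈ l) (hp : p ∈ l)
      (h1 : g • A = A) (h2 : g • B = p) (hpA : p ≠ A) : g • l = l :=
    line_eq hpA.symm (h1 ▸ smul_mem g hA) (h2 ▸ smul_mem g hB) hA hp

variable [FaithfulSMul G P]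

/-- A prime dividing the order divides the stabiliser of a triple. -/
theorem exists_fix_triple (h : TwoTrans G P) {p : ℕ} (hp : p.Prime)
    (hdvd : p ∣ ProjectivePlane.order P L) {A O : P} {l : L} (hA : A ∈ l) (hO : O ∉ l) :
    ∃ g : G, orderOf g = p ∧ g • A = A ∧ g • l = l ∧ g • O = O := by
  have := Fact.mk hp
  -- some triple works
  suffices hsome : ∃ (g : G) (A' O' : P) (l' : L), orderOf g = p ∧ A' ∈ l' ∧ O' ∉ l' ∧
      g • A' = A' ∧ g • l' = l' ∧ g • O' = O' by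
    obtain ⟨g, A', O', l', hg, hA', hO', g1, g2, g3⟩ := hsome
    obtain ⟨u, u1, u2, u3⟩ := h.triple hA' hA hO' hO
    refine ⟨MulAut.conj u g, ?_, ?_, ?_, ?_⟩
    · rw [MulEquiv.orderOf_eq, hg]
    all_goals rw [MulAut.conj_apply, mul_smul, mul_smul]
    · rw [← u1, inv_smul_smul, g1]
    · rw [← u2, inv_smul_smul, g2]
    · rw [← u3, inv_smul_smul, g3]
  obtain ⟨a, ha, haA⟩ := exists_mem_ne P l A
  obtain ⟨g, hg⟩ := exists_prime_orderOf_dvd_card' p
    (hdvd.trans (order_dvd_stab_pair (L := L) h haA))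
  rw [← Subgroup.orderOf_coe] at hg
  refine ⟨g, ?_⟩
  obtain ⟨ga, gA⟩ := g.2
  by_cases hX : ∃ X : P, X ∉ l ∧ (g : G) • X = X
  · obtain ⟨X, hX, gX⟩ := hX
    exact ⟨A, X, l, hg, hA, hX, gA, fix_line haA ha hA ga gA, gX⟩
  · have hfl : 2 ≤ {m : L | (g : G) • m = m}.ncard := by
      rw [← ncard_fixed_eq (P := P)]
      refine (Set.one_lt_ncard_iff (Set.toFinite _)).2 ⟨a, A, ga, gA, haA⟩
    obtain ⟨t, ht, htl⟩ := Set.exists_ne_of_one_lt_ncard hfl l
    obtain ⟨C, hCt, hCl⟩ := exists_meet P t l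
    have gC : (g : G) • C = C := fix_point htl hCt hCl ht (fix_line haA ha hA ga gA)
    by_cases hCA : C = A
    · refine ⟨C, a, t, hg, hCt, fun hat => haA ?_, gC, ht, ga⟩
      rw [← hCA]; exact point_eq htl hat ha hCt hCl
    · refine ⟨C, A, t, hg, hCt, fun hAt => hCA ?_, gC, ht, gA⟩
      exact point_eq htl hCt hCl hAt hA

theorem natCard_dirGp_smul (a : L) (X : P) (h : G) :
    Nat.card (dirGp G (h • a) (h • X)) = Nat.card (dirGp G a X) := by
  refine Nat.card_congr
    { toFun := fun g => ⟨h⁻¹ * g * h⁻¹⁻¹, ?_⟩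
      invFun := fun g => ⟨h * g * h⁻¹, elA_conj g.2.1 h, IsCentre.conj g.2.2 h⟩
      left_inv := fun g => Subtype.ext (by group)
      right_inv := fun g => Subtype.ext (by group) }
  obtain ⟨g1, g2⟩ := mem_dirGp.1 g.2
  refine mem_dirGp.2 ⟨?_, ?_⟩
  · have := elA_conj g1 h⁻¹
    rwa [inv_smul_smul] at this
  · have := g2.conj h⁻¹
    rwa [inv_smul_smul] at this

/-- One perspectivity gives all elations. -/
theorem all_elations (h : TwoTrans G P) {g : G} (hg : g ≠ 1) {a : L} (hga : IsAxis P g a) :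
    (∀ (b : L) (X : P), X ∈ b → Nat.card (dirGp G b X) = ProjectivePlane.order P L) ∧
      (∀ b : L, Nat.card (elA G P b) = ProjectivePlane.order P L ^ 2) ∧
      (∃ p x : ℕ, p.Prime ∧ ProjectivePlane.order P L = p ^ x) ∧
      ∀ b : L, ∀ u ∈ elA G P b, ∀ v ∈ elA G P b, u * v = v * u := by
  obtain ⟨C, hC⟩ := hga.exists_centre
  -- an elation
  have hel : ∃ (b : L) (e : G), e ≠ 1 ∧ e ∈ elA G P b := by
    by_cases hCa : C ∈ a
    · exact ⟨a, g, hg, hga, C, hCa, hC⟩
    by_contra hno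
    push_neg at hno
    have ha : a ∈ homAxes G L C := ⟨hCa, g, hg, hC, hga⟩
    have hE : elC G L C = ⊥ := by
      rw [Subgroup.eq_bot_iff_forall]
      intro e he
      by_contra he1
      obtain ⟨b, hb, heb⟩ := (mem_elC.1 he).2
      exact hno b e he1 ⟨heb, C, hb, (mem_elC.1 he).1⟩
    have huniq : ∀ c ∈ homAxes G L C, c = a := by
      intro c hc
      obtain ⟨e, he, hec⟩ := (andre ha).1 c hc
      rw [hE, Subgroup.mem_bot] at he
      rw [← hec, he, one_smul]
    obtain ⟨p, hp, hpC⟩ : ∃ p : P, p ∉ a ∧ p ≠ C := by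
      obtain ⟨m, hm, hma⟩ := exists_line_ne L C a
      obtain ⟨X, hXm, hXa⟩ := exists_meet P m a
      obtain ⟨r, hr, hrC, hrX⟩ := exists_mem_ne₂ P m C X
      exact ⟨r, fun hra => hrX (point_eq hma hr hra hXm hXa), hrC⟩
    obtain ⟨q, hq, -⟩ := exists_mem_ne P a C
    obtain ⟨u, hu1, hu2⟩ := h C q C p (fun e => hCa (e ▸ hq)) hpC.symm
    have := homAxes_smul ha u
    rw [hu1] at this
    exact hp (huniq _ this ▸ hu2 ▸ smul_mem u hq)
  obtain ⟨b₀, e, he1, heb, X₀, hX₀, heX⟩ := hel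
  set k := Nat.card (dirGp G b₀ X₀) with hk
  have hk1 : 1 < k := by
    refine (Subgroup.one_lt_card_iff_ne_bot _).2 fun hbot => he1 ?_
    have : e ∈ dirGp G b₀ X₀ := mem_dirGp.2 ⟨⟨heb, X₀, hX₀, heX⟩, heX⟩
    rwa [hbot, Subgroup.mem_bot] at this
  have hconst : ∀ (b : L) (X : P), X ∈ b → Nat.card (dirGp G b X) = k := by
    intro b X hX
    obtain ⟨u, u1, u2⟩ := h.flag hX₀ hX
    rw [← u1, ← u2, natCard_dirGp_smul]
  have hfull := fun b => full_of_const hk1 (hconst b)
  refine ⟨fun b X hX => (hconst b X hX).trans (hfull b).1, fun b => (hfull b).2.1,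
    (hfull b₀).2.2.1, fun b => (hfull b).2.2.2⟩

end TT

end Cfsg.Agent.CG26.OW
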